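import Groth.Agent.Misc15.AdicH1.CycBase

/-!
Fixed lattices of a cyclic `p`-group action and vanishing of the norm kernel modulo augmentations.
-/

set_option autoImplicit false
set_option linter.style.haveILetI false

open Finset

noncomputable section

namespace Groth.Misc15.AdicH1

variable {M : Type*} [AddCommGroup M]

/-- All norm kernels of the subgroups of the cyclic `p`-group generated by `σ` are augmentations. -/
structure AllVanish (σ : Module.End ℤ M) (p k : ℕ) : Prop where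
  pow_eq : σ ^ p ^ k = 1
  vanish : ∀ j ≤ k, ∀ m, nrm (σ ^ p ^ j) (p ^ (k - j)) m = 0 → ∃ y, (σ ^ p ^ j) y - y = m

theorem nrm_add (σ : Module.End ℤ M) (a b : ℕ) : nrm σ (a + b) = nrm σ a + σ ^ a * nrm σ b := by
  simp [nrm, sum_range_add, mul_sum, pow_add]

theorem nrm_mul (σ : Module.End ℤ M) (a b : ℕ) : nrm σ (a * b) = nrm (σ ^ a) b * nrm σ a := by
  induction b with
  | zero => simp [nrm_zero]
  | succ b ih =>
    rw [Nat.mul_succ, nrm_add, ih, nrm_add (σ ^ a) b 1, nrm_one, mul_one, add_mul, pow_mul]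

/-- The fixed submodule of a power. -/
def fix (σ : Module.End ℤ M) (q : ℕ) : Submodule ℤ M := LinearMap.ker (σ ^ q - 1)

theorem mem_fix {σ : Module.End ℤ M} {q : ℕ} {m : M} : m ∈ fix σ q ↔ (σ ^ q) m = m := by
  simp [fix, sub_eq_zero]

theorem pow_apply_mem_fix {σ : Module.End ℤ M} {q : ℕ} (i : ℕ) {m : M} (hm : m ∈ fix σ q) :
    (σ ^ i) m ∈ fix σ q := by
  rw [mem_fix] at hm ⊢
  rw [← Module.End.mul_apply, ← pow_add, add_comm, pow_add, Module.End.mul_apply, hm]

theorem apply_mem_fix {σ : Module.End ℤ M} {q : ℕ} {m : M} (hm : m ∈ fix σ q) : σ m ∈ fix σ q := by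
  simpa using pow_apply_mem_fix 1 hm

/-- The restriction to a fixed submodule. -/
def res (σ : Module.End ℤ M) (q : ℕ) : Module.End ℤ (fix σ q) :=
  σ.restrict fun _ h => apply_mem_fix h

theorem coe_res_pow (σ : Module.End ℤ M) (q i : ℕ) (m : fix σ q) :
    ((res σ q ^ i) m : M) = (σ ^ i) (m : M) := by
  induction i generalizing m with
  | zero => rfl
  | succ i ih => rw [pow_succ, pow_succ, Module.End.mul_apply, Module.End.mul_apply, ih]; rfl

theorem coe_nrm_res (σ : Module.End ℤ M) (q a b : ℕ) (m : fix σ q) :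
    (nrm (res σ q ^ a) b m : M) = nrm (σ ^ a) b (m : M) := by
  rw [nrm_apply, nrm_apply, Submodule.coe_sum]
  refine Finset.sum_congr rfl fun i _ => ?_
  rw [← pow_mul, ← pow_mul, coe_res_pow]

theorem allVanish_res {σ : Module.End ℤ M} {p k : ℕ} (h : AllVanish σ p (k + 1)) :
    AllVanish (res σ (p ^ k)) p k := by
  refine ⟨LinearMap.ext fun m => Subtype.ext ?_, fun j hj m hm => ?_⟩
  · rw [coe_res_pow, mem_fix.1 m.2, Module.End.one_apply]
  · have e1 : p ^ j * p ^ (k - j) = p ^ k := by rw [← pow_add, Nat.add_sub_of_le hj]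
    have e2 : p ^ (k + 1 - j) = p ^ (k - j) * p := by
      rw [← pow_succ, Nat.sub_add_comm hj]
    have hm' : nrm (σ ^ p ^ j) (p ^ (k - j)) (m : M) = 0 := by
      rw [← coe_nrm_res, hm, Submodule.coe_zero]
    obtain ⟨y, hy⟩ := h.vanish j (hj.trans k.le_succ) (m : M) (by
      rw [e2, nrm_mul, Module.End.mul_apply, hm', map_zero])
    have hy' : y ∈ fix σ (p ^ k) := by
      rw [mem_fix, ← sub_eq_zero, ← e1, pow_mul,
        show ((σ ^ p ^ j) ^ p ^ (k - j)) y - y = ((σ ^ p ^ j) ^ p ^ (k - j) - 1) y from rfl,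
        ← nrm_sub_one, Module.End.mul_apply]
      show nrm (σ ^ p ^ j) _ ((σ ^ p ^ j) y - y) = 0
      rw [hy, hm']
    exact ⟨⟨y, hy'⟩, Subtype.ext (by rw [Submodule.coe_sub, coe_res_pow]; exact hy)⟩

theorem isTorsionFree_quotient_fix [Module.IsTorsionFree ℤ M] (σ : Module.End ℤ M) (q : ℕ) (d : ℤ)
    (hd : d ≠ 0) (m : M) (h : d • m ∈ fix σ q) : m ∈ fix σ q := by
  rw [mem_fix, map_smul] at h
  exact mem_fix.2 (smul_right_injective M hd h)

theorem exists_retraction [Module.Free ℤ M] [Module.Finite ℤ M] (σ : Module.End ℤ M) (q : ℕ) :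
    ∃ π : M →ₗ[ℤ] fix σ q, ∀ x : fix σ q, π (x : M) = x := by
  haveI : Module.IsTorsionFree ℤ (M ⧸ fix σ q) := by
    refine (Module.isTorsionFree_iff_smul_eq_zero (R := ℤ) (M := M ⧸ fix σ q)).2 fun d x hx => ?_
    by_contra hc
    rw [not_or] at hc
    obtain ⟨m, rfl⟩ := Submodule.Quotient.mk_surjective _ x
    rw [← Submodule.Quotient.mk_smul, Submodule.Quotient.mk_eq_zero] at hx
    exact hc.2 ((Submodule.Quotient.mk_eq_zero _).2 (isTorsionFree_quotient_fix σ q d hc.1 m hx))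
  haveI : Module.Free ℤ (M ⧸ fix σ q) := Module.free_of_finite_type_torsion_free'
  obtain ⟨s, hs⟩ := Module.projective_lifting_property (fix σ q).mkQ LinearMap.id (Submodule.mkQ_surjective _)
  have hs' : ∀ x, (fix σ q).mkQ (s x) = x := fun x => LinearMap.congr_fun hs x
  have hmem : ∀ m : M, ((LinearMap.id : M →ₗ[ℤ] M) - s ∘ₗ (fix σ q).mkQ : M →ₗ[ℤ] M) m ∈ fix σ q := fun m => by
    rw [← Submodule.Quotient.mk_eq_zero]
    show (fix σ q).mkQ (m - s ((fix σ q).mkQ m)) = 0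
    rw [map_sub, hs', sub_self]
  refine ⟨LinearMap.codRestrict _ _ hmem, fun x => Subtype.ext ?_⟩
  show (x : M) - s ((fix σ q).mkQ (x : M)) = (x : M)
  rw [show (fix σ q).mkQ (x : M) = 0 from (Submodule.Quotient.mk_eq_zero _).2 x.2, map_zero, sub_zero]

theorem nrm_mem_fix {σ : Module.End ℤ M} {p k : ℕ} (h : σ ^ p ^ (k + 1) = 1) (m : M) :
    nrm (σ ^ p ^ k) p m ∈ fix σ (p ^ k) := by
  rw [mem_fix, ← sub_eq_zero]
  show ((σ ^ p ^ k - 1) * nrm (σ ^ p ^ k) p) m = 0
  rw [sub_one_nrm, ← pow_mul, ← pow_succ, h, sub_self, LinearMap.zero_apply]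

end Groth.Misc15.AdicH1
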