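import Groth.Agent.Misc15.GLat.Resolutions
import Groth.Agent.Misc15.AdicH1.CycFixed

/-!
Auxiliary facts on lattices with actions of finite groups, in small universes.
-/

set_option autoImplicit false
set_option linter.style.haveILetI false

universe u

open Finset GLat

noncomputable section

namespace Groth.Misc15.AdicH1

theorem nrm_pow_sub_one {M : Type*} [AddCommGroup M] (σ : Module.End ℤ M) (i : ℕ) (y : M) :
    ∃ z, (σ ^ i) y - y = σ z - z :=
  ⟨nrm σ i y, by
    show (σ ^ i - 1) y = (σ - 1) (nrm σ i y)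
    rw [← Module.End.mul_apply, sub_one_nrm]⟩

/-- The norm condition for a pullback of a flasque lattice. -/
theorem vanish_of_flasque {Γ : Type*} [Group Γ] [Finite Γ] {S : Type*} [AddCommGroup S]
    [Module.IsTorsionFree ℤ S] {ρ : Representation ℤ Γ S} (h : IsFlasque ρ) {G : Type*} [Group G]
    (φ : G →* Γ) (g : G) (n : ℕ) (hg : g ^ n = 1) (hn : 0 < n) (s : S)
    (hs : nrm ((ρ.comp φ) g) n s = 0) : ∃ y, (ρ.comp φ) g y - y = s := by
  classical
  set u := φ g with hu
  rw [MonoidHom.comp_apply, ← hu] at hs ⊢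
  set o := orderOf u with ho
  have hopos : 0 < o := orderOf_pos u
  obtain ⟨m, hm⟩ : o ∣ n := orderOf_dvd_of_pow_eq_one (by rw [hu, ← map_pow, hg, map_one])
  have hper : ρ u ^ o = 1 := by rw [← map_pow, pow_orderOf_eq_one, map_one]
  have hno : nrm (ρ u) o s = 0 := by
    rw [hm, nrm_mul, hper, Module.End.mul_apply, nrm_of_fixed _ _ _ rfl] at hs
    have hm0 : (m : ℤ) ≠ 0 := by
      have : m ≠ 0 := fun h0 => by subst h0; simp at hm; omega
      exact_mod_cast this
    exact (smul_eq_zero_iff_right hm0).1 hs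
  have hfin : (∑ᶠ x : Subgroup.zpowers u, ρ (x : Γ) s) = nrm (ρ u) o s := by
    rw [nrm_apply, ← finsum_comp_equiv (finEquivZPowers (isOfFinOrder_of_finite u)), finsum_eq_sum_of_fintype,
      Fin.sum_univ_eq_sum_range (fun i => (ρ u ^ i) s) o |>.symm]
    exact Finset.sum_congr rfl fun i _ => by simp [finEquivZPowers_apply]
  have hspan := h (Subgroup.zpowers u) s (hfin.trans hno)
  have hle : Submodule.span ℤ {x : S | ∃ (h : Subgroup.zpowers u) (y : S), x = ρ (h : Γ) y - y} ≤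
      LinearMap.range (ρ u - 1) := by
    rw [Submodule.span_le]
    rintro _ ⟨⟨x, hx⟩, y, rfl⟩
    obtain ⟨i, rfl⟩ := mem_powers_iff_mem_zpowers.2 hx
    obtain ⟨z, hz⟩ := nrm_pow_sub_one (ρ u) i y
    refine ⟨z, ?_⟩
    show ρ u z - z = ρ (u ^ i) y - y
    rw [map_pow, hz]
  obtain ⟨y, hy⟩ := hle hspan
  exact ⟨y, hy⟩

theorem exists_permAction {Γ : Type*} [Group Γ] {P : Type*} [AddCommGroup P] {σ : Representation ℤ Γ P}
    (h : IsPermutation σ) [Module.Finite ℤ P] :
    ∃ (ι : Type) (_ : Fintype ι) (a : Γ →* Equiv.Perm ι) (e : P ≃ₗ[ℤ] (ι → ℤ)),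
      ∀ g p i, e (σ g p) i = e p ((a g).symm i) := by
  classical
  obtain ⟨ι, b, hb⟩ := h
  haveI : Finite ι := Module.Finite.finite_basis b
  haveI := Fintype.ofFinite ι
  choose f hf using hb
  have hone : f 1 = id := funext fun i => b.injective (by rw [← hf, map_one]; rfl)
  have hmul : ∀ g g' i, f (g * g') i = f g (f g' i) := fun g g' i => b.injective (by
    rw [← hf, map_mul, Module.End.mul_apply, hf, hf])
  let a : Γ →* Equiv.Perm ι := MonoidHom.mk'
    (fun g => ⟨f g, f g⁻¹, fun i => by rw [← hmul, inv_mul_cancel, hone]; rfl,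
      fun i => by rw [← hmul, mul_inv_cancel, hone]; rfl⟩)
    fun g g' => Equiv.ext fun i => hmul g g' i
  refine ⟨ι, inferInstance, a, b.equivFun, fun g p i => ?_⟩
  have h2 : (LinearMap.proj i : (ι → ℤ) →ₗ[ℤ] ℤ) ∘ₗ b.equivFun.toLinearMap ∘ₗ σ g =
      (LinearMap.proj ((a g).symm i) : (ι → ℤ) →ₗ[ℤ] ℤ) ∘ₗ b.equivFun.toLinearMap := b.ext fun k => by
    simp only [LinearMap.comp_apply, LinearEquiv.coe_coe, LinearMap.proj_apply, hf,
      Module.Basis.equivFun_self]
    exact if_congr ((Equiv.eq_symm_apply (a g)).symm) rfl rfl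
  exact LinearMap.congr_fun h2 p

/-- A map which is injective with cokernel torsion killed by `D` has a left inverse up to `D`. -/
theorem exists_left_inverse_up_to {Q W : Type*} [AddCommGroup Q] [AddCommGroup W] [Module.Free ℤ W]
    [Module.Finite ℤ W] (b : Q →ₗ[ℤ] W) (hb : Function.Injective b) (D : ℤ)
    (hsat : ∀ x : W, ∀ k : ℤ, k ≠ 0 → k • x ∈ LinearMap.range b → D • x ∈ LinearMap.range b) :
    ∃ l : W →ₗ[ℤ] Q, ∀ q, l (b q) = D • q := by
  let S : Submodule ℤ W :=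
    { carrier := {x | ∃ k : ℤ, k ≠ 0 ∧ k • x ∈ LinearMap.range b}
      add_mem' := fun {x y} ⟨k, hk, hx⟩ ⟨k', hk', hy⟩ => ⟨k * k', mul_ne_zero hk hk', by
        rw [smul_add]
        refine add_mem ?_ ?_
        · rw [mul_comm, mul_smul]; exact Submodule.smul_mem _ _ hx
        · rw [mul_smul]; exact Submodule.smul_mem _ _ hy⟩
      zero_mem' := ⟨1, one_ne_zero, by simp⟩
      smul_mem' := fun c x ⟨k, hk, hx⟩ => ⟨k, hk, by rw [smul_comm]; exact Submodule.smul_mem _ _ hx⟩ }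
  haveI : Module.IsTorsionFree ℤ (W ⧸ S) := by
    refine (Module.isTorsionFree_iff_smul_eq_zero (R := ℤ) (M := W ⧸ S)).2 fun d x hx => ?_
    obtain ⟨x, rfl⟩ := Submodule.Quotient.mk_surjective _ x
    by_cases hd : d = 0
    · exact Or.inl hd
    rw [← Submodule.Quotient.mk_smul, Submodule.Quotient.mk_eq_zero] at hx
    obtain ⟨k, hk, hkx⟩ := hx
    exact Or.inr ((Submodule.Quotient.mk_eq_zero _).2 ⟨k * d, mul_ne_zero hk hd, by rwa [mul_smul]⟩)
  haveI : Module.Free ℤ (W ⧸ S) := Module.free_of_finite_type_torsion_free'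
  obtain ⟨s, hs⟩ := Module.projective_lifting_property S.mkQ LinearMap.id (Submodule.mkQ_surjective _)
  have hmem : ∀ x, D • ((LinearMap.id : W →ₗ[ℤ] W) - s ∘ₗ S.mkQ : W →ₗ[ℤ] W) x ∈ LinearMap.range b := by
    intro x
    have hx : ((LinearMap.id : W →ₗ[ℤ] W) - s ∘ₗ S.mkQ : W →ₗ[ℤ] W) x ∈ S := by
      rw [← Submodule.Quotient.mk_eq_zero]
      show S.mkQ (x - s (S.mkQ x)) = 0
      rw [map_sub, show S.mkQ (s (S.mkQ x)) = S.mkQ x from LinearMap.congr_fun hs _, sub_self]
    obtain ⟨k, hk, hkx⟩ := hx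
    exact hsat _ k hk hkx
  refine ⟨(LinearEquiv.ofInjective b hb).symm.toLinearMap ∘ₗ LinearMap.codRestrict _ (D • _) hmem, fun q => ?_⟩
  show (LinearEquiv.ofInjective b hb).symm _ = D • q
  rw [LinearEquiv.symm_apply_eq]
  refine Subtype.ext ?_
  show D • (b q - s (S.mkQ (b q))) = b (D • q)
  rw [show S.mkQ (b q) = 0 from (Submodule.Quotient.mk_eq_zero _).2 ⟨1, one_ne_zero, by simp⟩, map_zero,
    sub_zero, map_smul]

theorem exists_small_group (H : Type u) [Group H] [Finite H] :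
    ∃ (H₀ : Type) (_ : Group H₀) (_ : Finite H₀), Nonempty (H ≃* H₀) := by
  obtain ⟨H', i1, i2, h⟩ := Finite.exists_type_univ_nonempty_mulEquiv.{u, 0} H
  haveI := i2
  exact ⟨H', i1, Finite.of_fintype H', h⟩

end Groth.Misc15.AdicH1
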