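import Mathlib

/-!
Openness of a monomial map between equivariant unit families over a complete normed field.
-/

set_option autoImplicit false
set_option linter.style.haveILetI false

open Finset Filter Topology

noncomputable section

namespace Groth.Misc15.AdicH1

variable {𝕜 L : Type*} [NontriviallyNormedField 𝕜] [CompleteSpace 𝕜] [NontriviallyNormedField L] [NormedAlgebra 𝕜 L]
  [FiniteDimensional 𝕜 L] {G : Type*} [Group G] [Fintype G] (α : G →* (L ≃ₐ[𝕜] L))
  {ι κ : Type*} [Fintype ι] [Fintype κ]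

/-- equivariant families -/
def eqv (a : G →* Equiv.Perm ι) : Submodule 𝕜 (ι → L) where
  carrier := {v | ∀ g i, v (a g i) = α g (v i)}
  add_mem' := fun {u v} hu hv g i => by simp [hu g i, hv g i]
  zero_mem' := fun g i => by simp
  smul_mem' := fun c v hv g i => by
    show c • v (a g i) = α g (c • v i)
    rw [hv g i, map_smul]

/-- the average with weight `w` -/
def avg (w : L) (a : G →* Equiv.Perm ι) : (ι → L) →ₗ[𝕜] (ι → L) where
  toFun v i := ∑ g, α g (w * v ((a g).symm i))
  map_add' u v := funext fun i => by simp [mul_add, sum_add_distrib]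
  map_smul' c v := funext fun i => by simp [mul_smul_comm, Finset.smul_sum]

theorem avg_mem (w : L) (a : G →* Equiv.Perm ι) (v : ι → L) : avg α w a v ∈ eqv α a := by
  intro h i
  show ∑ g, α g (w * v ((a g).symm (a h i))) = α h (∑ g, α g (w * v ((a g).symm i)))
  rw [map_sum]
  refine Eq.trans (Equiv.sum_comp (Equiv.mulLeft h) fun g => α g (w * v ((a g).symm (a h i)))).symm ?_
  refine Finset.sum_congr rfl fun g _ => ?_
  show α (h * g) (w * v ((a (h * g)).symm (a h i))) = _
  rw [map_mul α, map_mul a]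
  show α h (α g (w * v ((a h * a g).symm (a h i)))) = _
  congr 3
  refine congrArg v ((Equiv.symm_apply_eq _).2 ?_)
  show a h i = a h (a g ((a g).symm i))
  rw [Equiv.apply_symm_apply]

theorem avg_of_mem {w : L} (hw : ∑ g, α g w = 1) (a : G →* Equiv.Perm ι) {v : ι → L} (hv : v ∈ eqv α a) :
    avg α w a v = v := by
  funext i
  show ∑ g, α g (w * v ((a g).symm i)) = v i
  have h : ∀ g, α g (w * v ((a g).symm i)) = α g w * v i := fun g => by
    rw [map_mul, ← hv g, Equiv.apply_symm_apply]
  rw [Finset.sum_congr rfl fun g _ => h g, ← Finset.sum_mul, hw, one_mul]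

omit [CompleteSpace 𝕜] [FiniteDimensional 𝕜 L] in
theorem exists_weight (hα : Function.Injective α) : ∃ w : L, ∑ g, α g w = 1 := by
  have hinj : Function.Injective fun g : G => ((α g : L →ₐ[𝕜] L) : L →* L) := fun g h e =>
    hα (AlgEquiv.ext fun x => DFunLike.congr_fun e x)
  obtain ⟨y, hy⟩ : ∃ y, ∑ g : G, α g y ≠ 0 := by
    by_contra! hc
    exact one_ne_zero (Fintype.linearIndependent_iff.1 ((linearIndependent_monoidHom L L).comp _ hinj)
      (fun _ => (1 : L)) (funext fun y => by simpa using hc y) 1)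
  set s := ∑ g : G, α g y with hs
  have hfix : ∀ h, α h s = s := fun h => by
    rw [hs, map_sum]
    exact Fintype.sum_equiv (Equiv.mulLeft h) _ _ fun g => by rw [Equiv.coe_mulLeft, map_mul]; rfl
  refine ⟨s⁻¹ * y, ?_⟩
  simp only [map_mul, map_inv₀, hfix, ← Finset.mul_sum, ← hs, inv_mul_cancel₀ hy]

/-- Equivariant monomial maps with a surjective differential hit a neighbourhood of one. -/
theorem exists_nhds_monomial (hα : Function.Injective α) (a : G →* Equiv.Perm ι) (b : G →* Equiv.Perm κ)
    (n : κ → ι → ℤ) (hn : ∀ g j i, n (b g j) (a g i) = n j i) (l : ι → κ → ℤ) {d : ℤ} (hd : (d : L) ≠ 0)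
    [DecidableEq κ] (hl : ∀ j j', ∑ i, n j i * l i j' = if j = j' then d else 0) :
    ∀ᶠ t in 𝓝 (1 : κ → L), (∀ g j, t (b g j) = α g (t j)) →
      ∃ v : ι → L, (∀ i, v i ≠ 0) ∧ (∀ g i, v (a g i) = α g (v i)) ∧ ∀ j, t j = ∏ i, v i ^ n j i := by
  classical
  obtain ⟨w, hw⟩ := exists_weight α hα
  let V := eqv α a
  let W := eqv α b
  haveI : CompleteSpace V := FiniteDimensional.complete 𝕜 V
  haveI : CompleteSpace W := FiniteDimensional.complete 𝕜 W
  let P : (κ → L) →L[𝕜] W :=
    (LinearMap.codRestrict W (avg α w b) fun t => avg_mem α w b t).toContinuousLinearMap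
  have hP : ∀ t (ht : t ∈ W), P t = ⟨t, ht⟩ := fun t ht => Subtype.ext (avg_of_mem α hw b ht)
  let F : (ι → L) → (κ → L) := fun x j => ∏ i, (1 + x i) ^ n j i
  let F' : (ι → L) →L[L] (κ → L) :=
    ContinuousLinearMap.pi fun j => ∑ i, (n j i : L) • ContinuousLinearMap.proj (φ := fun _ : ι => L) i
  have hF : HasStrictFDerivAt F F' 0 := by
    refine hasStrictFDerivAt_pi.2 fun j => ?_
    have h1 : ∀ i ∈ (univ : Finset ι), HasStrictFDerivAt (fun x : ι → L => (1 + x i) ^ n j i)
        ((n j i : L) • ContinuousLinearMap.proj (φ := fun _ : ι => L) i) 0 := fun i _ => by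
      have h2 := (hasStrictDerivAt_zpow (n j i) (1 + (0 : ι → L) i) (Or.inl (by simp))).comp_hasStrictFDerivAt
        (0 : ι → L) ((ContinuousLinearMap.proj (R := L) (φ := fun _ : ι => L) i).hasStrictFDerivAt.const_add 1)
      simpa [Function.comp_def] using h2
    have h3 := HasStrictFDerivAt.finsetProd h1
    simpa [F] using h3
  let f : V → W := fun v => P (F v)
  let f' : V →L[𝕜] W := P.comp ((F'.restrictScalars 𝕜).comp V.subtypeL)
  have hf : HasStrictFDerivAt f f' 0 :=
    P.hasStrictFDerivAt.comp (0 : V) ((hF.restrictScalars 𝕜).comp (0 : V) V.subtypeL.hasStrictFDerivAt)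
  have hFmem : ∀ v : V, F v ∈ W := fun v g j => by
    show ∏ i, (1 + (v : ι → L) i) ^ n (b g j) i = α g (∏ i, (1 + (v : ι → L) i) ^ n j i)
    rw [map_prod]
    refine Eq.trans (Equiv.prod_comp (a g) fun i => (1 + (v : ι → L) i) ^ n (b g j) i).symm ?_
    refine Finset.prod_congr rfl fun i _ => ?_
    rw [hn, map_zpow₀, map_add, map_one, v.2 g i]
  have hsurj : f'.range = ⊤ := by
    rw [LinearMap.range_eq_top]
    intro t
    let u : ι → L := fun i => (d : L)⁻¹ * ∑ j', (l i j' : L) * (t : κ → L) j'
    refine ⟨⟨avg α w a u, avg_mem α w a u⟩, Subtype.ext ?_⟩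
    have hu : ∀ j, ∑ i, (n j i : L) * u i = (t : κ → L) j := fun j => by
      have : ∑ i, (n j i : L) * u i = (d : L)⁻¹ * ∑ j', ((∑ i, n j i * l i j' : ℤ) : L) * (t : κ → L) j' := by
        simp only [u, Finset.mul_sum, Int.cast_sum, Int.cast_mul, Finset.sum_mul]
        rw [Finset.sum_comm]
        exact Finset.sum_congr rfl fun j' _ => Finset.sum_congr rfl fun i _ => by ring
      rw [this]
      simp [hl, hd]
    have hF' : ∀ x : ι → L, F' x = fun j => ∑ i, (n j i : L) * x i := fun x => by
      funext j; simp [F']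
    have key : F' (avg α w a u) = (t : κ → L) := by
      rw [hF']
      funext j
      show ∑ i, (n j i : L) * ∑ g, α g (w * u ((a g).symm i)) = _
      have h : ∀ g, ∑ i, (n j i : L) * α g (w * u ((a g).symm i)) = α g w * (t : κ → L) j := fun g => by
        refine Eq.trans (Equiv.sum_comp (a g) fun i => (n j i : L) * α g (w * u ((a g).symm i))).symm ?_
        simp only [Equiv.symm_apply_apply]
        have e : ∀ i, n j (a g i) = n ((b g).symm j) i := fun i => by
          conv_lhs => rw [← (b g).apply_symm_apply j, hn]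
        calc ∑ i, (n j (a g i) : L) * α g (w * u i)
            = α g (w * ∑ i, (n ((b g).symm j) i : L) * u i) := by
              rw [Finset.mul_sum, map_sum]
              exact Finset.sum_congr rfl fun i _ => by rw [e]; conv_rhs => rw [mul_left_comm, map_mul, map_intCast]
          _ = _ := by rw [hu, map_mul, ← t.2 g, Equiv.apply_symm_apply]
      simp only [Finset.mul_sum]
      rw [Finset.sum_comm, Finset.sum_congr rfl fun g _ => h g, ← Finset.sum_mul, hw, one_mul]
    show (P (F' (avg α w a u)) : κ → L) = t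
    rw [key, hP _ t.2]
  have hmap := hf.map_nhds_eq_of_surj hsurj
  have hne : ∀ᶠ (v : V) in 𝓝 (0 : V), ∀ i, 1 + (v : ι → L) i ≠ 0 := eventually_all.2 fun i => by
    have hc : ContinuousAt (fun v : V => 1 + (v : ι → L) i) 0 :=
      (continuous_const.add ((continuous_apply i).comp continuous_subtype_val)).continuousAt
    exact hc.eventually_ne (by simp)
  have hnb : f '' {v : V | ∀ i, 1 + (v : ι → L) i ≠ 0} ∈ 𝓝 (f 0) := hmap ▸ image_mem_map hne
  have hf0 : f 0 = P 1 := by
    show P (F ((0 : V) : ι → L)) = P 1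
    congr 1
    funext j
    simp [F]
  rw [hf0] at hnb
  filter_upwards [P.continuous.continuousAt.preimage_mem_nhds hnb] with t ⟨v, hv, hvt⟩ htW
  refine ⟨fun i => 1 + (v : ι → L) i, hv, fun g i => by dsimp only; rw [v.2 g i, map_add, map_one], fun j => ?_⟩
  have h : (P (F v) : κ → L) = P t := congrArg Subtype.val hvt
  rw [hP _ (hFmem v), hP t htW] at h
  exact (congrFun h j).symm

end Groth.Misc15.AdicH1
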