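import Groth.Agent.Misc15.AdicH1.PermExt
import Groth.Agent.Misc15.AdicH1.Open
import Groth.Agent.Misc15.AdicH1.LatticeAux

/-!
Over a completion, equivariant characters of the kernel of a permutation cover are products of an extendable
one and a rational one, when the decomposition group acts on the quotient through a group with cyclic Sylows.
-/

set_option autoImplicit false
set_option linter.style.haveILetI false

universe u v

open Finset GLat

noncomputable section

namespace Groth.Misc15.AdicH1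

section Defs

/-- The ring automorphisms underlying a group of algebra automorphisms. -/
def ringAut {R L : Type*} [CommSemiring R] [Semiring L] [Algebra R L] {G : Type*} [Group G]
    (α : G →* (L ≃ₐ[R] L)) : G →* (L ≃+* L) where
  toFun g := (α g).toRingEquiv
  map_one' := by ext x; simp
  map_mul' g h := by ext x; simp

theorem ringAut_apply {R L : Type*} [CommSemiring R] [Semiring L] [Algebra R L] {G : Type*} [Group G]
    (α : G →* (L ≃ₐ[R] L)) (g : G) (x : L) : ringAut α g x = α g x := rfl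

theorem ringAut_injective {R L : Type*} [CommSemiring R] [Semiring L] [Algebra R L] {G : Type*} [Group G]
    {α : G →* (L ≃ₐ[R] L)} (h : Function.Injective α) : Function.Injective (ringAut α) := fun g g' e =>
  h (AlgEquiv.ext fun x => RingEquiv.congr_fun e x)

/-- The regular permutation module. -/
def regRep (Γ : Type u) [Group Γ] (J : Type*) : Representation ℤ Γ (Γ × J → ℤ) where
  toFun γ := LinearMap.funLeft ℤ ℤ fun x => (γ⁻¹ * x.1, x.2)
  map_one' := by ext q x; simp [LinearMap.funLeft_apply]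
  map_mul' a b := by ext q x; simp [LinearMap.funLeft_apply, mul_assoc]

theorem regRep_apply {Γ : Type u} [Group Γ] {J : Type*} (γ : Γ) (q : Γ × J → ℤ) (x : Γ × J) :
    regRep Γ J γ q x = q (γ⁻¹ * x.1, x.2) := rfl

theorem regRep_single {Γ : Type u} [Group Γ] [DecidableEq Γ] {J : Type*} [DecidableEq J] (γ : Γ) (x : Γ × J) :
    regRep Γ J γ (Pi.single x 1) = Pi.single (γ * x.1, x.2) 1 := by
  funext y
  rw [regRep_apply, Pi.single_apply, Pi.single_apply]
  refine if_congr ?_ rfl rfl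
  rw [Prod.ext_iff, Prod.ext_iff]
  simp [inv_mul_eq_iff_eq_mul]

/-- The map on units induced by a ring map, additively. -/
def addUnitsMap {R S : Type*} [CommSemiring R] [CommSemiring S] (f : R →+* S) : Additive Rˣ →ₗ[ℤ] Additive Sˣ :=
  (MonoidHom.toAdditive (Units.map (f : R →* S))).toIntLinearMap

theorem addUnitsMap_apply {R S : Type*} [CommSemiring R] [CommSemiring S] (f : R →+* S) (x : Additive Rˣ) :
    ((addUnitsMap f x).toMul : S) = f (x.toMul : R) := rfl

theorem units_ext {R : Type*} [CommSemiring R] {x y : Additive Rˣ} (h : (x.toMul : R) = y.toMul) : x = y :=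
  Additive.toMul.injective (Units.ext h)

theorem toMul_linear {L : Type*} [Field L] {ι : Type*} [Fintype ι] (F : (ι → ℤ) →ₗ[ℤ] Additive Lˣ)
    (v : ι → ℤ) [DecidableEq ι] :
    ((F v).toMul : L) = ∏ i, ((F (Pi.single i 1)).toMul : L) ^ v i := by
  conv_lhs => rw [pi_eq_sum_univ' v]
  rw [map_sum, toMul_sum, Units.coe_prod]
  refine Finset.prod_congr rfl fun i _ => ?_
  rw [map_smul, toMul_zsmul, Units.val_zpow_eq_zpow_val]

end Defs

variable {K : Type u} {E : Type u} [Field K] [Field E] [Algebra K E] [FiniteDimensional K E] [IsGalois K E]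
  {𝕜 L : Type u} [NontriviallyNormedField 𝕜] [CompleteSpace 𝕜] [Algebra K 𝕜]
  [NontriviallyNormedField L] [NormedAlgebra 𝕜 L] [FiniteDimensional 𝕜 L]
  {G : Type u} [Group G] [Finite G]

/-- The core: equivariant characters on the kernel of the cover. -/
theorem exists_decomp (α : G →* (L ≃ₐ[𝕜] L)) (hα : Function.Injective α) (r : G →* (E ≃ₐ[K] E))
    (j : E →+* L) (hdense : DenseRange (algebraMap K 𝕜))
    (hcomm : ∀ x, algebraMap 𝕜 L (algebraMap K 𝕜 x) = j (algebraMap K E x))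
    (hfix : ∀ x, (∀ g, α g x = x) → ∃ c, algebraMap 𝕜 L c = x) (hj : ∀ g e, α g (j e) = j (r g e))
    {J : Type u} [Fintype J] {M : Type v} [AddCommGroup M] (ρM : Representation ℤ (E ≃ₐ[K] E) M)
    (p : ((E ≃ₐ[K] E) × J → ℤ) →ₗ[ℤ] M) (hp : ∀ γ q, p (regRep _ J γ q) = ρM γ (p q))
    (hcyc : ∀ (l : ℕ) [Fact l.Prime] (P : Sylow l ((MonoidHom.toHomUnits ρM).comp r).range), IsCyclic P)
    (d : ℤ) (hd : (d : L) ≠ 0) (htors : ∀ (x : M) (k : ℤ), k ≠ 0 → k • x = 0 → d • x = 0)
    (t : LinearMap.ker p →ₗ[ℤ] Additive Lˣ)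
    (ht : ∀ g (q q' : LinearMap.ker p), (q' : (E ≃ₐ[K] E) × J → ℤ) = regRep _ J (r g) q →
      t q' = unitsRep (ringAut α) g (t q)) :
    ∃ (v : ((E ≃ₐ[K] E) × J → ℤ) →ₗ[ℤ] Additive Lˣ) (y : LinearMap.ker p →ₗ[ℤ] Additive Eˣ),
      (∀ g q, v (regRep _ J (r g) q) = unitsRep (ringAut α) g (v q)) ∧
      (∀ γ (q q' : LinearMap.ker p), (q' : (E ≃ₐ[K] E) × J → ℤ) = regRep _ J γ q →
        y q' = unitsRep (ringAut (MonoidHom.id (E ≃ₐ[K] E))) γ (y q)) ∧
      ∀ q, t q = v q + addUnitsMap j (y q) := by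
  classical
  haveI := Fintype.ofFinite G
  set τ := unitsRep (ringAut α) with hτ
  -- the small group
  let ψ := MonoidHom.toHomUnits ρM
  have hψ : ∀ γ, ((ψ γ : (Module.End ℤ M)ˣ) : Module.End ℤ M) = ρM γ := fun γ => rfl
  haveI : Finite ψ.range := Finite.of_surjective ψ.rangeRestrict ψ.rangeRestrict_surjective
  obtain ⟨H, _, _, ⟨e⟩⟩ := exists_small_group ψ.range
  haveI := Fintype.ofFinite H
  let φ : (E ≃ₐ[K] E) →* H := e.toMonoidHom.comp ψ.rangeRestrict
  have hφs : Function.Surjective φ := e.surjective.comp ψ.rangeRestrict_surjective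
  let ρb : Representation ℤ H M := (Units.coeHom _).comp (ψ.range.subtype.comp e.symm.toMonoidHom)
  have hρb : ∀ γ, ρb (φ γ) = ρM γ := fun γ => by
    show ((e.symm (e (ψ.rangeRestrict γ)) : ψ.range) : (Module.End ℤ M)ˣ).1 = ρM γ
    rw [MulEquiv.symm_apply_apply]; rfl
  let eJ := Fintype.equivFin J
  -- the small cover
  let B := Pi.basisFun ℤ ((E ≃ₐ[K] E) × J)
  let B' := Pi.basisFun ℤ (H × Fin (Fintype.card J))
  let ν : ((E ≃ₐ[K] E) × J → ℤ) →ₗ[ℤ] (H × Fin (Fintype.card J) → ℤ) :=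
    B.constr ℤ fun x => Pi.single (φ x.1, eJ x.2) 1
  have hν : ∀ x, ν (Pi.single x 1) = Pi.single (φ x.1, eJ x.2) 1 := fun x => by
    rw [← Pi.basisFun_apply ℤ _ x]; exact Module.Basis.constr_basis _ _ _ _
  have hνs : Function.Surjective ν := by
    rw [← LinearMap.range_eq_top, eq_top_iff, ← B'.span_eq, Submodule.span_le]
    rintro _ ⟨⟨h, k⟩, rfl⟩
    obtain ⟨γ, rfl⟩ := hφs h
    exact ⟨Pi.single (γ, eJ.symm k) 1, by rw [hν, Equiv.apply_symm_apply]; exact (Pi.basisFun_apply ℤ _ _).symm⟩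
  let ρP' := regRep H (Fin (Fintype.card J))
  have hνeq : ∀ γ q, ν (regRep _ J γ q) = ρP' (φ γ) (ν q) := fun γ => LinearMap.congr_fun
    (show ν ∘ₗ regRep _ J γ = ρP' (φ γ) ∘ₗ ν from B.ext fun x => by
      simp only [LinearMap.comp_apply, B, Pi.basisFun_apply, hν, ρP', regRep_single, map_mul])
  let p' : (H × Fin (Fintype.card J) → ℤ) →ₗ[ℤ] M :=
    B'.constr ℤ fun x => ρb x.1 (p (Pi.single (1, eJ.symm x.2) 1))
  have hp'ν : p' ∘ₗ ν = p := B.ext fun x => by
    simp only [LinearMap.comp_apply, B, Pi.basisFun_apply, hν]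
    rw [← Pi.basisFun_apply ℤ _ (φ x.1, eJ x.2)]
    refine (Module.Basis.constr_basis _ _ _ _).trans ?_
    rw [hρb, Equiv.symm_apply_apply, ← hp, regRep_single]
    show p (Pi.single (x.1 * 1, x.2) 1) = p (Pi.single x 1)
    rw [mul_one]
  have hp'ν' : ∀ q, p' (ν q) = p q := LinearMap.congr_fun hp'ν
  have hp' : ∀ h q, p' (ρP' h q) = ρb h (p' q) := fun h q => by
    obtain ⟨γ, rfl⟩ := hφs h
    obtain ⟨q, rfl⟩ := hνs q
    rw [← hνeq, hp'ν', hp'ν', hp, hρb]
  -- kill the kernel of the change of cover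
  have hkerle : ∀ q ∈ LinearMap.ker ν, q ∈ LinearMap.ker p := fun q hq => by
    rw [LinearMap.mem_ker, ← hp'ν', LinearMap.mem_ker.1 hq, map_zero]
  let incl : LinearMap.ker ν →ₗ[ℤ] LinearMap.ker p := Submodule.inclusion hkerle
  let aP' : H →* Equiv.Perm (H × Fin (Fintype.card J)) := MonoidHom.mk'
    (fun h => (Equiv.mulLeft h).prodCongr (Equiv.refl _))
    fun h h' => Equiv.ext fun x => Prod.ext (mul_assoc h h' x.1) rfl
  obtain ⟨v0, hv0, hv0'⟩ := exists_perm_ext (ringAut α) (ringAut_injective hα) ((regRep _ J).comp r)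
    (aP'.comp (φ.comp r)) ν (fun g q i => by
      show ν (regRep _ J (r g) q) i = ν q ((aP' (φ (r g))).symm i)
      rw [hνeq]; rfl) hνs (t ∘ₗ incl) fun g q q' h => ht g (incl q) (incl q') h
  let T' := LinearMap.ker p'
  let ν' : LinearMap.ker p →ₗ[ℤ] T' := (ν ∘ₗ (LinearMap.ker p).subtype).codRestrict T' fun q => by
    rw [LinearMap.mem_ker]; exact (hp'ν' q).trans q.2
  have hν's : Function.Surjective ν' := fun q => by
    obtain ⟨q0, hq0⟩ := hνs q
    exact ⟨⟨q0, by rw [LinearMap.mem_ker, ← hp'ν', hq0]; exact q.2⟩, Subtype.ext hq0⟩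
  let t0 : LinearMap.ker p →ₗ[ℤ] Additive Lˣ := t - v0 ∘ₗ (LinearMap.ker p).subtype
  have ht0 : ∀ q, ν' q = 0 → t0 q = 0 := fun q hq => by
    have hq' : (q : (E ≃ₐ[K] E) × J → ℤ) ∈ LinearMap.ker ν := LinearMap.mem_ker.2 (congrArg Subtype.val hq)
    show t q - v0 q = 0
    rw [hv0' ⟨_, hq'⟩, sub_eq_zero]
    rfl
  let t' : T' →ₗ[ℤ] Additive Lˣ :=
    (LinearMap.ker ν').liftQ t0 (fun q hq => LinearMap.mem_ker.2 (ht0 q (LinearMap.mem_ker.1 hq))) ∘ₗ
      (ν'.quotKerEquivOfSurjective hν's).symm.toLinearMap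
  have ht' : ∀ q, t' (ν' q) = t0 q := fun q => by
    have : (ν'.quotKerEquivOfSurjective hν's).symm (ν' q) = Submodule.Quotient.mk q := by
      rw [LinearEquiv.symm_apply_eq]; rfl
    show (LinearMap.ker ν').liftQ t0 (fun q hq => LinearMap.mem_ker.2 (ht0 q (LinearMap.mem_ker.1 hq))) ((ν'.quotKerEquivOfSurjective hν's).symm (ν' q)) = _
    rw [this]; rfl
  have hT'inv : ∀ h, ∀ q ∈ T', ρP' h q ∈ T' := fun h q hq => by
    rw [LinearMap.mem_ker, hp', LinearMap.mem_ker.1 hq, map_zero]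
  let ρT : Representation ℤ H T' :=
    { toFun := fun h => (ρP' h).restrict (hT'inv h)
      map_one' := LinearMap.ext fun q => Subtype.ext (by simp [LinearMap.restrict_apply])
      map_mul' := fun a b => LinearMap.ext fun q => Subtype.ext (by simp [LinearMap.restrict_apply]) }
  have ht'eq : ∀ g q, t' (ρT (φ (r g)) q) = τ g (t' q) := fun g q => by
    obtain ⟨q0, rfl⟩ := hν's q
    have hmem : regRep _ J (r g) q0 ∈ LinearMap.ker p := by
      rw [LinearMap.mem_ker, hp, LinearMap.mem_ker.1 q0.2, map_zero]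
    have e1 : ρT (φ (r g)) (ν' q0) = ν' ⟨_, hmem⟩ := Subtype.ext (hνeq (r g) q0).symm
    rw [e1, ht', ht']
    show t _ - v0 (regRep _ J (r g) q0) = τ g (t q0 - v0 q0)
    rw [ht g q0 ⟨_, hmem⟩ rfl, show v0 (regRep _ J (r g) q0) = τ g (v0 q0) from hv0 g q0, map_sub]
  -- the decomposition image and its field
  let ψr := ψ.comp r
  let L' := IntermediateField.fixedField (Subgroup.map α ψr.ker)
  have hL'mem : ∀ x : L, x ∈ L' ↔ ∀ g ∈ ψr.ker, α g x = x := fun x => by
    rw [IntermediateField.mem_fixedField_iff]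
    exact ⟨fun h g hg => h _ ⟨g, hg, rfl⟩, by rintro h _ ⟨g, hg, rfl⟩; exact h g hg⟩
  have hstab : ∀ g, ∀ x ∈ L', α g x ∈ L' := fun g x hx => (hL'mem _).2 fun n hn => by
    have h := (hL'mem x).1 hx (g⁻¹ * n * g) (by
      rw [MonoidHom.mem_ker, map_mul, map_mul, MonoidHom.mem_ker.1 hn, mul_one, ← map_mul, inv_mul_cancel, map_one])
    have h2 : α g (α (g⁻¹ * n * g) x) = α g x := congrArg (α g) h
    rwa [← AlgEquiv.mul_apply, ← map_mul, show g * (g⁻¹ * n * g) = n * g by group, map_mul, AlgEquiv.mul_apply] at h2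
  have hback : ∀ g (x : L), α g⁻¹ (α g x) = x := fun g x => by
    rw [← AlgEquiv.mul_apply, ← map_mul, inv_mul_cancel, map_one]; rfl
  let res : G →* (L' ≃+* L') := MonoidHom.mk' (fun g =>
      { toFun := fun x => ⟨α g x, hstab g x x.2⟩
        invFun := fun x => ⟨α g⁻¹ x, hstab g⁻¹ x x.2⟩
        left_inv := fun x => Subtype.ext (hback g x)
        right_inv := fun x => Subtype.ext (by simpa using hback g⁻¹ x)
        map_mul' := fun x y => Subtype.ext (map_mul (α g) _ _)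
        map_add' := fun x y => Subtype.ext (map_add (α g) _ _) })
    fun g h => RingEquiv.ext fun x => Subtype.ext (by
      show α (g * h) x = α g (α h x)
      rw [map_mul]; rfl)
  have hresker : ψr.ker ≤ res.ker := fun n hn => MonoidHom.mem_ker.2 (RingEquiv.ext fun x =>
    Subtype.ext ((hL'mem _).1 x.2 n hn))
  let eR := QuotientGroup.quotientKerEquivRange ψr
  let αb : ψr.range →* (L' ≃+* L') := (QuotientGroup.lift _ res hresker).comp eR.symm.toMonoidHom
  have hαb : ∀ g, αb ⟨ψr g, g, rfl⟩ = res g := fun g => by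
    have : eR.symm ⟨ψr g, g, rfl⟩ = (g : G ⧸ ψr.ker) := by rw [MulEquiv.symm_apply_eq]; rfl
    show QuotientGroup.lift _ res hresker (eR.symm _) = _
    rw [this]; rfl
  have hαbinj : Function.Injective αb := by
    rw [injective_iff_map_eq_one]
    rintro ⟨_, g, rfl⟩ hg
    rw [hαb] at hg
    have hmem : α g ∈ (IntermediateField.fixedField (Subgroup.map α ψr.ker)).fixingSubgroup := by
      rw [IntermediateField.mem_fixingSubgroup_iff]
      exact fun x hx => congrArg Subtype.val (RingEquiv.congr_fun hg ⟨x, hx⟩)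
    rw [IntermediateField.fixingSubgroup_fixedField] at hmem
    obtain ⟨n, hn, hne⟩ := hmem
    rw [hα hne] at hn
    exact Subtype.ext hn
  let φ0 : ψr.range →* H := e.toMonoidHom.comp (Subgroup.inclusion (by
    rintro _ ⟨g, rfl⟩; exact ⟨r g, rfl⟩))
  have hφ0 : ∀ g, φ0 ⟨ψr g, g, rfl⟩ = φ (r g) := fun g => rfl
  have hval : ∀ q, ((t' q).toMul : L) ∈ L' := fun q => (hL'mem _).2 fun n hn => by
    have h1 : φ (r n) = 1 := by
      show e (ψ.rangeRestrict (r n)) = 1
      rw [show ψ.rangeRestrict (r n) = 1 from Subtype.ext (MonoidHom.mem_ker.1 hn), map_one]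
    have h2 := ht'eq n q
    rw [h1, map_one, Module.End.one_apply] at h2
    exact (congrArg (fun z : Additive Lˣ => (z.toMul : L)) h2).symm
  let ι' : Additive L'ˣ →ₗ[ℤ] Additive Lˣ := addUnitsMap (L'.val.toRingHom)
  have hι'inj : Function.Injective ι' := fun x y h =>
    units_ext (Subtype.ext (congrArg (fun z : Additive Lˣ => (z.toMul : L)) h))
  have hι' : ∀ g x, ι' (unitsRep αb ⟨ψr g, g, rfl⟩ x) = τ g (ι' x) := fun g x => units_ext (by
    rw [addUnitsMap_apply, unitsRep_apply, hαb, unitsRep_apply, addUnitsMap_apply]; rfl)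
  let t'' : T' →ₗ[ℤ] Additive L'ˣ :=
    { toFun := fun q => Additive.ofMul (Units.mk0 ⟨_, hval q⟩ fun h =>
        (t' q).toMul.ne_zero (congrArg Subtype.val h))
      map_add' := fun a b => hι'inj (by
        rw [map_add ι']
        exact units_ext (by show ((t' (a + b)).toMul : L) = _; rw [map_add t', toMul_add, Units.val_mul]; rfl))
      map_smul' := fun c a => hι'inj (by
        rw [map_smul ι', show ι' (Additive.ofMul (Units.mk0 ⟨_, hval a⟩ fun h =>
          (t' a).toMul.ne_zero (congrArg Subtype.val h))) = t' a from units_ext rfl]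
        exact units_ext (by rw [RingHom.id_apply, ← map_smul t']; rfl)) }
  have ht'' : ∀ q, ι' (t'' q) = t' q := fun q => units_ext rfl
  -- the flasque resolution
  haveI : Module.Finite ℤ T' := Module.Finite.of_injective T'.subtype T'.injective_subtype
  obtain ⟨Q, _, F, _, _, _, _, _, σQ, σF, i, π, hi, hπ, hiinj, hπs, hex, hperm, hflas⟩ :=
    Groth.Misc15.GLatLib.exists_flasque_resolution T' ρT
  let eT : T' ≃ₗ[ℤ] LinearMap.ker π :=
    (LinearEquiv.ofInjective i hiinj).trans (LinearEquiv.ofEq _ _ hex)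
  have heT : ∀ q, (eT q : Q) = i q := fun q => rfl
  haveI : Module.IsTorsionFree ℤ F := inferInstance
  obtain ⟨F0, hF0, hF0'⟩ := exists_equivariant_ext αb hαbinj hcyc (σQ.comp φ0) (σF.comp φ0) π
    (fun g q => hπ (φ0 g) q) hπs (fun g n hgn hn s hs => vanish_of_flasque hflas φ0 g n hgn hn s hs)
    (t'' ∘ₗ eT.symm.toLinearMap) fun g q q' h => by
      obtain ⟨_, g, rfl⟩ := g
      obtain ⟨a, rfl⟩ := eT.surjective q
      obtain ⟨b, rfl⟩ := eT.surjective q'
      have hb : b = ρT (φ (r g)) a := hiinj (by rw [hi]; exact h)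
      refine hι'inj ?_
      rw [hι']
      simp only [LinearMap.comp_apply, LinearEquiv.coe_coe, LinearEquiv.symm_apply_apply, ht'']
      rw [hb, ht'eq]
  let F1 : Q →ₗ[ℤ] Additive Lˣ := ι' ∘ₗ F0
  have hF1 : ∀ g q, F1 (σQ (φ (r g)) q) = τ g (F1 q) := fun g q => by
    show ι' (F0 _) = _
    rw [← hφ0, show F0 (σQ (φ0 ⟨ψr g, g, rfl⟩) q) = _ from hF0 ⟨ψr g, g, rfl⟩ q, hι']
    rfl
  have hF1i : ∀ q, F1 (i q) = t' q := fun q => by
    show ι' (F0 (eT q : Q)) = _
    rw [hF0', LinearMap.comp_apply, LinearEquiv.coe_coe, LinearEquiv.symm_apply_apply, ht'']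
  obtain ⟨κ, _, aQ, eQ, heQ⟩ := exists_permAction hperm
  let qb : κ → Q := fun x => eQ.symm (Pi.single x 1)
  have hqb : ∀ h x, σQ h (qb x) = qb (aQ h x) := fun h x => eQ.injective (funext fun k => by
    simp only [heQ, qb, LinearEquiv.apply_symm_apply, Pi.single_apply]
    exact if_congr (Equiv.symm_apply_eq _) rfl rfl)
  let y : κ → L := fun x => (F1 (qb x)).toMul
  have hy0 : ∀ x, y x ≠ 0 := fun x => (F1 (qb x)).toMul.ne_zero
  let aΓ : (E ≃ₐ[K] E) →* Equiv.Perm κ := aQ.comp φ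
  have hy : ∀ g x, y (aΓ (r g) x) = α g (y x) := fun g x => by
    show ((F1 (qb (aQ (φ (r g)) x))).toMul : L) = _
    rw [← hqb, hF1, hτ, unitsRep_apply, ringAut_apply]
  -- the pushout and its permutation hull
  let jz : T' →ₗ[ℤ] (H × Fin (Fintype.card J) → ℤ) × Q := T'.subtype.prod (-i)
  let NZ := LinearMap.range jz
  have hNinv : ∀ h, ∀ z ∈ NZ, ((ρP' h).prodMap (σQ h)) z ∈ NZ := by
    rintro h _ ⟨m, rfl⟩
    refine ⟨ρT h m, ?_⟩
    show ((ρT h m : H × Fin (Fintype.card J) → ℤ), -(i (ρT h m))) = (ρP' h (m : H × Fin (Fintype.card J) → ℤ), σQ h (-(i m)))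
    rw [hi h m, map_neg]
    rfl
  let Z := ((H × Fin (Fintype.card J) → ℤ) × Q) ⧸ NZ
  let ρZ : Representation ℤ H Z :=
    { toFun := fun h => NZ.mapQ NZ ((ρP' h).prodMap (σQ h)) fun z hz => hNinv h z hz
      map_one' := Submodule.linearMap_qext _ (LinearMap.ext fun z => by simp)
      map_mul' := fun a b => Submodule.linearMap_qext _ (LinearMap.ext fun z => by simp) }
  let Tor := Submodule.torsion ℤ Z
  have hTor : ∀ h, ∀ z ∈ Tor, ρZ h z ∈ Tor := fun h z hz => by
    rw [Submodule.mem_torsion_iff] at hz ⊢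
    obtain ⟨c, hc⟩ := hz
    exact ⟨c, by rw [Submonoid.smul_def] at hc ⊢; rw [← map_smul, hc, map_zero]⟩
  let Zb := Z ⧸ Tor
  let ρZb : Representation ℤ H Zb :=
    { toFun := fun h => Tor.mapQ Tor (ρZ h) fun z hz => hTor h z hz
      map_one' := Submodule.linearMap_qext _ (LinearMap.ext fun z => by simp)
      map_mul' := fun a b => Submodule.linearMap_qext _ (LinearMap.ext fun z => by simp) }
  haveI : Module.IsTorsionFree ℤ Zb := Submodule.QuotientTorsion.instIsTorsionFree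
  haveI : Module.Free ℤ Zb := Module.free_of_finite_type_torsion_free'
  obtain ⟨W, _, F2, _, _, _, _, _, σW, σF2, i2, π2, hi2, -, hi2inj, hπ2s, hex2, hperm2, -⟩ :=
    Groth.Misc15.GLatLib.exists_flasque_resolution Zb ρZb
  let wz : ((H × Fin (Fintype.card J) → ℤ) × Q) →ₗ[ℤ] W := i2 ∘ₗ Tor.mkQ ∘ₗ NZ.mkQ
  have hwz : ∀ h z, wz ((ρP' h).prodMap (σQ h) z) = σW h (wz z) := fun h z => hi2 h (Tor.mkQ (NZ.mkQ z))
  let am : (H × Fin (Fintype.card J) → ℤ) →ₗ[ℤ] W := wz ∘ₗ LinearMap.inl ℤ _ _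
  let bm : Q →ₗ[ℤ] W := wz ∘ₗ LinearMap.inr ℤ _ _
  have ham : ∀ h q, am (ρP' h q) = σW h (am q) := fun h q => by
    show wz (ρP' h q, 0) = σW h (wz (q, 0))
    rw [← hwz]; simp
  have hbm : ∀ h q, bm (σQ h q) = σW h (bm q) := fun h q => by
    show wz (0, σQ h q) = σW h (wz (0, q))
    rw [← hwz]; simp
  have hab : ∀ m : T', am (m : H × Fin (Fintype.card J) → ℤ) = bm (i m) := fun m => by
    show wz ((m : H × Fin (Fintype.card J) → ℤ), 0) = wz (0, i m)
    rw [← sub_eq_zero, ← map_sub, Prod.mk_sub_mk, sub_zero, zero_sub]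
    show i2 (Tor.mkQ (NZ.mkQ _)) = 0
    rw [show NZ.mkQ ((m : H × Fin (Fintype.card J) → ℤ), -i m) = 0 from
      (Submodule.Quotient.mk_eq_zero _).2 ⟨m, rfl⟩, map_zero, map_zero]
  have hkey : ∀ z : (H × Fin (Fintype.card J) → ℤ) × Q, wz z = 0 →
      ∃ k : ℤ, k ≠ 0 ∧ ∃ m : T', (m : H × Fin (Fintype.card J) → ℤ) = k • z.1 ∧ -i m = k • z.2 := fun z hz => by
    have h1 : NZ.mkQ z ∈ Tor := (Submodule.Quotient.mk_eq_zero _).1 (hi2inj (hz.trans (map_zero i2).symm))
    rw [Submodule.mem_torsion_iff] at h1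
    obtain ⟨c, hc⟩ := h1
    rw [Submonoid.smul_def, ← map_smul] at hc
    obtain ⟨m, hm⟩ := (Submodule.Quotient.mk_eq_zero _).1 hc
    exact ⟨(c : ℤ), nonZeroDivisors.coe_ne_zero c, m, congrArg Prod.fst hm, congrArg Prod.snd hm⟩
  haveI : Module.IsTorsionFree ℤ Q := inferInstance
  have hbinj : Function.Injective bm := by
    rw [← LinearMap.ker_eq_bot, LinearMap.ker_eq_bot']
    intro q hq
    obtain ⟨k, hk, m, hm1, hm2⟩ := hkey (0, q) hq
    have : m = 0 := Subtype.ext (by rw [hm1]; simp)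
    rw [this, map_zero, neg_zero] at hm2
    exact (smul_eq_zero_iff_right hk).1 hm2.symm
  obtain ⟨lw, hlw⟩ := exists_left_inverse_up_to bm hbinj d fun x k hk ⟨q, hq⟩ => by
    have hx : π2 x = 0 := by
      have h := congrArg π2 hq
      have h0 : π2 (bm q) = 0 := LinearMap.mem_ker.1 (hex2 ▸ ⟨_, rfl⟩)
      rw [h0, map_smul] at h
      exact (smul_eq_zero_iff_right hk).1 h.symm
    obtain ⟨zb, rfl⟩ : ∃ zb, i2 zb = x := LinearMap.mem_range.1 (hex2 ▸ LinearMap.mem_ker.2 hx)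
    obtain ⟨z, rfl⟩ := Submodule.Quotient.mk_surjective _ zb
    obtain ⟨⟨a, b⟩, rfl⟩ := Submodule.Quotient.mk_surjective _ z
    obtain ⟨k', hk', m, hm1, -⟩ := hkey (k • (a, b) - (0, q)) (by
      rw [map_sub, map_smul, sub_eq_zero]; exact hq.symm)
    have htor : (k' * k) • p' a = 0 := by
      rw [← map_smul, mul_smul, show k' • k • a = (m : H × Fin (Fintype.card J) → ℤ) by simpa using hm1.symm]
      exact m.2
    have hda : d • a ∈ T' := by
      rw [LinearMap.mem_ker, map_smul]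
      exact htors _ _ (mul_ne_zero hk' hk) htor
    refine ⟨d • b + i ⟨_, hda⟩, ?_⟩
    show bm (d • b + i ⟨_, hda⟩) = d • wz (a, b)
    rw [map_add, ← hab ⟨_, hda⟩, ← map_smul wz]
    show wz (0, d • b) + wz (d • a, 0) = wz (d • (a, b))
    rw [← map_add]; simp
  obtain ⟨ω, _, aW, eW, heW⟩ := exists_permAction hperm2
  let wb : ω → W := fun x => eW.symm (Pi.single x 1)
  have hwb : ∀ h x, σW h (wb x) = wb (aW h x) := fun h x => eW.injective (funext fun k => by
    simp only [heW, wb, LinearEquiv.apply_symm_apply, Pi.single_apply]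
    exact if_congr (Equiv.symm_apply_eq _) rfl rfl)
  let n : κ → ω → ℤ := fun x w => eW (bm (qb x)) w
  have hn : ∀ h x w, n (aQ h x) (aW h w) = n x w := fun h x w => by
    simp only [n, ← hqb, hbm, heW, Equiv.symm_apply_apply]
  let l' : ω → κ → ℤ := fun w x => eQ (lw (wb w)) x
  have hl : ∀ x x', ∑ w, n x w * l' w x' = if x = x' then d else 0 := fun x x' => by
    have e1 : bm (qb x) = ∑ w, n x w • wb w := eW.injective (by
      rw [map_sum]
      simp only [map_smul, wb, LinearEquiv.apply_symm_apply]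
      exact pi_eq_sum_univ' _)
    have e2 := congrArg (fun q => eQ q x') (hlw (qb x))
    rw [e1] at e2
    simp only [map_sum, map_smul, Finset.sum_apply, Pi.smul_apply, smul_eq_mul, qb,
      LinearEquiv.apply_symm_apply, Pi.single_apply] at e2
    rw [show (∑ w, n x w * l' w x') = _ from e2, mul_ite, mul_one, mul_zero]
    exact if_congr eq_comm rfl rfl
  let aGw : G →* Equiv.Perm ω := aW.comp (φ.comp r)
  let aGq : G →* Equiv.Perm κ := aQ.comp (φ.comp r)
  have hev := exists_nhds_monomial α hα aGw aGq n (fun g => hn (φ (r g))) l' hd hl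
  -- approximation
  have hcontinv : ContinuousAt (fun h : κ → L => fun x => y x / h x) y := continuousAt_pi.2 fun x =>
    continuousAt_const.div (continuous_apply x).continuousAt (hy0 x)
  have hU : {h : κ → L | (∀ x, h x ≠ 0) ∧ ((∀ g x, (fun x => y x / h x) (aGq g x) = α g (y x / h x)) →
      ∃ v : ω → L, (∀ w, v w ≠ 0) ∧ (∀ g w, v (aGw g w) = α g (v w)) ∧
        ∀ x, y x / h x = ∏ w, v w ^ n x w)} ∈ nhds y := by
    refine Filter.inter_mem (Filter.eventually_all.2 fun x =>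
      (continuous_apply x).continuousAt.eventually_ne (hy0 x)) ?_
    have h1 : (fun x => y x / y x) = (1 : κ → L) := funext fun x => div_self (hy0 x)
    exact hcontinv.tendsto.eventually (h1.symm ▸ hev)
  obtain ⟨h, hh, hhne, hhv⟩ := exists_rat_approx α r j (algebraMapCLM 𝕜 L).continuous hdense hcomm hfix hj aΓ y
    hy hU
  obtain ⟨v, hvne, hveq, hvprod⟩ := hhv fun g x => by
    show y (aΓ (r g) x) / j (h (aΓ (r g) x)) = _
    rw [hy, hh, ← hj, map_div₀]
  have hh0 : ∀ x, h x ≠ 0 := fun x h0 => hhne x (by simp [h0])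
  let Y : Q →ₗ[ℤ] Additive Eˣ :=
    (Pi.basisFun ℤ κ).constr ℤ (fun x => Additive.ofMul (Units.mk0 (h x) (hh0 x))) ∘ₗ eQ.toLinearMap
  let V : W →ₗ[ℤ] Additive Lˣ :=
    (Pi.basisFun ℤ ω).constr ℤ (fun w => Additive.ofMul (Units.mk0 (v w) (hvne w))) ∘ₗ eW.toLinearMap
  have hY : ∀ x, Y (qb x) = Additive.ofMul (Units.mk0 (h x) (hh0 x)) := fun x => by
    show (Pi.basisFun ℤ κ).constr ℤ _ (eQ (eQ.symm (Pi.single x 1))) = _
    rw [LinearEquiv.apply_symm_apply, ← Pi.basisFun_apply ℤ κ x]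
    exact Module.Basis.constr_basis _ _ _ _
  have hV : ∀ w, V (wb w) = Additive.ofMul (Units.mk0 (v w) (hvne w)) := fun w => by
    show (Pi.basisFun ℤ ω).constr ℤ _ (eW (eW.symm (Pi.single w 1))) = _
    rw [LinearEquiv.apply_symm_apply, ← Pi.basisFun_apply ℤ ω w]
    exact Module.Basis.constr_basis _ _ _ _
  let bQ := (Pi.basisFun ℤ κ).map eQ.symm
  let bW := (Pi.basisFun ℤ ω).map eW.symm
  have hbQ : ∀ x, bQ x = qb x := fun x => by simp [bQ, qb]
  have hbW : ∀ w, bW w = wb w := fun w => by simp [bW, wb]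
  have hVeq : ∀ g q, V (σW (φ (r g)) q) = τ g (V q) := fun g => LinearMap.congr_fun
    (show V ∘ₗ σW (φ (r g)) = τ g ∘ₗ V from bW.ext fun w => units_ext (by
      simp only [LinearMap.comp_apply, hbW, hwb, hV, hτ, unitsRep_apply, ringAut_apply, toMul_ofMul, Units.val_mk0]
      exact hveq g w))
  have hYeq : ∀ γ q, Y (σQ (φ γ) q) = unitsRep (ringAut (MonoidHom.id (E ≃ₐ[K] E))) γ (Y q) := fun γ =>
    LinearMap.congr_fun (show Y ∘ₗ σQ (φ γ) = unitsRep (ringAut (MonoidHom.id (E ≃ₐ[K] E))) γ ∘ₗ Y from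
      bQ.ext fun x => units_ext (by
        simp only [LinearMap.comp_apply, hbQ, hqb, hY, unitsRep_apply, ringAut_apply, toMul_ofMul, Units.val_mk0]
        exact hh γ x))
  have hF1split : F1 = addUnitsMap j ∘ₗ Y + V ∘ₗ bm := bQ.ext fun x => units_ext (by
    simp only [LinearMap.add_apply, LinearMap.comp_apply, hbQ, hY, toMul_add, Units.val_mul, addUnitsMap_apply,
      toMul_ofMul, Units.val_mk0]
    have e3 : ((V (bm (qb x))).toMul : L) = ∏ w, v w ^ n x w := by
      conv_lhs => rw [← LinearEquiv.symm_apply_apply eW (bm (qb x))]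
      refine (toMul_linear (V ∘ₗ eW.symm.toLinearMap) (eW (bm (qb x)))).trans (Finset.prod_congr rfl fun w _ => ?_)
      rw [LinearMap.comp_apply, LinearEquiv.coe_coe, show eW.symm (Pi.single w 1) = wb w from rfl, hV]
      rfl
    rw [e3, ← hvprod, mul_div_cancel₀ _ (hhne x)])
  refine ⟨v0 + V ∘ₗ am ∘ₗ ν, Y ∘ₗ i ∘ₗ ν', fun g q => ?_, fun γ q q' hqq => ?_, fun q => ?_⟩
  · simp only [LinearMap.add_apply, LinearMap.comp_apply, map_add]
    rw [show v0 (regRep _ J (r g) q) = τ g (v0 q) from hv0 g q, hνeq, ham, hVeq]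
  · simp only [LinearMap.comp_apply]
    rw [← hYeq, ← hi]
    refine congrArg (fun z => Y (i z)) (Subtype.ext ?_)
    show ν q' = ρP' (φ γ) (ν q)
    rw [hqq, hνeq]
  · simp only [LinearMap.add_apply, LinearMap.comp_apply]
    have e1 : t q = v0 q + t' (ν' q) := by
      rw [ht']; show t q = v0 (q : (E ≃ₐ[K] E) × J → ℤ) + (t q - v0 (q : (E ≃ₐ[K] E) × J → ℤ)); abel
    rw [e1, ← hF1i, hF1split, show ν (q : (E ≃ₐ[K] E) × J → ℤ) = (ν' q : H × Fin (Fintype.card J) → ℤ) from rfl,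
      hab]
    simp only [LinearMap.add_apply, LinearMap.comp_apply]
    abel

end Groth.Misc15.AdicH1
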