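import Mathlib

/-!
Congruences between norm operators and powers of `σ - 1`, and twisted partial sums of a derivation.
-/

set_option autoImplicit false
set_option linter.style.haveILetI false

open Polynomial Finset

noncomputable section

namespace Groth.Misc15.AdicH1

/-- The norm operator of `σ` of length `n`. -/
def nrm {M : Type*} [AddCommGroup M] (σ : Module.End ℤ M) (n : ℕ) : Module.End ℤ M := ∑ i ∈ range n, σ ^ i

theorem sum_X_sub_one (p k : ℕ) [Fact p.Prime] :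
    ((X - 1 : (ZMod p)[X]) ^ (p ^ k - 1)) = ∑ i ∈ range (p ^ k), X ^ i := by
  have h0 : (X - 1 : (ZMod p)[X]) ≠ 0 := by
    rw [← C_1]; exact X_sub_C_ne_zero 1
  refine mul_right_cancel₀ h0 ?_
  rw [geom_sum_mul, ← pow_succ, Nat.sub_add_cancel (Nat.one_le_pow _ _ (Fact.out : p.Prime).pos),
    sub_pow_char_pow, one_pow]

/-- `(X - 1) ^ (q - 1) = (1 + X + ... + X ^ (q - 1)) + p Y` for `q = p ^ k`. -/
theorem exists_congr (p k : ℕ) [Fact p.Prime] :
    ∃ Y : ℤ[X], ((X - 1) ^ (p ^ k - 1) : ℤ[X]) = (∑ i ∈ range (p ^ k), X ^ i) + C (p : ℤ) * Y := by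
  have h : C (p : ℤ) ∣ ((X - 1) ^ (p ^ k - 1) : ℤ[X]) - ∑ i ∈ range (p ^ k), X ^ i := by
    rw [C_dvd_iff_dvd_coeff]
    intro i
    rw [← ZMod.intCast_zmod_eq_zero_iff_dvd]
    have h1 : (((X - 1) ^ (p ^ k - 1) : ℤ[X]) - ∑ i ∈ range (p ^ k), X ^ i).map (Int.castRingHom (ZMod p)) = 0 := by
      simp [Polynomial.map_sub, Polynomial.map_pow, Polynomial.map_sum, sum_X_sub_one]
    have h2 := congrArg (fun P : (ZMod p)[X] => P.coeff i) h1
    simp only [coeff_map, coeff_zero, Int.coe_castRingHom] at h2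
    exact h2
  obtain ⟨Y, hY⟩ := h
  exact ⟨Y, by rw [← hY, add_sub_cancel]⟩

section Ops

variable {M : Type*} [AddCommGroup M] (σ : Module.End ℤ M)

theorem nrm_zero : nrm σ 0 = 0 := by simp [nrm]

theorem nrm_one : nrm σ 1 = 1 := by simp [nrm]

theorem nrm_apply (n : ℕ) (m : M) : nrm σ n m = ∑ i ∈ range n, (σ ^ i) m := by simp [nrm]

theorem sub_one_nrm (n : ℕ) : (σ - 1) * nrm σ n = σ ^ n - 1 := mul_geom_sum σ n

theorem nrm_sub_one (n : ℕ) : nrm σ n * (σ - 1) = σ ^ n - 1 := geom_sum_mul σ n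

theorem nrm_of_fixed (n : ℕ) (m : M) (h : σ m = m) : nrm σ n m = (n : ℤ) • m := by
  have hi : ∀ i, (σ ^ i) m = m := fun i => by
    induction i with
    | zero => rfl
    | succ i ih => rw [pow_succ, Module.End.mul_apply, h, ih]
  simp [nrm_apply, hi]

theorem exists_congr_apply (p k : ℕ) [Fact p.Prime] :
    ∃ Y : Module.End ℤ M, Commute Y σ ∧
      (σ - 1) ^ (p ^ k - 1) = nrm σ (p ^ k) + (p : ℤ) • Y ∧
        ∃ Z : Module.End ℤ M, Commute Z σ ∧ (k = 1 → Y = -1 + (σ - 1) * Z) := by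
  obtain ⟨Y, hY⟩ := exists_congr p k
  have hc : ∀ P : ℤ[X], Commute (aeval σ P) σ := fun P => by
    have h := (Commute.all P X).map (aeval σ)
    rwa [aeval_X] at h
  refine ⟨aeval σ Y, hc Y, ?_, ?_⟩
  · have h := congrArg (aeval σ) hY
    simp only [map_pow, map_sub, map_add, map_sum, map_mul, aeval_X, map_one, aeval_C] at h
    rw [h, nrm, Algebra.smul_def]
  · by_cases hk : k = 1
    · subst hk
      have hroot : (Y + 1).IsRoot 1 := by
        have h := congrArg (eval (1 : ℤ)) hY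
        have hne : p ^ 1 - 1 ≠ 0 := by have := (Fact.out : p.Prime).two_le; rw [pow_one]; omega
        simp only [eval_pow, eval_sub, eval_X, eval_one, sub_self, zero_pow hne, eval_add, eval_finsetSum,
          one_pow, Finset.sum_const, Finset.card_range, eval_mul, eval_C, nsmul_one, pow_one] at h
        show eval 1 (Y + 1) = 0
        have hp : (p : ℤ) ≠ 0 := by exact_mod_cast (Fact.out : p.Prime).ne_zero
        rw [zero_pow (show p - 1 ≠ 0 by simpa using hne)] at h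
        have : (p : ℤ) * (eval 1 Y + 1) = 0 := by linarith
        simpa using (mul_eq_zero.1 this).resolve_left hp
      obtain ⟨Z, hZ⟩ := dvd_iff_isRoot.2 hroot
      refine ⟨aeval σ Z, hc Z, fun _ => ?_⟩
      have h := congrArg (aeval σ) hZ
      simp only [map_add, map_one, map_mul, map_sub, aeval_X, aeval_C] at h
      rw [← h]; abel
    · exact ⟨0, Commute.zero_left _, fun h => absurd h hk⟩

end Ops

section Sums

variable {M X : Type*} [AddCommGroup M] [AddCommGroup X] (σ : Module.End ℤ M) (τ : Module.End ℤ X)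

/-- Twisted partial sums. -/
def tsum (a : M →ₗ[ℤ] X) : ℕ → (M →ₗ[ℤ] X)
  | 0 => 0
  | i + 1 => τ ∘ₗ tsum a i + a ∘ₗ (σ ^ i)

theorem tsum_zero (a : M →ₗ[ℤ] X) : tsum σ τ a 0 = 0 := rfl

theorem tsum_succ (a : M →ₗ[ℤ] X) (i : ℕ) (m : M) :
    tsum σ τ a (i + 1) m = τ (tsum σ τ a i m) + a ((σ ^ i) m) := rfl

theorem tsum_add (a : M →ₗ[ℤ] X) (i t : ℕ) (m : M) :
    tsum σ τ a (i + t) m = (τ ^ i) (tsum σ τ a t m) + tsum σ τ a i ((σ ^ t) m) := by
  induction i generalizing m with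
  | zero => simp [tsum_zero]
  | succ i ih =>
    rw [Nat.succ_add, tsum_succ, ih, map_add, tsum_succ, pow_succ', Module.End.mul_apply,
      show (σ ^ (i + t)) m = (σ ^ i) ((σ ^ t) m) by rw [pow_add]; rfl]
    abel

theorem tsum_one (a : M →ₗ[ℤ] X) (m : M) : tsum σ τ a 1 m = a m := by simp [tsum_succ, tsum_zero]

theorem tau_tsum (a : M →ₗ[ℤ] X) (t : ℕ) (m : M) :
    τ (tsum σ τ a t m) - tsum σ τ a t (σ m) = (τ ^ t) (a m) - a ((σ ^ t) m) := by
  have h := tsum_add σ τ a 1 t m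
  have h' := tsum_add σ τ a t 1 m
  rw [tsum_one] at h h'
  rw [pow_one] at h h'
  rw [add_comm 1 t, h'] at h
  rw [sub_eq_sub_iff_add_eq_add]
  exact h.symm

theorem tsum_coboundary (b : M →ₗ[ℤ] X) (t : ℕ) (m : M) :
    tsum σ τ (τ ∘ₗ b - b ∘ₗ σ) t m = (τ ^ t) (b m) - b ((σ ^ t) m) := by
  induction t with
  | zero => simp [tsum_zero]
  | succ t ih =>
    rw [tsum_succ, ih, map_sub, pow_succ' τ, pow_succ' σ]
    simp

theorem tsum_sub (a a' : M →ₗ[ℤ] X) (t : ℕ) (m : M) :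
    tsum σ τ (a - a') t m = tsum σ τ a t m - tsum σ τ a' t m := by
  induction t generalizing m with
  | zero => simp [tsum_zero]
  | succ t ih => rw [tsum_succ, tsum_succ, tsum_succ, ih, map_sub]; simp; abel

theorem tsum_smul (c : ℤ) (a : M →ₗ[ℤ] X) (t : ℕ) (m : M) :
    tsum σ τ (c • a) t m = c • tsum σ τ a t m := by
  induction t generalizing m with
  | zero => simp [tsum_zero]
  | succ t ih => rw [tsum_succ, tsum_succ, ih, map_smul, smul_add]; rfl

/-- A derivation is killed by the order of the group up to coboundaries. -/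
theorem exists_smul_coboundary (a : M →ₗ[ℤ] X) {n : ℕ} (hσ : σ ^ n = 1)
    (ha : ∀ m, tsum σ τ a n m = 0) :
    ∃ b : M →ₗ[ℤ] X, ∀ m, τ (b m) - b (σ m) = (n : ℤ) • a m := by
  refine ⟨-∑ i ∈ range n, tsum σ τ a i ∘ₗ (σ ^ (n - i)), fun m => ?_⟩
  simp only [LinearMap.neg_apply, map_neg, LinearMap.sum_apply, map_sum, LinearMap.comp_apply]
  have hm : ∀ i ∈ range n, τ (tsum σ τ a i ((σ ^ (n - i)) m)) - tsum σ τ a i ((σ ^ (n - i)) (σ m)) =
      (tsum σ τ a (i + 1) ((σ ^ (n - i)) m) - tsum σ τ a i ((σ ^ (n - i + 1)) m)) - a m := by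
    intro i hi
    rw [Finset.mem_range] at hi
    rw [tsum_succ, pow_succ, Module.End.mul_apply, ← Module.End.mul_apply (σ ^ i), ← pow_add,
      Nat.add_sub_of_le hi.le, hσ, Module.End.one_apply]
    abel
  have htel : ∑ i ∈ range n,
      (tsum σ τ a (i + 1) ((σ ^ (n - i)) m) - tsum σ τ a i ((σ ^ (n - i + 1)) m)) = 0 := by
    rw [Finset.sum_congr rfl (g := fun i => tsum σ τ a (i + 1) ((σ ^ (n + 1 - (i + 1))) m) -
      tsum σ τ a i ((σ ^ (n + 1 - i)) m)) fun i hi => by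
        rw [Finset.mem_range] at hi
        rw [show n + 1 - (i + 1) = n - i by omega, show n + 1 - i = n - i + 1 by omega]]
    rw [Finset.sum_range_sub (fun i => tsum σ τ a i ((σ ^ (n + 1 - i)) m)), tsum_zero]
    simp [ha]
  rw [neg_sub_neg, ← neg_sub, ← Finset.sum_sub_distrib, Finset.sum_congr rfl hm, Finset.sum_sub_distrib, htel]
  simp

end Sums

end Groth.Misc15.AdicH1
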