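import Groth.Agent.Misc15.AdicH1.CycFixed

/-!
Generators of a lattice with vanishing norm kernels over its fixed lattice: finite prime to `p` index and
independence.
-/

set_option autoImplicit false
set_option linter.style.haveILetI false

open Finset Polynomial

noncomputable section

namespace Groth.Misc15.AdicH1

variable {M : Type*} [AddCommGroup M]

theorem range_pow_le (f : Module.End ℤ M) {a b : ℕ} (h : a ≤ b) :
    LinearMap.range (f ^ b) ≤ LinearMap.range (f ^ a) := by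
  rintro _ ⟨x, rfl⟩
  exact ⟨(f ^ (b - a)) x, by rw [← Module.End.mul_apply, ← pow_add, Nat.add_sub_of_le h]⟩

/-- `Σ cₜ σ ^ t = Σ c'ₜ (σ - 1) ^ t`, with simultaneous divisibility. -/
theorem exists_taylor (σ : Module.End ℤ M) (p : ℤ) (q : ℕ) (c : ℕ → ℤ) :
    ∃ c' : ℕ → ℤ, (∀ m, ∑ t ∈ range q, c t • (σ ^ t) m = ∑ t ∈ range q, c' t • ((σ - 1) ^ t) m) ∧
      ((∀ t < q, p ∣ c' t) → ∀ t < q, p ∣ c t) := by
  rcases q.eq_zero_or_pos with rfl | hq
  · exact ⟨c, by simp, fun _ t ht => absurd ht (Nat.not_lt_zero _)⟩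
  let P : ℤ[X] := ∑ t ∈ range q, C (c t) * X ^ t
  let P' := taylor 1 P
  have hPdeg : P.natDegree < q := by
    refine Nat.lt_of_le_of_lt (natDegree_sum_le_of_forall_le (n := q - 1) _ _ fun t ht => ?_) (by omega)
    refine (natDegree_C_mul_X_pow_le _ _).trans ?_
    rw [Finset.mem_range] at ht
    omega
  have hdeg : P'.natDegree < q := by rwa [natDegree_taylor]
  have hPc : ∀ t < q, P.coeff t = c t := fun t ht => by
    simp [P, finsetSum_coeff, Finset.sum_ite_eq, ht]
  refine ⟨P'.coeff, fun m => ?_, fun h t ht => ?_⟩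
  · have h1 : aeval (σ - 1) P' = aeval σ P := by
      simp [P', taylor_apply, aeval_comp]
    have h2 := DFunLike.congr_fun h1 m
    rw [aeval_eq_sum_range' hdeg] at h2
    simp only [P, map_sum, map_mul, aeval_C, map_pow, aeval_X, LinearMap.sum_apply, LinearMap.smul_apply,
      ← Algebra.smul_def] at h2
    exact h2.symm
  · have hd : C p ∣ P' := (C_dvd_iff_dvd_coeff _ _).2 fun i => by
      rcases lt_or_ge i q with hi | hi
      · exact h i hi
      · rw [coeff_eq_zero_of_natDegree_lt (hdeg.trans_le hi)]; exact dvd_zero _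
    obtain ⟨R, hR⟩ := hd
    have hP : P = C p * taylor (-1) R := by
      have := congrArg (taylor (-1 : ℤ)) hR
      simp only [P', taylor_mul, taylor_C, taylor_taylor] at this
      simpa using this
    rw [← hPc t ht, hP, coeff_C_mul]
    exact dvd_mul_right _ _

variable (σ : Module.End ℤ M) (p k : ℕ)

/-- fixed vectors and the augmentation of the last subgroup -/
def augSub : Submodule ℤ M := fix σ (p ^ k) ⊔ LinearMap.range (σ ^ p ^ k - 1)

variable [hp : Fact p.Prime] {σ p k} (hv : AllVanish σ p (k + 1))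

theorem apply_mem_augSub {m : M} (h : m ∈ augSub σ p k) : σ m ∈ augSub σ p k := by
  obtain ⟨f, hf, g, ⟨u, rfl⟩, rfl⟩ := Submodule.mem_sup.1 h
  rw [map_add]
  refine Submodule.add_mem_sup (apply_mem_fix hf) ⟨σ u, ?_⟩
  simp only [LinearMap.sub_apply, Module.End.one_apply, map_sub, ← Module.End.mul_apply, ← pow_succ, ← pow_succ', one_mul]

theorem subOne_mem_augSub {m : M} (t : ℕ) (h : m ∈ augSub σ p k) : ((σ - 1) ^ t) m ∈ augSub σ p k := by
  induction t with
  | zero => exact h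
  | succ t ih =>
    rw [pow_succ', Module.End.mul_apply]
    exact Submodule.sub_mem _ (apply_mem_augSub ih) ih

include hv

theorem pow_q_pow : (σ ^ p ^ k) ^ p = 1 := by rw [← pow_mul, ← pow_succ, hv.pow_eq]

theorem mem_fix_of_subOne [Module.IsTorsionFree ℤ M] {z : M} (h : (σ ^ p ^ k - 1) z ∈ fix σ (p ^ k)) :
    z ∈ fix σ (p ^ k) := by
  set D := (σ ^ p ^ k - 1) z with hD
  have h1 : nrm (σ ^ p ^ k) p D = (p : ℤ) • D := nrm_of_fixed _ _ _ (mem_fix.1 h)
  have h2 : nrm (σ ^ p ^ k) p D = 0 := by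
    rw [hD, ← Module.End.mul_apply, nrm_sub_one, pow_q_pow hv, sub_self, LinearMap.zero_apply]
  rw [h2] at h1
  have hp0 : (p : ℤ) ≠ 0 := by exact_mod_cast hp.out.ne_zero
  exact sub_eq_zero.1 ((smul_eq_zero_iff_right hp0).1 h1.symm) |> mem_fix.2

theorem p_smul_mem {s : ℕ} (hs : s ≤ p - 1) (m : M) :
    (p : ℤ) • m ∈ fix σ (p ^ k) ⊔ LinearMap.range ((σ ^ p ^ k - 1) ^ s) := by
  induction s generalizing m with
  | zero => exact Submodule.mem_sup_right ⟨(p : ℤ) • m, rfl⟩
  | succ s ih =>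
    obtain ⟨Y, -, hY, Z, -, hZ⟩ := exists_congr_apply (σ ^ p ^ k) p 1
    have hm := DFunLike.congr_fun hY m
    rw [pow_one, hZ rfl] at hm
    set D := σ ^ p ^ k - 1 with hD
    obtain ⟨f, hf, g, ⟨w, rfl⟩, hfg⟩ := Submodule.mem_sup.1 (ih (Nat.le_of_succ_le hs) (Z m))
    have hDf : D f = 0 := sub_eq_zero.2 (mem_fix.1 hf)
    have e : (p : ℤ) • m = nrm (σ ^ p ^ k) p m + ((D ^ (s + 1)) w - (D ^ (p - 1)) m) := by
      have h1 : D (Z ((p : ℤ) • m)) = (D ^ (s + 1)) w := by
        rw [map_smul Z, ← hfg, map_add, hDf, zero_add, pow_succ', Module.End.mul_apply]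
      simp only [LinearMap.add_apply, LinearMap.smul_apply, Module.End.mul_apply, LinearMap.neg_apply,
        Module.End.one_apply, smul_add, smul_neg, ← map_smul] at hm
      rw [hm, h1]
      abel
    rw [e]
    exact Submodule.add_mem_sup (nrm_mem_fix hv.pow_eq m)
      (Submodule.sub_mem _ ⟨w, rfl⟩ (range_pow_le D hs ⟨m, rfl⟩))

theorem p_smul_mem_augSub (m : M) : (p : ℤ) • m ∈ augSub σ p k := by
  simpa [augSub] using p_smul_mem hv (s := 1) (by have := hp.out.two_le; omega) m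

variable [Module.IsTorsionFree ℤ M]

theorem mem_of_subOne {v : M} (h : (σ - 1) v ∈ augSub σ p k) :
    v ∈ augSub σ p k ⊔ LinearMap.range ((σ - 1) ^ (p ^ k - 1)) := by
  obtain ⟨f, hf, g, ⟨u, rfl⟩, hfg⟩ := Submodule.mem_sup.1 h
  set G := nrm σ (p ^ k) with hG
  have hz : (σ - 1) (v - G u) = f := by
    rw [map_sub, ← Module.End.mul_apply, hG, sub_one_nrm, ← hfg, add_sub_cancel_right]
  have hz' : v - G u ∈ fix σ (p ^ k) := by
    refine mem_fix_of_subOne hv ?_
    rw [← nrm_sub_one, Module.End.mul_apply, hz, nrm_apply]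
    exact Submodule.sum_mem _ fun i _ => pow_apply_mem_fix i hf
  obtain ⟨Y, -, hY, -⟩ := exists_congr_apply σ p k
  have hu := DFunLike.congr_fun hY u
  rw [show v = (v - G u + -((p : ℤ) • Y u)) + ((σ - 1) ^ (p ^ k - 1)) u by
    rw [hu]; simp only [LinearMap.add_apply, LinearMap.smul_apply, hG]; abel]
  exact Submodule.add_mem_sup (Submodule.add_mem _ (Submodule.mem_sup_left hz')
    (Submodule.neg_mem _ (p_smul_mem_augSub hv _))) ⟨u, rfl⟩

theorem mem_of_subOne_pow {t : ℕ} (ht : t ≤ p ^ k) {y : M} (h : ((σ - 1) ^ t) y ∈ augSub σ p k) :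
    y ∈ augSub σ p k ⊔ LinearMap.range ((σ - 1) ^ (p ^ k - t)) := by
  induction t generalizing y with
  | zero => exact Submodule.mem_sup_left h
  | succ t ih =>
    rw [pow_succ, Module.End.mul_apply] at h
    obtain ⟨w, hw, g, ⟨z, rfl⟩, hwz⟩ := Submodule.mem_sup.1 (ih (Nat.le_of_succ_le ht) h)
    have h1 : (σ - 1) (y - ((σ - 1) ^ (p ^ k - (t + 1))) z) ∈ augSub σ p k := by
      rw [map_sub, ← Module.End.mul_apply, ← pow_succ', show p ^ k - (t + 1) + 1 = p ^ k - t by omega,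
        ← hwz, add_sub_cancel_right]
      exact hw
    have h2 := mem_of_subOne hv h1
    rw [← sub_add_cancel y (((σ - 1) ^ (p ^ k - (t + 1))) z)]
    refine Submodule.add_mem _ ?_ (Submodule.mem_sup_right ⟨z, rfl⟩)
    exact sup_le_sup_left (range_pow_le (σ - 1) (show p ^ k - (t + 1) ≤ p ^ k - 1 by omega)) (augSub σ p k) h2

omit hv [Module.IsTorsionFree ℤ M] in
theorem exists_min_gens [Module.Finite ℤ M] (W : Submodule ℤ M) (hW : ∀ m, (p : ℤ) • m ∈ W) :
    ∃ (r : ℕ) (m : Fin r → M), Submodule.span ℤ (Set.range m) ⊔ W = ⊤ ∧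
      ∀ c : Fin r → ℤ, ∑ l, c l • m l ∈ W → ∀ l, (p : ℤ) ∣ c l := by
  have hex : ∃ r, ∃ m : Fin r → M, Submodule.span ℤ (Set.range m) ⊔ W = ⊤ := by
    obtain ⟨r, m, hm⟩ := Module.Finite.exists_fin (R := ℤ) (M := M)
    exact ⟨r, m, by rw [hm, top_sup_eq]⟩
  classical
  let r := Nat.find hex
  obtain ⟨m, hm⟩ := Nat.find_spec hex
  refine ⟨r, m, hm, fun c hc l => ?_⟩
  by_contra hl
  obtain ⟨r', hr'⟩ : ∃ r', r = r' + 1 := Nat.exists_eq_succ_of_ne_zero (Nat.pos_iff_ne_zero.1 l.pos)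
  obtain ⟨a, b, hab⟩ := (Prime.coprime_iff_not_dvd (Nat.prime_iff_prime_int.1 hp.out)).2 hl
  refine Nat.find_min hex (show r' < Nat.find hex by show r' < r; omega) ?_
  let e : Fin (r' + 1) ≃ Fin r := finCongr hr'.symm
  refine ⟨fun i => m (e ((e.symm l).succAbove i)), ?_⟩
  set S := Submodule.span ℤ (Set.range fun i => m (e ((e.symm l).succAbove i))) ⊔ W with hS
  have hother : ∀ i, i ≠ l → m i ∈ S := fun i hi => by
    obtain ⟨j, hj⟩ := Fin.exists_succAbove_eq (x := e.symm i) (y := e.symm l) fun h => hi (e.symm.injective h)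
    exact Submodule.mem_sup_left (Submodule.subset_span ⟨j, by simp [hj]⟩)
  have hl' : c l • m l ∈ S := by
    rw [← Finset.add_sum_erase _ _ (mem_univ l)] at hc
    refine (Submodule.add_mem_iff_left S (Submodule.sum_mem _ fun i hi => ?_)).1 (Submodule.mem_sup_right hc)
    exact Submodule.smul_mem _ _ (hother i (Finset.ne_of_mem_erase hi))
  have hml : m l ∈ S := by
    have h1 : m l = b • (c l • m l) + a • ((p : ℤ) • m l) := by
      rw [smul_smul, smul_smul, ← add_smul, add_comm, hab, one_smul]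
    rw [h1]
    exact Submodule.add_mem _ (Submodule.smul_mem _ _ hl')
      (Submodule.smul_mem _ _ (Submodule.mem_sup_right (hW _)))
  rw [eq_top_iff, ← hm, sup_le_iff, Submodule.span_le]
  refine ⟨?_, le_sup_right⟩
  rintro _ ⟨i, rfl⟩
  by_cases hi : i = l
  · exact hi ▸ hml
  · exact hother i hi

end Groth.Misc15.AdicH1
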