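import Groth.Agent.Misc15.AdicH1.CycGen

/-!
Independence of the translates of minimal generators over the fixed lattice, and their index.
-/

set_option autoImplicit false
set_option linter.style.haveILetI false

open Finset

noncomputable section

namespace Groth.Misc15.AdicH1

variable {M : Type*} [AddCommGroup M] {σ : Module.End ℤ M} {p k r : ℕ} [hp : Fact p.Prime]
  (hv : AllVanish σ p (k + 1)) {m : Fin r → M}

/-- minimal generators modulo the augmentations -/
def IsGen (σ : Module.End ℤ M) (p k : ℕ) (m : Fin r → M) : Prop :=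
  (Submodule.span ℤ (Set.range m) ⊔ (augSub σ p k ⊔ LinearMap.range (σ - 1)) = ⊤) ∧
    ∀ c : Fin r → ℤ, ∑ l, c l • m l ∈ augSub σ p k ⊔ LinearMap.range (σ - 1) → ∀ l, (p : ℤ) ∣ c l

/-- the lattice generated by the fixed vectors and the translates -/
def genSub (σ : Module.End ℤ M) (p k : ℕ) (m : Fin r → M) : Submodule ℤ M :=
  fix σ (p ^ k) ⊔ Submodule.span ℤ (Set.range fun x : Fin r × ℕ => (σ ^ x.2) (m x.1))

theorem gen_mem_genSub (l : Fin r) (i : ℕ) : (σ ^ i) (m l) ∈ genSub σ p k m :=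
  Submodule.mem_sup_right (Submodule.subset_span ⟨(l, i), rfl⟩)

theorem apply_mem_genSub {x : M} (hx : x ∈ genSub σ p k m) : σ x ∈ genSub σ p k m := by
  obtain ⟨f, hf, g, hg, rfl⟩ := Submodule.mem_sup.1 hx
  rw [map_add]
  refine Submodule.add_mem _ (Submodule.mem_sup_left (apply_mem_fix hf)) ?_
  have hle : Submodule.span ℤ (Set.range fun x : Fin r × ℕ => (σ ^ x.2) (m x.1)) ≤
      (genSub σ p k m).comap σ := by
    rw [Submodule.span_le]
    rintro _ ⟨y, rfl⟩
    show σ ((σ ^ y.2) (m y.1)) ∈ genSub σ p k m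
    rw [← Module.End.mul_apply, ← pow_succ']
    exact gen_mem_genSub _ _
  exact hle hg

include hv

theorem exists_isGen [Module.Finite ℤ M] : ∃ (r : ℕ) (m : Fin r → M), IsGen σ p k m :=
  exists_min_gens _ fun x => Submodule.mem_sup_left (p_smul_mem_augSub hv x)

theorem exists_index [Module.Finite ℤ M] (hm : IsGen σ p k m) :
    ∃ d : ℤ, IsCoprime d p ∧ ∀ x, d • x ∈ genSub σ p k m := by
  let U := genSub σ p k m
  let T : Module.End ℤ M := σ - 1
  have hT : ∀ x ∈ U, T x ∈ U := fun x hx => Submodule.sub_mem _ (apply_mem_genSub hx) hx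
  let P : Submodule ℤ M := LinearMap.range ((p : ℤ) • LinearMap.id (R := ℤ) (M := M))
  have hPmem : ∀ x, (p : ℤ) • x ∈ P := fun x => ⟨x, rfl⟩
  have hpm : ∀ x, T x ∈ U ⊔ P ⊔ LinearMap.range (T ^ 1) := fun x =>
    Submodule.mem_sup_right ⟨x, by rw [pow_one]⟩
  have h1 : (U ⊔ P) ⊔ LinearMap.range (T ^ 1) = ⊤ := by
    rw [eq_top_iff, ← hm.1, pow_one]
    refine sup_le ?_ (sup_le (sup_le ?_ ?_) le_sup_right)
    · rw [Submodule.span_le]
      rintro _ ⟨l, rfl⟩
      exact Submodule.mem_sup_left (Submodule.mem_sup_left (gen_mem_genSub l 0))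
    · exact le_sup_of_le_left (le_sup_of_le_left le_sup_left)
    · rintro _ ⟨x, rfl⟩
      refine Submodule.mem_sup_right ⟨nrm σ (p ^ k) x, ?_⟩
      rw [← Module.End.mul_apply, sub_one_nrm]
  have hi : ∀ i, (U ⊔ P) ⊔ LinearMap.range (T ^ i) = ⊤ := by
    intro i
    induction i with
    | zero => rw [pow_zero, Module.End.one_eq_id, LinearMap.range_id, sup_top_eq]
    | succ i ih =>
      rw [eq_top_iff]
      intro x _
      obtain ⟨u, hu, g, ⟨y, rfl⟩, rfl⟩ := Submodule.mem_sup.1 (ih ▸ Submodule.mem_top : x ∈ _)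
      obtain ⟨w, hw, g, ⟨z, rfl⟩, rfl⟩ := Submodule.mem_sup.1 (h1 ▸ Submodule.mem_top : y ∈ _)
      refine Submodule.add_mem _ (Submodule.mem_sup_left hu) ?_
      rw [map_add]
      refine Submodule.add_mem _ (Submodule.mem_sup_left ?_) (Submodule.mem_sup_right ⟨z, ?_⟩)
      · clear hu
        induction i generalizing w with
        | zero => exact hw
        | succ i ih' =>
          rw [pow_succ, Module.End.mul_apply]
          obtain ⟨a, ha, b, ⟨c, rfl⟩, rfl⟩ := Submodule.mem_sup.1 hw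
          rw [map_add, map_add]
          refine Submodule.add_mem _ ?_ ?_
          · have : ∀ j, ∀ v ∈ U, (T ^ j) v ∈ U := fun j => by
              induction j with
              | zero => exact fun v hv => hv
              | succ j hj => exact fun v hv => by rw [pow_succ, Module.End.mul_apply]; exact hj _ (hT v hv)
            exact Submodule.mem_sup_left (this i _ (hT a ha))
          · rw [LinearMap.smul_apply, LinearMap.id_apply, map_smul, map_smul]
            exact Submodule.mem_sup_right (hPmem _)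
      · rw [pow_one, pow_succ, Module.End.mul_apply]
  have hn : LinearMap.range (T ^ p ^ (k + 1)) ≤ P := by
    rintro _ ⟨x, rfl⟩
    obtain ⟨Y, -, hY, -⟩ := exists_congr_apply σ p (k + 1)
    have h2 : T ^ p ^ (k + 1) = (T : Module.End ℤ M) * ((σ - 1) ^ (p ^ (k + 1) - 1)) := by
      rw [← pow_succ', Nat.sub_add_cancel (Nat.one_le_pow _ _ hp.out.pos)]
    rw [h2, hY, mul_add, sub_one_nrm, hv.pow_eq, sub_self, zero_add, Module.End.mul_apply,
      LinearMap.smul_apply, map_smul]
    exact hPmem _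
  have hUP : U ⊔ P = ⊤ := by
    have h := hi (p ^ (k + 1))
    rwa [sup_assoc, sup_of_le_left hn] at h
  obtain ⟨d, hd1, hd2⟩ := Submodule.exists_sub_one_mem_and_smul_eq_zero_of_fg_of_le_smul
    (Ideal.span {(p : ℤ)}) (⊤ : Submodule ℤ (M ⧸ U)) Module.Finite.fg_top (fun x _ => by
      obtain ⟨x, rfl⟩ := Submodule.Quotient.mk_surjective _ x
      obtain ⟨u, hu, g, ⟨y, rfl⟩, rfl⟩ := Submodule.mem_sup.1 (hUP ▸ Submodule.mem_top : x ∈ _)
      rw [Submodule.Quotient.mk_add, (Submodule.Quotient.mk_eq_zero _).2 hu, zero_add, LinearMap.smul_apply,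
        LinearMap.id_apply, Submodule.Quotient.mk_smul]
      exact Submodule.smul_mem_smul (Ideal.mem_span_singleton_self _) Submodule.mem_top)
  obtain ⟨e, he⟩ := Ideal.mem_span_singleton'.1 hd1
  refine ⟨d, ⟨1, -e, by linarith⟩, fun x => (Submodule.Quotient.mk_eq_zero _).1 ?_⟩
  rw [Submodule.Quotient.mk_smul]
  exact hd2 _ Submodule.mem_top

variable [Module.IsTorsionFree ℤ M]

theorem indep_subOne (hm : IsGen σ p k m) (c : Fin r → ℕ → ℤ)
    (h : ∑ l, ∑ t ∈ range (p ^ k), c l t • ((σ - 1) ^ t) (m l) ∈ augSub σ p k) :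
    ∀ t < p ^ k, ∀ l, (p : ℤ) ∣ c l t := by
  intro t
  induction t using Nat.strong_induction_on with
  | _ t ih =>
    intro ht l
    set T : Module.End ℤ M := σ - 1
    let y := ∑ l, ∑ s ∈ range (p ^ k - t), c l (t + s) • (T ^ s) (m l)
    have hlow : ∑ l, ∑ s ∈ range t, c l s • (T ^ s) (m l) ∈ augSub σ p k := by
      refine Submodule.sum_mem _ fun l _ => Submodule.sum_mem _ fun s hs => ?_
      rw [Finset.mem_range] at hs
      obtain ⟨e, he⟩ := ih s hs (hs.trans ht) l
      rw [he, mul_smul]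
      exact p_smul_mem_augSub hv _
    have hy : (T ^ t) y ∈ augSub σ p k := by
      have hsplit : ∀ l, ∑ s ∈ range (p ^ k), c l s • (T ^ s) (m l) = (∑ s ∈ range t, c l s • (T ^ s) (m l)) +
          (T ^ t) (∑ s ∈ range (p ^ k - t), c l (t + s) • (T ^ s) (m l)) := fun l => by
        conv_lhs => rw [← Nat.add_sub_of_le ht.le, sum_range_add]
        rw [map_sum]
        congr 1
        refine Finset.sum_congr rfl fun s _ => ?_
        rw [map_smul, ← Module.End.mul_apply, ← pow_add]
      simp only [hsplit, sum_add_distrib] at h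
      rw [map_sum]
      exact (Submodule.add_mem_iff_right _ hlow).1 h
    have h2 := sup_le_sup_left (range_pow_le T (show 1 ≤ p ^ k - t by omega)) (augSub σ p k)
      (mem_of_subOne_pow hv ht.le hy)
    rw [pow_one] at h2
    refine hm.2 (fun l => c l t) ?_ l
    have hy2 : y - ∑ l, c l t • m l ∈ LinearMap.range T := by
      obtain ⟨u, hu⟩ : ∃ u, p ^ k - t = u + 1 := ⟨p ^ k - t - 1, by omega⟩
      refine ⟨∑ l, ∑ s ∈ range u, c l (t + (s + 1)) • (T ^ s) (m l), ?_⟩
      simp only [y, hu, sum_range_succ', map_sum, map_smul, add_zero, pow_zero, Module.End.one_apply,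
        sum_add_distrib, add_sub_cancel_right, pow_succ' T, Module.End.mul_apply]
    have := Submodule.sub_mem _ h2 (Submodule.mem_sup_right (S := augSub σ p k) hy2)
    rwa [sub_sub_cancel] at this

theorem indep_sigma (hm : IsGen σ p k m) (c : Fin r → ℕ → ℤ)
    (h : ∑ l, ∑ t ∈ range (p ^ k), c l t • (σ ^ t) (m l) ∈ augSub σ p k) :
    ∀ t < p ^ k, ∀ l, (p : ℤ) ∣ c l t := by
  choose c' hc' hdvd using fun l => exists_taylor σ (p : ℤ) (p ^ k) (c l)
  simp only [hc'] at h
  exact fun t ht l => hdvd l (fun s hs => indep_subOne hv hm c' h s hs l) t ht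

theorem indep_nrm (hm : IsGen σ p k m) (c : Fin r → ℕ → ℤ) {f : M} (hf : f ∈ fix σ (p ^ k))
    (h : ∑ l, ∑ t ∈ range (p ^ k), c l t • (σ ^ t) (nrm (σ ^ p ^ k) p (m l)) = (p : ℤ) • f) :
    ∀ t < p ^ k, ∀ l, (p : ℤ) ∣ c l t := by
  refine indep_sigma hv hm c ?_
  set w := ∑ l, ∑ t ∈ range (p ^ k), c l t • (σ ^ t) (m l)
  have hc : ∀ t, Commute (σ ^ t) (nrm (σ ^ p ^ k) p) := fun t =>
    Commute.sum_right _ _ _ fun i _ => ((Commute.refl σ).pow_pow t (p ^ k)).pow_right i
  have hN : nrm (σ ^ p ^ k) p (w - f) = 0 := by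
    have h1 : nrm (σ ^ p ^ k) p w = (p : ℤ) • f := by
      rw [← h]
      simp only [w, map_sum, map_smul]
      refine Finset.sum_congr rfl fun l _ => Finset.sum_congr rfl fun t _ => ?_
      rw [← Module.End.mul_apply, ← (hc t).eq, Module.End.mul_apply]
    rw [map_sub, nrm_of_fixed _ _ f (mem_fix.1 hf), h1, sub_self]
  obtain ⟨y, hy⟩ := hv.vanish k k.le_succ (w - f) (by rw [Nat.add_sub_cancel_left, pow_one]; exact hN)
  rw [← sub_add_cancel w f, ← hy]
  exact Submodule.add_mem _ (Submodule.mem_sup_right ⟨y, rfl⟩) (Submodule.mem_sup_left hf)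

/-- the translates by the exponents of the last subgroup below `p - 1` are independent over the fixed part -/
theorem indep_full (hm : IsGen σ p k m) (c : Fin r → ℕ → ℕ → ℤ)
    (h : ∑ l, ∑ j ∈ range (p - 1), ∑ t ∈ range (p ^ k), c l j t • ((σ ^ p ^ k) ^ j) ((σ ^ t) (m l)) ∈
      fix σ (p ^ k)) :
    ∀ l, ∀ j < p - 1, ∀ t < p ^ k, c l j t = 0 := by
  suffices hdiv : ∀ (s : ℕ) (c : Fin r → ℕ → ℕ → ℤ),
      (∑ l, ∑ j ∈ range (p - 1), ∑ t ∈ range (p ^ k), c l j t • ((σ ^ p ^ k) ^ j) ((σ ^ t) (m l)) ∈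
        fix σ (p ^ k)) → ∀ l, ∀ j < p - 1, ∀ t < p ^ k, (p : ℤ) ^ s ∣ c l j t by
    intro l j hj t ht
    by_contra hne
    have hfin : FiniteMultiplicity (p : ℤ) (c l j t) := Int.finiteMultiplicity_iff.2
      ⟨by simpa using hp.out.ne_one, hne⟩
    obtain ⟨n, hn⟩ := hfin
    exact hn (hdiv (n + 1) c h l j hj t ht)
  intro s
  induction s with
  | zero => simp
  | succ s ih =>
    intro c h l j hj t ht
    have h1 : ∀ l, ∀ j < p - 1, ∀ t < p ^ k, (p : ℤ) ∣ c l j t := by
      set D := σ ^ p ^ k - 1 with hD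
      choose c' hc' hdvd using fun (l : Fin r) (t : ℕ) =>
        exists_taylor (σ ^ p ^ k) (p : ℤ) (p - 1) (fun j => c l j t)
      have hrw : ∑ l, ∑ j ∈ range (p - 1), ∑ t ∈ range (p ^ k), c l j t • ((σ ^ p ^ k) ^ j) ((σ ^ t) (m l)) =
          ∑ j ∈ range (p - 1), (D ^ j) (∑ l, ∑ t ∈ range (p ^ k), c' l t j • (σ ^ t) (m l)) := by
        simp only [map_sum, map_smul]
        rw [Finset.sum_comm (s := range (p - 1))]
        refine Finset.sum_congr rfl fun l _ => ?_
        rw [Finset.sum_comm, Finset.sum_comm (s := range (p - 1))]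
        exact Finset.sum_congr rfl fun t _ => hc' l t _
      rw [hrw] at h
      suffices hz : ∀ j < p - 1, ∀ t < p ^ k, ∀ l, (p : ℤ) ∣ c' l t j from
        fun l j hj t ht => hdvd l t (fun i hi => hz i hi t ht l) j hj
      intro j0
      induction j0 using Nat.strong_induction_on with
      | _ j0 ihj =>
        intro hj0
        set w := fun j => ∑ l, ∑ t ∈ range (p ^ k), c' l t j • (σ ^ t) (m l) with hw
        have hlow : ∀ i < j0, (D ^ i) (w i) ∈ fix σ (p ^ k) ⊔ LinearMap.range (D ^ (j0 + 1)) := by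
          intro i hi
          have hDfix : ∀ i, ∀ x ∈ fix σ (p ^ k) ⊔ LinearMap.range (D ^ (j0 + 1)),
              (D ^ i) x ∈ fix σ (p ^ k) ⊔ LinearMap.range (D ^ (j0 + 1)) := by
            intro i x hx
            induction i with
            | zero => exact hx
            | succ i ih' =>
              rw [show (D ^ (i + 1)) x = D ((D ^ i) x) by rw [pow_succ']; rfl]
              obtain ⟨a, ha, b, ⟨z, rfl⟩, hab⟩ := Submodule.mem_sup.1 ih'
              rw [← hab, map_add, hD, show (σ ^ p ^ k - 1) a = 0 from sub_eq_zero.2 (mem_fix.1 ha), zero_add]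
              exact Submodule.mem_sup_right ⟨(σ ^ p ^ k - 1) z, by
                rw [← Module.End.mul_apply, ← pow_succ, pow_succ', Module.End.mul_apply]⟩
          refine hDfix i _ (Submodule.sum_mem _ fun l _ => Submodule.sum_mem _ fun t ht => ?_)
          obtain ⟨e, he⟩ := ihj i hi (hi.trans hj0) t (Finset.mem_range.1 ht) l
          rw [he, mul_smul]
          exact p_smul_mem hv (by omega) _
        obtain ⟨n, hn⟩ : ∃ n, p - 1 = j0 + 1 + n := ⟨p - 1 - (j0 + 1), by omega⟩
        rw [hn, sum_range_add, sum_range_succ] at h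
        obtain ⟨f, hf, g, ⟨x, rfl⟩, hfx⟩ := Submodule.mem_sup.1
          (Submodule.sum_mem _ (fun i hi => hlow i (Finset.mem_range.1 hi)) :
            ∑ i ∈ range j0, (D ^ i) (w i) ∈ fix σ (p ^ k) ⊔ LinearMap.range (D ^ (j0 + 1)))
        have hz : (D ^ j0) (w j0 + D (x + ∑ i ∈ range n, (D ^ i) (w (j0 + 1 + i)))) ∈ fix σ (p ^ k) := by
          have e : (D ^ j0) (w j0 + D (x + ∑ i ∈ range n, (D ^ i) (w (j0 + 1 + i)))) =
              (∑ i ∈ range j0, (D ^ i) (w i) + (D ^ j0) (w j0)) +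
                ∑ i ∈ range n, (D ^ (j0 + 1 + i)) (w (j0 + 1 + i)) - f := by
            rw [← hfx]
            simp only [map_add, map_sum, ← Module.End.mul_apply, ← pow_succ, ← pow_succ', ← pow_add]
            rw [show ∀ i, j0 + (i + 1) = j0 + 1 + i from fun i => by ring]
            abel
          rw [e]
          exact Submodule.sub_mem _ h hf
        have hinj : ∀ i, ∀ z, (D ^ i) z ∈ fix σ (p ^ k) → z ∈ fix σ (p ^ k) := by
          intro i
          induction i with
          | zero => exact fun z hz => hz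
          | succ i ih' => exact fun z hz => mem_fix_of_subOne hv (ih' _ (by rwa [pow_succ] at hz))
        intro t ht l
        refine indep_sigma hv hm (fun l t => c' l t j0) ?_ t ht l
        show w j0 ∈ _
        rw [← add_sub_cancel_right (w j0) (D (x + ∑ i ∈ range n, (D ^ i) (w (j0 + 1 + i))))]
        exact Submodule.sub_mem _ (Submodule.mem_sup_left (hinj _ _ hz)) (Submodule.mem_sup_right ⟨_, rfl⟩)
    have hq : ∀ l j t, ∃ e, j < p - 1 → t < p ^ k → c l j t = p * e := fun l j t => by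
      by_cases hjt : j < p - 1 ∧ t < p ^ k
      · obtain ⟨e, he⟩ := h1 l j hjt.1 t hjt.2
        exact ⟨e, fun _ _ => he⟩
      · exact ⟨0, fun a b => absurd ⟨a, b⟩ hjt⟩
    choose e he using hq
    rw [he l j t hj ht, pow_succ']
    refine mul_dvd_mul_left _ (ih e ?_ l j hj t ht)
    refine isTorsionFree_quotient_fix σ _ (p : ℤ) (by exact_mod_cast hp.out.ne_zero) _ ?_
    rw [Finset.smul_sum]
    convert h using 1
    refine Finset.sum_congr rfl fun l _ => ?_
    rw [Finset.smul_sum]
    refine Finset.sum_congr rfl fun j hj => ?_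
    rw [Finset.smul_sum]
    refine Finset.sum_congr rfl fun t ht => ?_
    rw [smul_smul, ← he l j t (Finset.mem_range.1 hj) (Finset.mem_range.1 ht)]

end Groth.Misc15.AdicH1
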