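import Groth.Agent.Misc15.AdicH1.CycIndep

/-!
For a cyclic `p`-group acting on a lattice and on a module, both with vanishing norm kernels modulo
augmentations for all subgroups, every derivation between them is inner.
-/

set_option autoImplicit false
set_option linter.style.haveILetI false

open Finset

noncomputable section

namespace Groth.Misc15.AdicH1

universe uM uX

section Step

variable {M : Type uM} {X : Type uX} [AddCommGroup M] [AddCommGroup X] {σ : Module.End ℤ M}
  {τ : Module.End ℤ X} {p k r : ℕ} [hp : Fact p.Prime]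

theorem tau_pow_periodic {n : ℕ} (hτ : τ ^ n = 1) (i : ℕ) : τ ^ (i + n) = τ ^ i := by
  rw [pow_add, hτ, mul_one]

/-- an equivariant map on fixed lattices with prescribed values on independent elements modulo `p` -/
theorem exists_equivariant_congr [Module.Free ℤ M] [Module.Finite ℤ M] (hv : AllVanish σ p (k + 1))
    (hτ : τ ^ p ^ (k + 1) = 1) {m : Fin r → M} (hm : IsGen σ p k m) (C : Fin r → X)
    (hC : ∀ l, (τ ^ p ^ k) (C l) = C l) :
    ∃ β : fix σ (p ^ k) →ₗ[ℤ] X, (∀ f, τ (β f) = β ⟨σ f, apply_mem_fix f.2⟩) ∧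
      (∀ f, (τ ^ p ^ k) (β f) = β f) ∧
      ∀ l, ∃ z : X, (τ ^ p ^ k) z = z ∧
        β ⟨nrm (σ ^ p ^ k) p (m l), nrm_mem_fix hv.pow_eq (m l)⟩ + C l = (p : ℤ) • z := by
  classical
  haveI : Module.IsTorsionFree ℤ M := inferInstance
  let F := fix σ (p ^ k)
  let q := p ^ k
  haveI : Module.Finite ℤ F := Module.Finite.of_injective F.subtype (Submodule.injective_subtype F)
  let B := Module.Free.chooseBasis ℤ F
  let e : Fin r × Fin q → F := fun x => ⟨(σ ^ (x.2 : ℕ)) (nrm (σ ^ p ^ k) p (m x.1)),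
    pow_apply_mem_fix _ (nrm_mem_fix hv.pow_eq _)⟩
  let E : (Fin r × Fin q → ZMod p) →ₗ[ZMod p] (Module.Free.ChooseBasisIndex ℤ F → ZMod p) :=
    Fintype.linearCombination (ZMod p) fun x i => ((B.repr (e x) i : ℤ) : ZMod p)
  have hE : LinearMap.ker E = ⊥ := by
    rw [LinearMap.ker_eq_bot']
    intro c hc
    let cz : Fin r → ℕ → ℤ := fun l t => if h : t < q then ((c (l, ⟨t, h⟩)).val : ℤ) else 0
    have hcz : ∀ l (t : Fin q), ((cz l t : ℤ) : ZMod p) = c (l, t) := fun l t => by simp [cz, t.2]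
    let v : F := ∑ x : Fin r × Fin q, cz x.1 x.2 • e x
    have hv' : ∀ i, (p : ℤ) ∣ B.repr v i := fun i => by
      rw [← ZMod.intCast_zmod_eq_zero_iff_dvd]
      have h2 := congrFun hc i
      simp only [E, Fintype.linearCombination_apply, Finset.sum_apply, Pi.smul_apply, smul_eq_mul,
        Pi.zero_apply] at h2
      simp only [v, map_sum, map_smul, Finsupp.finsetSum_apply, Finsupp.smul_apply, smul_eq_mul,
        Int.cast_sum, Int.cast_mul, hcz]
      exact h2
    choose w hw using hv'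
    let f : F := ∑ i, w i • B i
    have hf : v = (p : ℤ) • f := by
      conv_lhs => rw [← B.sum_repr v]
      simp only [f, Finset.smul_sum, smul_smul]
      exact Finset.sum_congr rfl fun i _ => by rw [hw]
    have hmain := indep_nrm hv hm cz f.2 (by
      rw [← Submodule.coe_smul, ← hf]
      simp only [v, Submodule.coe_sum, Submodule.coe_smul, e, Fintype.sum_prod_type]
      exact Finset.sum_congr rfl fun l _ => (Fin.sum_univ_eq_sum_range
        (fun t => cz l t • (σ ^ t) (nrm (σ ^ p ^ k) p (m l))) q).symm)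
    funext x
    rw [← hcz, Pi.zero_apply, ZMod.intCast_zmod_eq_zero_iff_dvd]
    exact hmain x.2 x.2.2 x.1
  obtain ⟨L, hL⟩ := E.exists_leftInverse_of_injective hE
  let φ : Fin r → (F →ₗ[ℤ] ℤ) := fun l => B.constr ℤ fun i =>
    ((L (Pi.single i 1) (l, ⟨0, Nat.pow_pos hp.out.pos⟩)).val : ℤ)
  have hφ : ∀ l x, ((φ l (e x) : ℤ) : ZMod p) = if x = (l, ⟨0, Nat.pow_pos hp.out.pos⟩) then 1 else 0 := by
    intro l x
    have h1 : L (E (Pi.single x 1)) = Pi.single x 1 := LinearMap.congr_fun hL _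
    rw [Fintype.linearCombination_apply_single, one_smul] at h1
    have h2 : ((φ l (e x) : ℤ) : ZMod p) =
        L (fun i => ((B.repr (e x) i : ℤ) : ZMod p)) (l, ⟨0, Nat.pow_pos hp.out.pos⟩) := by
      rw [show (fun i => ((B.repr (e x) i : ℤ) : ZMod p)) =
        ∑ i, ((B.repr (e x) i : ℤ) : ZMod p) • Pi.single i 1 from
          funext fun j => by simp [Finset.sum_apply, Pi.single_apply]]
      simp only [φ, Module.Basis.constr_apply_fintype, map_sum, map_smul, Finset.sum_apply, Pi.smul_apply,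
        Module.Basis.equivFun_apply, smul_eq_mul, Int.cast_sum, Int.cast_mul]
      simp
    rw [h2, h1, Pi.single_apply]
    exact if_congr eq_comm rfl rfl
  let sh : ℕ → (F →ₗ[ℤ] F) := fun i => (res σ (p ^ k)) ^ i
  let β : F →ₗ[ℤ] X := ∑ l, ∑ t ∈ range q, (φ l ∘ₗ sh (q - t)).smulRight (-((τ ^ t) (C l)))
  have hτq : ∀ (t : ℕ) (l : Fin r), (τ ^ q) ((τ ^ t) (C l)) = (τ ^ t) (C l) := fun t l => by
    rw [← Module.End.mul_apply, ← pow_add, add_comm, pow_add, Module.End.mul_apply, hC]
  have hσq : ∀ f : F, sh q f = f := fun f => Subtype.ext (by rw [coe_res_pow]; exact mem_fix.1 f.2)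
  refine ⟨β, fun f => ?_, fun f => ?_, fun l => ?_⟩
  · simp only [β, LinearMap.sum_apply, map_sum, LinearMap.smulRight_apply, LinearMap.comp_apply, map_smul,
      map_neg]
    refine Finset.sum_congr rfl fun l _ => ?_
    have hf' : (⟨σ f, apply_mem_fix f.2⟩ : F) = sh 1 f := Subtype.ext (by rw [coe_res_pow, pow_one])
    rw [hf']
    let u : ℕ → X := fun t => φ l (sh (q + 1 - t) f) • -((τ ^ t) (C l))
    have hl : ∀ t ∈ range q, φ l (sh (q - t) f) • -τ ((τ ^ t) (C l)) = u (t + 1) := fun t _ => by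
      simp only [u, show q + 1 - (t + 1) = q - t by omega, pow_succ', Module.End.mul_apply]
    have hr : ∀ t ∈ range q, φ l (sh (q - t) (sh 1 f)) • -((τ ^ t) (C l)) = u t := fun t ht => by
      rw [Finset.mem_range] at ht
      simp only [u, sh, ← Module.End.mul_apply, ← pow_add, show q - t + 1 = q + 1 - t by omega]
    rw [Finset.sum_congr rfl hl, Finset.sum_congr rfl hr]
    have h0 : u q = u 0 := by
      simp only [u, show q + 1 - q = 1 by omega, Nat.sub_zero, pow_zero, Module.End.one_apply]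
      rw [show (τ ^ q) (C l) = C l from hC l, show sh (q + 1) f = sh 1 f by
        show ((res σ (p ^ k)) ^ (q + 1)) f = _
        rw [add_comm, pow_add, Module.End.mul_apply]
        exact congrArg _ (hσq f)]
    have := Finset.sum_range_succ' u q
    rw [Finset.sum_range_succ, h0] at this
    exact (add_right_cancel this).symm
  · simp only [β, LinearMap.sum_apply, map_sum, LinearMap.smulRight_apply, map_smul, map_neg]
    exact Finset.sum_congr rfl fun l _ => Finset.sum_congr rfl fun t _ => by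
      rw [show (τ ^ p ^ k) ((τ ^ t) (C l)) = (τ ^ t) (C l) from hτq t l]
  · set el : F := ⟨nrm (σ ^ p ^ k) p (m l), nrm_mem_fix hv.pow_eq (m l)⟩ with hel
    have hval : ∀ l' (t : ℕ), t < q → ((φ l' (sh (q - t) el) : ℤ) : ZMod p) =
        if l' = l ∧ t = 0 then 1 else 0 := by
      intro l' t ht
      have hq0 : 0 < q := Nat.pow_pos hp.out.pos
      by_cases ht0 : t = 0
      · subst ht0
        rw [Nat.sub_zero, hσq, show el = e (l, ⟨0, hq0⟩) from Subtype.ext rfl, hφ]
        exact if_congr (by simp [eq_comm]) rfl rfl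
      · rw [show sh (q - t) el = e (l, ⟨q - t, by omega⟩) from Subtype.ext (by rw [coe_res_pow]), hφ]
        rw [if_neg (by simp; omega), if_neg (by tauto)]
    have hq' : ∀ l' t, ∃ d : ℤ, t < q → φ l' (sh (q - t) el) = (if l' = l ∧ t = 0 then 1 else 0) + p * d := by
      intro l' t
      by_cases ht : t < q
      · obtain ⟨d, hd⟩ := (ZMod.intCast_zmod_eq_zero_iff_dvd
          (φ l' (sh (q - t) el) - if l' = l ∧ t = 0 then 1 else 0) p).1 (by
          rw [Int.cast_sub, hval l' t ht]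
          split_ifs <;> simp)
        exact ⟨d, fun _ => by rw [← hd]; ring⟩
      · exact ⟨0, fun h => absurd h ht⟩
    choose d hd using hq'
    refine ⟨∑ l', ∑ t ∈ range q, d l' t • -((τ ^ t) (C l')), ?_, ?_⟩
    · simp only [map_sum, map_smul, map_neg]
      exact Finset.sum_congr rfl fun l _ => Finset.sum_congr rfl fun t _ => by
        rw [show (τ ^ p ^ k) ((τ ^ t) (C l)) = (τ ^ t) (C l) from hτq t l]
    · simp only [β, LinearMap.sum_apply, LinearMap.smulRight_apply, LinearMap.comp_apply, Finset.smul_sum,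
        smul_smul]
      rw [Finset.sum_congr rfl fun l' _ => Finset.sum_congr rfl fun t ht => by
        rw [hd l' t (Finset.mem_range.1 ht), add_smul]]
      simp only [Finset.sum_add_distrib]
      have hone : ∑ l', ∑ t ∈ range q, ((if l' = l ∧ t = 0 then 1 else 0 : ℤ)) • -((τ ^ t) (C l')) = -C l := by
        rw [Finset.sum_eq_single l (fun b _ hb => by simp [hb]) (by simp),
          Finset.sum_eq_single 0 (fun b _ hb => by simp [hb])
            (fun h => absurd (Finset.mem_range.2 (Nat.pow_pos hp.out.pos)) h)]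
        simp
      rw [hone]
      abel

/-- a derivation which vanishes on the fixed lattice is inner -/
theorem exists_of_vanish_fix [Module.Free ℤ M] [Module.Finite ℤ M] (hv : AllVanish σ p (k + 1))
    (hτ : τ ^ p ^ (k + 1) = 1) (a : M →ₗ[ℤ] X) (ha : ∀ x, tsum σ τ a (p ^ (k + 1)) x = 0)
    (hF : ∀ x ∈ fix σ (p ^ k), a x = 0) : ∃ b : M →ₗ[ℤ] X, ∀ x, τ (b x) - b (σ x) = a x := by
  classical
  haveI : Module.IsTorsionFree ℤ M := inferInstance
  obtain ⟨r, m, hm⟩ := exists_isGen hv
  obtain ⟨d, hd, hdU⟩ := exists_index hv hm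
  set q := p ^ k with hq
  set n := p ^ (k + 1) with hn
  have hnq : q * p = n := (pow_succ p k).symm
  let S : ℕ → M → X := fun i => tsum σ τ a i
  let C : Fin r → X := fun l => ∑ j ∈ range p, S (q * j) (m l)
  have hSfix : ∀ i, ∀ x ∈ fix σ q, S i x = 0 := by
    intro i
    induction i with
    | zero => intro x _; rfl
    | succ i ih => intro x hx; simp only [S, tsum_succ] at ih ⊢; rw [ih x hx, map_zero, zero_add, hF _ (pow_apply_mem_fix i hx)]
  have hC : ∀ l, (τ ^ q) (C l) = C l := by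
    intro l
    have h1 : ∀ j ∈ range p, (τ ^ q) (S (q * j) (m l)) =
        S (q * (j + 1)) (m l) - S q ((σ ^ (q * j)) (m l)) := fun j _ => by
      show (τ ^ q) (tsum σ τ a _ _) = tsum σ τ a _ _ - tsum σ τ a _ _
      rw [mul_add, mul_one, add_comm (q * j) q, tsum_add, add_sub_cancel_right]
    have h2 : ∑ j ∈ range p, S q ((σ ^ (q * j)) (m l)) = 0 := by
      have := hSfix q _ (nrm_mem_fix (hv.pow_eq) (m l))
      rw [nrm_apply] at this
      simp only [S] at this ⊢
      rw [map_sum] at this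
      simpa only [← pow_mul] using this
    simp only [C, map_sum]
    rw [Finset.sum_congr rfl h1, Finset.sum_sub_distrib, h2, sub_zero]
    have := Finset.sum_range_succ' (fun j => S (q * j) (m l)) p
    rw [Finset.sum_range_succ, hnq, show S n (m l) = 0 from ha _, add_zero, mul_zero,
      show S 0 (m l) = 0 from rfl, add_zero] at this
    exact this.symm
  obtain ⟨β, hβσ, hβq, hβC⟩ := exists_equivariant_congr hv hτ hm C hC
  choose z hzq hz using hβC
  let val : Fin r → ℕ → X := fun l i => (τ ^ i) (z l) - S i (m l)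
  have hval : ∀ l i, val l (i + n) = val l i := fun l i => by
    simp only [val, S]
    rw [tau_pow_periodic hτ, tsum_add, ha, map_zero, zero_add, hv.pow_eq, Module.End.one_apply]
  have hstep : ∀ l i, τ (val l i) - val l (i + 1) = a ((σ ^ i) (m l)) := fun l i => by
    simp only [val, S, map_sub, tsum_succ, pow_succ', Module.End.mul_apply]
    abel
  let g : Fin r × Fin p × Fin q → M := fun x => (σ ^ (q * x.2.1 + x.2.2 : ℕ)) (m x.1)
  let ψ : (fix σ q × (Fin r × Fin p × Fin q → ℤ)) →ₗ[ℤ] M :=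
    (fix σ q).subtype.coprod (Fintype.linearCombination ℤ g)
  let bt : (fix σ q × (Fin r × Fin p × Fin q → ℤ)) →ₗ[ℤ] X :=
    β.coprod (Fintype.linearCombination ℤ fun x => val x.1 (q * x.2.1 + x.2.2))
  have hker : LinearMap.ker ψ ≤ LinearMap.ker bt := by
    rintro ⟨f, c⟩ hfc
    rw [LinearMap.mem_ker] at hfc ⊢
    simp only [ψ, LinearMap.coprod_apply, Submodule.coe_subtype, Fintype.linearCombination_apply,
      Fintype.sum_prod_type] at hfc
    let top : Fin p := ⟨p - 1, by have := hp.out.pos; omega⟩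
    let c' : Fin r → ℕ → ℕ → ℤ := fun l j t =>
      if h : j < p ∧ t < q then c (l, ⟨j, h.1⟩, ⟨t, h.2⟩) - c (l, top, ⟨t, h.2⟩) else 0
    have hNσ : ∀ l (t : ℕ), ∑ j : Fin p, (σ ^ (q * (j : ℕ) + t)) (m l) =
        (σ ^ t) (nrm (σ ^ q) p (m l)) := fun l t => by
      rw [Fin.sum_univ_eq_sum_range (fun j => (σ ^ (q * j + t)) (m l)) p, nrm_apply, map_sum]
      refine Finset.sum_congr rfl fun j _ => ?_
      rw [← Module.End.mul_apply, ← pow_mul, ← pow_add, add_comm]
    let W : M := ∑ l, ∑ t : Fin q, c (l, top, t) • (σ ^ (t : ℕ)) (nrm (σ ^ q) p (m l))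
    have hW : W ∈ fix σ q := Submodule.sum_mem _ fun l _ => Submodule.sum_mem _ fun t _ =>
      Submodule.smul_mem _ _ (pow_apply_mem_fix _ (nrm_mem_fix hv.pow_eq _))
    have hsplit : ∑ l, ∑ j : Fin p, ∑ t : Fin q, c (l, j, t) • g (l, j, t) =
        (∑ l, ∑ j : Fin p, ∑ t : Fin q, (c (l, j, t) - c (l, top, t)) • g (l, j, t)) + W := by
      simp only [W, ← Finset.sum_add_distrib]
      refine Finset.sum_congr rfl fun l _ => ?_
      simp only [← hNσ, Finset.smul_sum]
      rw [Finset.sum_comm (s := (univ : Finset (Fin q))) (t := (univ : Finset (Fin p))),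
        ← Finset.sum_add_distrib]
      refine Finset.sum_congr rfl fun j _ => ?_
      rw [← Finset.sum_add_distrib]
      exact Finset.sum_congr rfl fun t _ => by rw [← add_smul, sub_add_cancel]
    have hred : ∑ l, ∑ j ∈ range (p - 1), ∑ t ∈ range q, c' l j t • ((σ ^ q) ^ j) ((σ ^ t) (m l)) ∈
        fix σ q := by
      have e : ∑ l, ∑ j ∈ range (p - 1), ∑ t ∈ range q, c' l j t • ((σ ^ q) ^ j) ((σ ^ t) (m l)) =
          ∑ l, ∑ j : Fin p, ∑ t : Fin q, (c (l, j, t) - c (l, top, t)) • g (l, j, t) := by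
        refine Finset.sum_congr rfl fun l _ => ?_
        rw [show (∑ j : Fin p, ∑ t : Fin q, (c (l, j, t) - c (l, top, t)) • g (l, j, t)) =
            ∑ j : Fin p, ∑ t ∈ range q, c' l j t • ((σ ^ q) ^ (j : ℕ)) ((σ ^ t) (m l)) from
          Finset.sum_congr rfl fun j _ => by
            rw [← Fin.sum_univ_eq_sum_range (fun t => c' l j t • ((σ ^ q) ^ (j : ℕ)) ((σ ^ t) (m l))) q]
            refine Finset.sum_congr rfl fun t _ => ?_
            simp only [c', g, dif_pos (And.intro j.2 t.2), ← pow_mul, ← Module.End.mul_apply, ← pow_add],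
          Fin.sum_univ_eq_sum_range (fun j => ∑ t ∈ range q, c' l j t • ((σ ^ q) ^ j) ((σ ^ t) (m l))) p]
        obtain ⟨p', hp'⟩ : ∃ p', p = p' + 1 := ⟨p - 1, by have := hp.out.pos; omega⟩
        rw [show range p = range (p - 1 + 1) by rw [Nat.sub_add_cancel hp.out.pos], Finset.sum_range_succ,
          Finset.sum_eq_zero (f := fun t => c' l (p - 1) t • ((σ ^ q) ^ (p - 1)) ((σ ^ t) (m l))) fun t ht => by
            rw [Finset.mem_range] at ht
            simp only [c', dif_pos (And.intro (show p - 1 < p by omega) ht)]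
            rw [show (⟨p - 1, _⟩ : Fin p) = top from rfl, sub_self, zero_smul], add_zero]
      rw [e, show (∑ l, ∑ j : Fin p, ∑ t : Fin q, (c (l, j, t) - c (l, top, t)) • g (l, j, t)) =
          (f : M) + (∑ l, ∑ j : Fin p, ∑ t : Fin q, c (l, j, t) • g (l, j, t)) + (-(f : M) - W) by
        rw [hsplit]; abel, hfc, zero_add]
      exact Submodule.sub_mem _ (Submodule.neg_mem _ f.2) hW
    have hzero := indep_full hv hm c' hred
    have hc : ∀ l j t, c (l, j, t) = c (l, top, t) := fun l j t => by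
      by_cases hj : (j : ℕ) < p - 1
      · have := hzero l j hj t t.2
        simp only [c', dif_pos (And.intro j.2 t.2), sub_eq_zero] at this
        exact this
      · rw [show j = top from Fin.ext (by show (j : ℕ) = p - 1; omega)]
    have hfW : (f : M) + W = 0 := by
      rw [← hfc, hsplit]
      congr 1
      rw [Finset.sum_eq_zero fun l _ => Finset.sum_eq_zero fun j _ => Finset.sum_eq_zero fun t _ => by
        rw [hc, sub_self, zero_smul], zero_add]
    simp only [bt, LinearMap.coprod_apply, Fintype.linearCombination_apply, Fintype.sum_prod_type, hc]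
    let eN : Fin r → Fin q → fix σ q := fun l t =>
      ⟨(σ ^ (t : ℕ)) (nrm (σ ^ q) p (m l)), pow_apply_mem_fix _ (nrm_mem_fix hv.pow_eq _)⟩
    have hf' : f = -∑ l, ∑ t, c (l, top, t) • eN l t := Subtype.ext (by
      simp only [Submodule.coe_neg, Submodule.coe_sum, Submodule.coe_smul, eN]
      exact eq_neg_of_add_eq_zero_left hfW)
    have hβeN : ∀ l (t : Fin q), β (eN l t) = ∑ j : Fin p, val l (q * (j : ℕ) + (t : ℕ)) := by
      intro l t
      have hiter : ∀ i : ℕ, ∀ x : fix σ q, (τ ^ i) (β x) = β ⟨(σ ^ i) x, pow_apply_mem_fix i x.2⟩ := fun i => by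
        induction i with
        | zero => intro x; rfl
        | succ i ih =>
          intro x
          rw [pow_succ', Module.End.mul_apply, ih, hβσ]
          exact congrArg β (Subtype.ext (show σ ((σ ^ i) (x : M)) = (σ ^ (i + 1)) (x : M) by rw [pow_succ']; rfl))
      rw [show eN l t = ⟨(σ ^ (t : ℕ)) _, pow_apply_mem_fix _ (nrm_mem_fix hv.pow_eq (m l))⟩ from rfl,
        ← hiter t ⟨_, nrm_mem_fix hv.pow_eq (m l)⟩, eq_sub_of_add_eq (hz l), map_sub,
        Fin.sum_univ_eq_sum_range (fun j => val l (q * j + t)) p]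
      simp only [val, Finset.sum_sub_distrib, C, map_sum, S]
      have h1 : ∀ j ∈ range p, tsum σ τ a (q * j + t) (m l) =
          (τ ^ (t : ℕ)) (tsum σ τ a (q * j) (m l)) + tsum σ τ a t ((σ ^ (q * j)) (m l)) := fun j _ => by
        rw [add_comm, tsum_add]
      have h2 : ∑ j ∈ range p, tsum σ τ a t ((σ ^ (q * j)) (m l)) = 0 := by
        have := hSfix t _ (nrm_mem_fix (hv.pow_eq) (m l))
        rw [nrm_apply] at this
        simp only [S] at this
        rw [map_sum] at this
        simpa only [← pow_mul] using this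
      rw [Finset.sum_congr rfl h1, Finset.sum_add_distrib, h2, add_zero, map_smul]
      congr 1
      rw [natCast_zsmul]
      refine ((Finset.sum_congr rfl (g := fun _ => (τ ^ (t : ℕ)) (z l)) fun j _ => ?_).trans
        (by rw [Finset.sum_const, Finset.card_range])).symm
      rw [pow_add, Module.End.mul_apply, pow_mul]
      have : ∀ i : ℕ, ∀ y, (τ ^ q) y = y → ((τ ^ q) ^ i) y = y := fun i y hy => by
        induction i with
        | zero => rfl
        | succ i ih => rw [pow_succ, Module.End.mul_apply, hy, ih]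
      rw [this]
      rw [← Module.End.mul_apply, ← pow_add, add_comm, pow_add, Module.End.mul_apply, hzq]
    rw [hf', map_neg, map_sum, neg_add_eq_zero]
    refine Finset.sum_congr rfl fun l _ => ?_
    rw [map_sum, Finset.sum_comm]
    refine Finset.sum_congr rfl fun t _ => ?_
    rw [map_smul, hβeN, Finset.smul_sum]
  let U := LinearMap.range ψ
  let bU : U →ₗ[ℤ] X := (LinearMap.ker ψ).liftQ bt hker ∘ₗ ψ.quotKerEquivRange.symm.toLinearMap
  have hbU : ∀ y, bU ⟨ψ y, LinearMap.mem_range_self ψ y⟩ = bt y := fun y => by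
    have : ψ.quotKerEquivRange.symm ⟨ψ y, LinearMap.mem_range_self ψ y⟩ = Submodule.Quotient.mk y := by
      rw [LinearEquiv.symm_apply_eq]; exact Subtype.ext rfl
    show (LinearMap.ker ψ).liftQ bt hker (ψ.quotKerEquivRange.symm _) = _
    rw [this]; rfl
  have hgen : ∀ l i, ∃ h : (σ ^ i) (m l) ∈ U, bU ⟨_, h⟩ = val l i := by
    intro l i
    have hnpos : 0 < n := Nat.pow_pos hp.out.pos
    have hqpos : 0 < q := Nat.pow_pos hp.out.pos
    have hper : ∀ a b : ℕ, (σ ^ (b + n * a)) (m l) = (σ ^ b) (m l) ∧ val l (b + n * a) = val l b := by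
      intro a b
      induction a with
      | zero => simp
      | succ a ih =>
        rw [Nat.mul_succ, ← add_assoc]
        exact ⟨by rw [pow_add, hv.pow_eq, mul_one]; exact ih.1, by rw [hval]; exact ih.2⟩
    obtain ⟨h1, h2⟩ := hper (i / n) (i % n)
    rw [Nat.mod_add_div] at h1 h2
    have hj : i % n / q < p := Nat.div_lt_of_lt_mul (hnq ▸ Nat.mod_lt i hnpos)
    let x : Fin r × Fin p × Fin q := (l, ⟨i % n / q, hj⟩, ⟨i % n % q, Nat.mod_lt _ hqpos⟩)
    have hidx : q * (i % n / q) + i % n % q = i % n := Nat.div_add_mod _ _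
    let y : fix σ q × (Fin r × Fin p × Fin q → ℤ) := (0, Pi.single x 1)
    have hy : ψ y = (σ ^ i) (m l) := by
      simp only [ψ, y, LinearMap.coprod_apply, map_zero, zero_add, Fintype.linearCombination_apply_single,
        one_smul, g, x, hidx, h1]
    refine ⟨⟨y, hy⟩, ?_⟩
    rw [show (⟨(σ ^ i) (m l), ⟨y, hy⟩⟩ : U) = ⟨ψ y, LinearMap.mem_range_self ψ y⟩ from Subtype.ext hy.symm, hbU]
    simp only [bt, y, LinearMap.coprod_apply, map_zero, zero_add, Fintype.linearCombination_apply_single,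
      one_smul, x, hidx, h2]
  have hfix : ∀ x : fix σ q, ∃ h : (x : M) ∈ U, bU ⟨_, h⟩ = β x := fun x => by
    have hy : ψ (x, 0) = x := by simp [ψ]
    refine ⟨⟨_, hy⟩, ?_⟩
    rw [show (⟨(x : M), ⟨_, hy⟩⟩ : U) = ⟨ψ (x, 0), LinearMap.mem_range_self ψ _⟩ from Subtype.ext hy.symm, hbU]
    simp [bt]
  have hU : genSub σ p k m ≤ U := sup_le (fun x hx => (hfix ⟨x, hx⟩).1) (Submodule.span_le.2 (by
    rintro _ ⟨x, rfl⟩; exact (hgen x.1 x.2).1))
  have hσU : ∀ x : M, x ∈ genSub σ p k m → ∀ (h : x ∈ U) (h' : σ x ∈ U),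
      τ (bU ⟨x, h⟩) - bU ⟨σ x, h'⟩ = a x := by
    intro x hx
    obtain ⟨f, hf, g', hg, rfl⟩ := Submodule.mem_sup.1 hx
    clear hx
    induction hg using Submodule.span_induction generalizing f with
    | mem y hy =>
      obtain ⟨⟨l, i⟩, rfl⟩ := hy
      intro h h'
      obtain ⟨a1, e1⟩ := hfix ⟨f, hf⟩
      obtain ⟨a2, e2⟩ := hgen l i
      obtain ⟨a3, e3⟩ := hfix ⟨σ f, apply_mem_fix hf⟩
      obtain ⟨a4, e4⟩ := hgen l (i + 1)
      have s1 : (⟨f + (σ ^ i) (m l), h⟩ : U) = ⟨f, a1⟩ + ⟨_, a2⟩ := rfl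
      have s2 : (⟨σ (f + (σ ^ i) (m l)), h'⟩ : U) = ⟨σ f, a3⟩ + ⟨_, a4⟩ :=
        Subtype.ext (by show σ (f + _) = σ f + (σ ^ (i + 1)) (m l); rw [map_add, pow_succ']; rfl)
      rw [s1, s2, map_add bU, map_add bU, map_add τ, e1, e2, e3, e4, hβσ, map_add, hF f hf, zero_add]
      rw [← hstep l i]
      abel
    | zero =>
      intro h h'
      obtain ⟨a1, e1⟩ := hfix ⟨f, hf⟩
      obtain ⟨a3, e3⟩ := hfix ⟨σ f, apply_mem_fix hf⟩
      simp only [add_zero] at h h' ⊢
      rw [e1, e3, hβσ, sub_self, hF f hf]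
    | add y y' hy hy' ih ih' =>
      intro h h'
      have m1 : f + y ∈ genSub σ p k m := Submodule.add_mem_sup hf hy
      have m2 : (0 : M) + y' ∈ genSub σ p k m := Submodule.add_mem_sup (zero_mem _) hy'
      have r1 := ih f hf (hU m1) (hU (apply_mem_genSub m1))
      have r2 := ih' 0 (zero_mem _) (hU m2) (hU (apply_mem_genSub m2))
      have s1 : (⟨f + (y + y'), h⟩ : U) = ⟨f + y, hU m1⟩ + ⟨0 + y', hU m2⟩ :=
        Subtype.ext (by show f + (y + y') = (f + y) + (0 + y'); abel)
      have s2 : (⟨σ (f + (y + y')), h'⟩ : U) =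
          ⟨σ (f + y), hU (apply_mem_genSub m1)⟩ + ⟨σ (0 + y'), hU (apply_mem_genSub m2)⟩ :=
        Subtype.ext (by show σ _ = σ (f + y) + σ (0 + y'); rw [← map_add]; congr 1; abel)
      rw [s1, s2, map_add bU, map_add bU, map_add τ, show f + (y + y') = (f + y) + (0 + y') by abel,
        map_add a, ← r1, ← r2]
      abel
    | smul c y hy ih =>
      intro h h'
      have m1 : (0 : M) + y ∈ genSub σ p k m := Submodule.add_mem_sup (zero_mem _) hy
      have r1 := ih 0 (zero_mem _) (hU m1) (hU (apply_mem_genSub m1))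
      have r1' := r1.trans (show a (0 + y) = a y by rw [zero_add])
      obtain ⟨a1, e1⟩ := hfix ⟨f, hf⟩
      obtain ⟨a3, e3⟩ := hfix ⟨σ f, apply_mem_fix hf⟩
      have s1 : (⟨f + c • y, h⟩ : U) = ⟨f, a1⟩ + c • ⟨0 + y, hU m1⟩ :=
        Subtype.ext (by show f + c • y = f + c • (0 + y); rw [zero_add])
      have s2 : (⟨σ (f + c • y), h'⟩ : U) = ⟨σ f, a3⟩ + c • ⟨σ (0 + y), hU (apply_mem_genSub m1)⟩ :=
        Subtype.ext (by show σ _ = σ f + c • σ (0 + y); rw [zero_add, map_add, map_smul])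
      rw [s1, s2, map_add bU, map_add bU, map_add τ, e1, e3, map_smul bU, map_smul bU, map_smul τ, hβσ,
        map_add a, hF f hf, map_smul a, zero_add (c • a y), ← r1', smul_sub]
      abel
  let dmap : M →ₗ[ℤ] U := LinearMap.codRestrict U (d • LinearMap.id) fun x => hU (hdU x)
  have hbd : ∀ x, τ ((bU ∘ₗ dmap) x) - (bU ∘ₗ dmap) (σ x) = d • a x := fun x => by
    rw [← map_smul, ← hσU (d • x) (hdU x) (hU (hdU x)) (hU (apply_mem_genSub (hdU x)))]
    congr 1
    show bU _ = bU _
    exact congrArg bU (Subtype.ext (map_smul σ d x).symm)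
  obtain ⟨b₀, hb₀⟩ := exists_smul_coboundary σ τ a hv.pow_eq ha
  obtain ⟨u, w, huw⟩ : IsCoprime d ((n : ℤ)) := by rw [hn, Nat.cast_pow]; exact hd.pow_right
  refine ⟨u • (bU ∘ₗ dmap) + w • b₀, fun x => ?_⟩
  simp only [LinearMap.add_apply, LinearMap.smul_apply, map_add, map_smul]
  rw [add_sub_add_comm, ← smul_sub, ← smul_sub, hbd, hb₀, smul_smul, smul_smul, ← add_smul, huw, one_smul]

end Step

/-- Derivations from a lattice into a module are inner when all norm kernels of both are augmentations. -/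
theorem exists_inner {p : ℕ} [hp : Fact p.Prime] : ∀ (k : ℕ) {M : Type uM} {X : Type uX} [AddCommGroup M]
    [AddCommGroup X] [Module.Free ℤ M] [Module.Finite ℤ M] {σ : Module.End ℤ M} {τ : Module.End ℤ X},
    AllVanish σ p k → AllVanish τ p k → ∀ a : M →ₗ[ℤ] X, (∀ x, tsum σ τ a (p ^ k) x = 0) →
    ∃ b : M →ₗ[ℤ] X, ∀ x, τ (b x) - b (σ x) = a x := by
  intro k
  induction k with
  | zero =>
    intro M X _ _ _ _ σ τ hσ hτ a ha
    refine ⟨0, fun x => ?_⟩
    have := ha x
    rw [pow_zero, tsum_one] at this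
    simp [this]
  | succ k ih =>
    intro M X _ _ _ _ σ τ hσ hτ a ha
    haveI : Module.IsTorsionFree ℤ M := inferInstance
    have hqp : p ^ k * p = p ^ (k + 1) := (pow_succ p k).symm
    obtain ⟨π, hπ⟩ := exists_retraction σ (p ^ k)
    let A := tsum σ τ a (p ^ k)
    haveI : Module.Finite ℤ (fix σ (p ^ k)) :=
      Module.Finite.of_injective (fix σ (p ^ k)).subtype (Submodule.injective_subtype _)
    have hfixv : ∀ x : fix σ (p ^ k), ∃ y, (τ ^ p ^ k) y - y = A x := fun x => by
      refine hτ.vanish k k.le_succ _ ?_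
      rw [Nat.add_sub_cancel_left, pow_one, nrm_apply]
      have h : ∀ j, tsum σ τ a (p ^ k * j) x = ∑ i ∈ range j, ((τ ^ p ^ k) ^ i) (A x) := by
        intro j
        induction j with
        | zero => simp [tsum_zero]
        | succ j ihj =>
          rw [Nat.mul_succ, tsum_add, Finset.sum_range_succ, ← ihj, pow_mul, add_comm]
          congr 2
          exact mem_fix.1 x.2
      rw [← h, hqp, ha]
    let B := Module.Free.chooseBasis ℤ (fix σ (p ^ k))
    choose y hy using hfixv
    let b1 : M →ₗ[ℤ] X := B.constr ℤ (fun i => y (B i)) ∘ₗ π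
    have hb1 : ∀ x : fix σ (p ^ k), (τ ^ p ^ k) (b1 x) - b1 x = A x := by
      have : ((τ ^ p ^ k) ∘ₗ B.constr ℤ (fun i => y (B i)) - B.constr ℤ (fun i => y (B i))) =
          A ∘ₗ (fix σ (p ^ k)).subtype := B.ext fun i => by simp [hy]
      intro x
      simpa [b1, hπ] using LinearMap.congr_fun this x
    let a1 := a - (τ ∘ₗ b1 - b1 ∘ₗ σ)
    have ha1 : ∀ x, tsum σ τ a1 (p ^ (k + 1)) x = 0 := fun x => by
      rw [tsum_sub, ha, tsum_coboundary, hσ.pow_eq, hτ.pow_eq]
      simp
    have hA1 : ∀ x ∈ fix σ (p ^ k), tsum σ τ a1 (p ^ k) x = 0 := fun x hx => by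
      rw [tsum_sub, tsum_coboundary, mem_fix.1 hx, hb1 ⟨x, hx⟩, sub_self]
    have hval : ∀ x : fix σ (p ^ k), a1 x ∈ fix τ (p ^ k) := fun x => by
      rw [mem_fix, ← sub_eq_zero]
      have h1 := tau_tsum σ τ a1 (p ^ k) (x : M)
      rw [mem_fix.1 x.2, hA1 x x.2, hA1 _ (apply_mem_fix x.2), map_zero, sub_zero] at h1
      exact h1.symm
    let a' : fix σ (p ^ k) →ₗ[ℤ] fix τ (p ^ k) :=
      LinearMap.codRestrict _ (a1 ∘ₗ (fix σ (p ^ k)).subtype) hval
    have ha' : ∀ (i : ℕ) x, ((tsum (res σ (p ^ k)) (res τ (p ^ k)) a' i x : fix τ (p ^ k)) : X) =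
        tsum σ τ a1 i (x : M) := by
      intro i
      induction i with
      | zero => intro x; rfl
      | succ i ihi =>
        intro x
        rw [tsum_succ, tsum_succ, Submodule.coe_add, ← ihi]
        congr 1
        show a1 _ = a1 _
        rw [Submodule.coe_subtype, coe_res_pow]
    haveI : Module.Free ℤ (fix σ (p ^ k)) := inferInstance
    obtain ⟨b', hb'⟩ := ih (allVanish_res hσ) (allVanish_res hτ) a' fun x =>
      Subtype.ext (by rw [ha', hA1 _ x.2]; rfl)
    let b2 : M →ₗ[ℤ] X := (fix τ (p ^ k)).subtype ∘ₗ b' ∘ₗ π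
    let a2 := a1 - (τ ∘ₗ b2 - b2 ∘ₗ σ)
    have ha2 : ∀ x, tsum σ τ a2 (p ^ (k + 1)) x = 0 := fun x => by
      rw [tsum_sub, ha1, tsum_coboundary, hσ.pow_eq, hτ.pow_eq]
      simp
    obtain ⟨b3, hb3⟩ := exists_of_vanish_fix hσ hτ.pow_eq a2 ha2 fun x hx => by
      have h := congrArg Subtype.val (hb' ⟨x, hx⟩)
      simp only [a2, b2, LinearMap.sub_apply, LinearMap.comp_apply, Submodule.coe_subtype]
      rw [hπ ⟨x, hx⟩, show π (σ x) = res σ (p ^ k) ⟨x, hx⟩ from hπ ⟨σ x, apply_mem_fix hx⟩, sub_eq_zero]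
      exact h.symm
    refine ⟨b1 + b2 + b3, fun x => ?_⟩
    have := hb3 x
    simp only [a2, a1, LinearMap.sub_apply, LinearMap.comp_apply] at this
    simp only [LinearMap.add_apply, map_add]
    rw [show τ (b1 x) + τ (b2 x) + τ (b3 x) - (b1 (σ x) + b2 (σ x) + b3 (σ x)) =
      (τ (b1 x) - b1 (σ x)) + (τ (b2 x) - b2 (σ x)) + (τ (b3 x) - b3 (σ x)) by abel, this]
    abel

end Groth.Misc15.AdicH1
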