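import Groth.Agent.Misc15.AdicH1.Main
import Groth.Agent.Misc15.MultH1.Const
import Groth.Agent.Misc15.MultH1.EtaleTopo
import Mathlib.NumberTheory.Cyclotomic.Gal
import Mathlib.RingTheory.ZMod.UnitsCyclic

/-!
Primary multiples of the characters of a constant group are split by cyclotomic fields.
-/

set_option autoImplicit false
set_option linter.style.haveILetI false

universe u

open CategoryTheory AlgebraicGeometry
open Groth.AlgGrp2 Groth.TorusPts Groth.Misc15.RatTorus Groth.Misc15.MultH1

noncomputable section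

namespace Groth.Misc15.AdicH1

/-- If `d e` kills the group then `e` times the characters are split by the `d`-th roots of unity. -/
theorem cycSplit_cyclotomic {K E : Type u} [Field K] [Field E] [Algebra K E] (F : Form K E) {C : Type u}
    [CommGroup C] (app : F.N →* (C →* Eˣ)) (happ : Function.Injective app)
    (heq : ∀ (g : E ≃ₐ[K] E) (m : F.N) (c : C), (app (F.ρ g m) c : E) = g (app m c : E))
    (𝕜 : Type u) [Field 𝕜] [Algebra K 𝕜] (d : ℕ) [NeZero (d : 𝕜)] (e : ℤ)
    (hd : ((Monoid.exponent C : ℕ) : ℤ) ∣ e * d)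
    (hcyc : IsCyclic (CyclotomicField d 𝕜 ≃ₐ[𝕜] CyclotomicField d 𝕜)) : CycSplit F 𝕜 e := by
  haveI : NeZero d := ⟨fun h => NeZero.ne (d : 𝕜) (by rw [h, Nat.cast_zero])⟩
  haveI : IsCyclotomicExtension {d} 𝕜 (CyclotomicField d 𝕜) := CyclotomicField.isCyclotomicExtension d 𝕜
  refine ⟨CyclotomicField d 𝕜, inferInstance, inferInstance, IsCyclotomicExtension.finiteDimensional {d} 𝕜 _,
    IsCyclotomicExtension.isGalois {d} 𝕜 _, fun l _ P => inferInstance,
    fun Ω _ _ _ _ _ _ τ τ₂ σ g hg hσ m => ?_⟩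
  rw [← map_zpow]
  refine happ (MonoidHom.ext fun c => Units.ext ?_)
  rw [heq]
  let x : Eˣ := app (m ^ e) c
  have hx : x ^ d = 1 := by
    obtain ⟨q, hq⟩ := hd
    let ev : F.N →* Eˣ := (MonoidHom.eval c).comp app
    show (ev (m ^ e)) ^ d = 1
    rw [map_zpow, ← zpow_natCast, ← zpow_mul, hq, zpow_mul, zpow_natCast,
      show ev m ^ Monoid.exponent C = app m (c ^ Monoid.exponent C) from (map_pow (app m) c _).symm,
      Monoid.pow_exponent_eq_one, map_one, one_zpow]
  have hroot : (τ (x : E)) ^ d = 1 := by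
    rw [← map_pow, ← Units.val_pow_eq_pow_val, hx, Units.val_one, map_one]
  obtain ⟨i, -, hi⟩ := ((IsCyclotomicExtension.zeta_spec d 𝕜 (CyclotomicField d 𝕜)).map_of_injective
    (f := τ₂) τ₂.injective).eq_pow_of_pow_eq_one hroot
  have hfix : σ (τ (x : E)) = τ (x : E) := by rw [← hi, map_pow, hσ]
  exact τ.injective ((hg _).symm.trans hfix)

theorem isCyclic_cyclotomic_odd (𝕜 : Type u) [Field 𝕜] (l a : ℕ) (hl : l.Prime) (hl2 : l ≠ 2)
    [NeZero ((l ^ a : ℕ) : 𝕜)] :
    IsCyclic (CyclotomicField (l ^ a) 𝕜 ≃ₐ[𝕜] CyclotomicField (l ^ a) 𝕜) := by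
  haveI : NeZero (l ^ a) := ⟨pow_ne_zero a hl.ne_zero⟩
  haveI : IsCyclotomicExtension {l ^ a} 𝕜 (CyclotomicField (l ^ a) 𝕜) :=
    CyclotomicField.isCyclotomicExtension (l ^ a) 𝕜
  haveI := ZMod.isCyclic_units_of_prime_pow l hl hl2 a
  exact isCyclic_of_injective _ ((IsCyclotomicExtension.zeta_spec (l ^ a) 𝕜
    (CyclotomicField (l ^ a) 𝕜)).autToPow_injective 𝕜)

/-- Coprime integers attached to the primary parts of `n`. -/
theorem exists_primary_idem (n : ℕ) (hn : n ≠ 0) :
    ∃ e : ↥(insert 2 n.primeFactors) → ℤ, ∑ l, e l = 1 ∧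
      ∀ l : ↥(insert 2 n.primeFactors), (n : ℤ) ∣ e l * ((l : ℕ) ^ n.factorization l : ℕ) := by
  classical
  let S := insert 2 n.primeFactors
  let s : ℕ → ℤ := fun j => ((j ^ n.factorization j : ℕ) : ℤ)
  have hS : ∀ j ∈ S, j.Prime := fun j hj => by
    rcases Finset.mem_insert.1 hj with rfl | hj
    · exact Nat.prime_two
    · exact Nat.prime_of_mem_primeFactors hj
  have hprod : ∏ j ∈ S, s j = (n : ℤ) := by
    rw [← Nat.cast_prod]
    congr 1
    refine (Finset.prod_subset (Finset.subset_insert _ _) fun j _ hj => ?_).symm.trans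
      (Nat.prod_factorization_pow_eq_self hn)
    rw [Finsupp.notMem_support_iff.1 (by rwa [Nat.support_factorization]), pow_zero]
  have hne : S.Nonempty := ⟨2, Finset.mem_insert_self _ _⟩
  obtain ⟨μ, hμ⟩ := (exists_sum_eq_one_iff_pairwise_coprime hne (s := s)).2 (fun i j hij => by
    refine Nat.isCoprime_iff_coprime.2 (Nat.Coprime.pow _ _ ?_)
    exact (Nat.coprime_primes (hS _ i.2) (hS _ j.2)).2 fun h => hij (Subtype.ext h))
  refine ⟨fun l => μ l * ∏ j ∈ S \ {(l : ℕ)}, s j, ?_, fun l => ?_⟩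
  · rw [← hμ, ← Finset.sum_coe_sort S]
  · rw [mul_assoc, ← hprod, ← Finset.prod_sdiff (Finset.singleton_subset_iff.2 l.2), Finset.prod_singleton]
    exact dvd_mul_left _ _

theorem isUnit_card {K : Type u} [Field K] (C : Type u) [CommGroup C] [Finite C]
    (h : IsUnit ((Monoid.exponent C : ℕ) : K)) : IsUnit ((Nat.card C : ℕ) : K) := by
  refine isUnit_iff_ne_zero.2 fun h0 => h.ne_zero ?_
  obtain ⟨p, hp⟩ := CharP.exists K
  rcases CharP.char_is_prime_or_zero K p with hpp | rfl
  · haveI := Fact.mk hpp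
    obtain ⟨x, hx⟩ := exists_prime_orderOf_dvd_card' (G := C) p ((CharP.cast_eq_zero_iff K p _).1 h0)
    rw [CharP.cast_eq_zero_iff K p]
    exact hx ▸ Monoid.order_dvd_exponent x
  · haveI := CharP.charP_to_charZero K
    exact absurd (Nat.cast_eq_zero.1 h0) Nat.card_pos.ne'

/-- Surjectivity for a constant group with cyclotomic hypothesis at two. -/
theorem surjective_constGrp (A : Type u) [CommRing A] [IsDomain A] [IsDiscreteValuationRing A]
    (v : IsDedekindDomain.HeightOneSpectrum A) (C : Type u) [CommGroup C] [Finite C]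
    {C_ : Over (Spec (CommRingCat.of (FractionRing A)))} [GrpObj C_]
    (e : C_ ≅ TwC.const (Spec (CommRingCat.of (FractionRing A))) C) (he : TwC.IsConstGrp C C_ e)
    (hexp : IsUnit ((Monoid.exponent C : ℕ) : (FractionRing A)))
    (hcyc : IsCyclic (CyclotomicField (2 ^ (Monoid.exponent C).factorization 2)
        (v.adicCompletion (FractionRing A)) ≃ₐ[v.adicCompletion (FractionRing A)]
      CyclotomicField (2 ^ (Monoid.exponent C).factorization 2) (v.adicCompletion (FractionRing A)))) :
    Function.Surjective (NonAbH1.H1Sch.bcMap (str (FractionRing A) (v.adicCompletion (FractionRing A))) C_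
      Scheme.etalePrecoverage) := by
  classical
  haveI : Etale C_.hom := by
    rw [← Over.w e.hom]
    haveI : IsIso e.hom.left := inferInstanceAs (IsIso ((Over.forget _).map e.hom))
    haveI : Etale (TwC.const (Spec (CommRingCat.of (FractionRing A))) C).hom :=
      IsZariskiLocalAtSource.sigmaDesc (P := @Etale) fun _ => inferInstance
    infer_instance
  obtain ⟨E, _, _, F, j, hfd, hgal, hj, hfg, app, happ, heq⟩ := exists_form_const' e he (isUnit_card C hexp)
  haveI := hfd; haveI := hgal; haveI := hj; haveI := hfg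
  haveI : IsSeparated C_.hom := by
    rw [← Over.w j.inv]
    haveI : IsIso j.inv.left := inferInstanceAs (IsIso ((Over.forget _).map j.inv))
    haveI : IsSeparated F.sch.hom := inferInstanceAs (IsSeparated (Spec.map _))
    infer_instance
  haveI : Etale (Red.bc (str (FractionRing A) (v.adicCompletion (FractionRing A))) C_).hom :=
    MorphismProperty.pullback_snd _ _ ‹Etale C_.hom›
  haveI : IsSeparated (Red.bc (str (FractionRing A) (v.adicCompletion (FractionRing A))) C_).hom :=
    MorphismProperty.pullback_snd _ _ ‹IsSeparated C_.hom›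
  rw [surjective_iff_fppf]
  haveI : Smooth C_.hom := inferInstance
  obtain ⟨ei, hei, hdvd⟩ := exists_primary_idem (Monoid.exponent C) Monoid.exponent_ne_zero_of_finite
  refine surjective_adicCompletion A v F j ei hei fun l => ?_
  have hl : (l : ℕ).Prime := by
    rcases Finset.mem_insert.1 l.2 with h | h
    · rw [h]; exact Nat.prime_two
    · exact Nat.prime_of_mem_primeFactors h
  haveI : NeZero (((l : ℕ) ^ (Monoid.exponent C).factorization l : ℕ) :
      v.adicCompletion (FractionRing A)) := ⟨fun h0 => (hexp.map (algebraMap (FractionRing A)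
        (v.adicCompletion (FractionRing A)))).ne_zero (by
      rw [map_natCast]
      obtain ⟨q, hq⟩ := Nat.ordProj_dvd (Monoid.exponent C) l
      rw [hq, Nat.cast_mul, h0, zero_mul])⟩
  refine cycSplit_cyclotomic F app happ heq _ _ _ (hdvd l) ?_
  by_cases h2 : (l : ℕ) = 2
  · rw [h2]; exact hcyc
  · exact isCyclic_cyclotomic_odd _ _ _ hl h2

end Groth.Misc15.AdicH1
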