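import Groth.Agent.Misc15.AdicH1.Core

/-!
The decomposition of characters when a family of coprime multiples of the quotient has cyclic Sylow images.
-/

set_option autoImplicit false
set_option linter.style.haveILetI false

universe u v

open Finset

noncomputable section

namespace Groth.Misc15.AdicH1

variable {M : Type v} [AddCommGroup M] {Γ : Type u} [Group Γ]

/-- The multiple `e • M` as a representation. -/
def mulRep (ρ : Representation ℤ Γ M) (e : ℤ) :
    Representation ℤ Γ (LinearMap.range (e • (LinearMap.id : M →ₗ[ℤ] M))) where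
  toFun γ := (ρ γ).restrict fun x ⟨y, hy⟩ => ⟨ρ γ y, by rw [← hy]; simp⟩
  map_one' := LinearMap.ext fun x => Subtype.ext (by simp [LinearMap.restrict_apply])
  map_mul' a b := LinearMap.ext fun x => Subtype.ext (by simp [LinearMap.restrict_apply])

theorem mulRep_apply (ρ : Representation ℤ Γ M) (e : ℤ) (γ : Γ)
    (x : LinearMap.range (e • (LinearMap.id : M →ₗ[ℤ] M))) : (mulRep ρ e γ x : M) = ρ γ x := rfl

end Groth.Misc15.AdicH1

namespace Groth.Misc15.AdicH1

variable {K : Type u} {E : Type u} [Field K] [Field E] [Algebra K E] [FiniteDimensional K E] [IsGalois K E]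
  {𝕜 L : Type u} [NontriviallyNormedField 𝕜] [CompleteSpace 𝕜] [Algebra K 𝕜]
  [NontriviallyNormedField L] [NormedAlgebra 𝕜 L] [FiniteDimensional 𝕜 L]
  {G : Type u} [Group G] [Finite G]

/-- The core for a family. -/
theorem exists_decomp_family (α : G →* (L ≃ₐ[𝕜] L)) (hα : Function.Injective α) (r : G →* (E ≃ₐ[K] E))
    (j : E →+* L) (hdense : DenseRange (algebraMap K 𝕜))
    (hcomm : ∀ x, algebraMap 𝕜 L (algebraMap K 𝕜 x) = j (algebraMap K E x))
    (hfix : ∀ x, (∀ g, α g x = x) → ∃ c, algebraMap 𝕜 L c = x) (hj : ∀ g e, α g (j e) = j (r g e))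
    {J : Type u} [Fintype J] {M : Type v} [AddCommGroup M] (ρM : Representation ℤ (E ≃ₐ[K] E) M)
    (p : ((E ≃ₐ[K] E) × J → ℤ) →ₗ[ℤ] M) (hp : ∀ γ q, p (regRep _ J γ q) = ρM γ (p q))
    {ι : Type*} [Fintype ι] (e : ι → ℤ) (he : ∑ i, e i = 1)
    (hcyc : ∀ i (l : ℕ) [Fact l.Prime]
      (P : Sylow l ((MonoidHom.toHomUnits (mulRep ρM (e i))).comp r).range), IsCyclic P)
    (d : ℤ) (hd : (d : L) ≠ 0) (htors : ∀ (x : M) (k : ℤ), k ≠ 0 → k • x = 0 → d • x = 0)
    (t : LinearMap.ker p →ₗ[ℤ] Additive Lˣ)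
    (ht : ∀ g (q q' : LinearMap.ker p), (q' : (E ≃ₐ[K] E) × J → ℤ) = regRep _ J (r g) q →
      t q' = unitsRep (ringAut α) g (t q)) :
    ∃ (v : ((E ≃ₐ[K] E) × J → ℤ) →ₗ[ℤ] Additive Lˣ) (y : LinearMap.ker p →ₗ[ℤ] Additive Eˣ),
      (∀ g q, v (regRep _ J (r g) q) = unitsRep (ringAut α) g (v q)) ∧
      (∀ γ (q q' : LinearMap.ker p), (q' : (E ≃ₐ[K] E) × J → ℤ) = regRep _ J γ q →
        y q' = unitsRep (ringAut (MonoidHom.id (E ≃ₐ[K] E))) γ (y q)) ∧
      ∀ q, t q = v q + addUnitsMap j (y q) := by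
  have key : ∀ i, ∃ (v : ((E ≃ₐ[K] E) × J → ℤ) →ₗ[ℤ] Additive Lˣ) (y : LinearMap.ker p →ₗ[ℤ] Additive Eˣ),
      (∀ g q, v (regRep _ J (r g) q) = unitsRep (ringAut α) g (v q)) ∧
      (∀ γ (q q' : LinearMap.ker p), (q' : (E ≃ₐ[K] E) × J → ℤ) = regRep _ J γ q →
        y q' = unitsRep (ringAut (MonoidHom.id (E ≃ₐ[K] E))) γ (y q)) ∧
      ∀ q, e i • t q = v q + addUnitsMap j (y q) := by
    intro i
    let pe : ((E ≃ₐ[K] E) × J → ℤ) →ₗ[ℤ] LinearMap.range (e i • (LinearMap.id : M →ₗ[ℤ] M)) :=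
      ((e i • (LinearMap.id : M →ₗ[ℤ] M)) ∘ₗ p).codRestrict _ fun q => ⟨p q, rfl⟩
    have hmem : ∀ q : LinearMap.ker pe, e i • (q : (E ≃ₐ[K] E) × J → ℤ) ∈ LinearMap.ker p := fun q => by
      rw [LinearMap.mem_ker, map_smul]
      exact congrArg Subtype.val (LinearMap.mem_ker.1 q.2)
    let me : LinearMap.ker pe →ₗ[ℤ] LinearMap.ker p :=
      (e i • (LinearMap.ker pe).subtype).codRestrict _ hmem
    obtain ⟨v, y, hv, hy, hs⟩ := exists_decomp α hα r j hdense hcomm hfix hj (mulRep ρM (e i)) pe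
      (fun γ q => Subtype.ext (by
        rw [mulRep_apply]
        show e i • p (regRep _ J γ q) = ρM γ (e i • p q)
        rw [hp, map_smul]))
      (hcyc i) d hd (fun x k hk hx => Subtype.ext (by
        rw [Submodule.coe_smul, htors _ k hk (congrArg Subtype.val hx)]; rfl))
      (t ∘ₗ me) fun g q q' hq => ht g (me q) (me q') (by
        show e i • (q' : (E ≃ₐ[K] E) × J → ℤ) = regRep _ J (r g) (e i • (q : (E ≃ₐ[K] E) × J → ℤ))
        rw [hq, map_smul])
    have hsub : LinearMap.ker p ≤ LinearMap.ker pe := fun q hq => by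
      refine LinearMap.mem_ker.2 (Subtype.ext ?_)
      show e i • p q = 0
      rw [LinearMap.mem_ker.1 hq, smul_zero]
    refine ⟨v, y ∘ₗ Submodule.inclusion hsub, hv,
      fun γ q q' hq => hy γ (Submodule.inclusion hsub q) (Submodule.inclusion hsub q') hq, fun q => ?_⟩
    have h := hs (Submodule.inclusion hsub q)
    rw [LinearMap.comp_apply, show me (Submodule.inclusion hsub q) = e i • q from rfl, map_smul] at h
    exact h
  choose v y hv hy hs using key
  refine ⟨∑ i, v i, ∑ i, y i, fun g q => ?_, fun γ q q' hq => ?_, fun q => ?_⟩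
  · simp only [LinearMap.sum_apply, hv, map_sum]
  · simp only [LinearMap.sum_apply, map_sum]
    exact Finset.sum_congr rfl fun i _ => hy i γ q q' hq
  · rw [LinearMap.sum_apply, LinearMap.sum_apply, map_sum, ← Finset.sum_add_distrib, ← one_smul ℤ (t q), ← he]
    exact (map_sum (zmultiplesHom _ (t q)) e Finset.univ).trans (Finset.sum_congr rfl fun i _ => hs i q)

end Groth.Misc15.AdicH1
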