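import Groth.Agent.Misc15.MultH1.SplitPts
import Groth.Agent.Calg4.SmoothReduced

/-!
The Galois action on the characters factors through any splitting field; smoothness bounds the torsion.
-/

set_option autoImplicit false
set_option linter.style.haveILetI false

universe u

open TensorProduct Groth.AlgGrp2 Groth.TorusPts Groth.Misc15.RatTorus Groth.Misc15.MultH1

noncomputable section

namespace Groth.Misc15.AdicH1

variable {K : Type u} [Field K]

section GroupLike

variable {A : Type u} [CommRing A] [HopfAlgebra K A] {A' : Type u} [CommRing A'] [HopfAlgebra K A']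
  {Ω : Type u} [Field Ω] [Algebra K Ω]

theorem isGroupLike_map {L : Type u} [Field L] [Algebra K L] (τ : L →ₐ[K] Ω) (φ : A' →ₐ[K] A)
    (hφ : ∀ (R : Type u) [CommRing R] [Algebra K R] (g h : A →ₐ[K] R),
      (cv g h).comp φ = cv (g.comp φ) (h.comp φ) ∧ (one' K A R).comp φ = one' K A' R)
    {x : L ⊗[K] A'} (hx : IsGroupLikeElem L x) :
    IsGroupLikeElem Ω (Algebra.TensorProduct.map τ φ x) := by
  have hev : ∀ (R : Type u) [CommRing R] [Algebra K R] (ι : Ω →ₐ[K] R) (g : A →ₐ[K] R),
      ev ι g (Algebra.TensorProduct.map τ φ x) = ev (ι.comp τ) (g.comp φ) x := fun R _ _ ι g => by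
    generalize x = y
    induction y using TensorProduct.induction_on with
    | zero => simp
    | add a b ha hb => simp only [map_add, ha, hb]
    | tmul a b => simp
  refine isGroupLike_of_ev (fun R _ _ ι g h => ?_) fun R _ _ ι => ?_
  · rw [hev, hev, hev, (hφ R g h).1]
    exact ev_cv_of_isGroupLike hx _ _ _
  · rw [hev, (hφ R (one' K A R) (one' K A R)).2]
    exact ev_one_of_isGroupLike hx _

theorem span_map_chr {L : Type u} [Field L] [Algebra K L] {N : Type u} [CommGroup N]
    (e : L ⊗[K] A ≃ₐc[L] MonoidAlgebra L N) (τ : L →ₐ[K] Ω) :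
    Submodule.span Ω (Set.range fun m => Algebra.TensorProduct.map τ (AlgHom.id K A) (chr e m)) = ⊤ := by
  set f := Algebra.TensorProduct.map τ (AlgHom.id K A)
  set S := Submodule.span Ω (Set.range fun m => f (chr e m))
  have h1 : ∀ y : L ⊗[K] A, f y ∈ S := by
    intro y
    suffices H : ∀ z, f (e.symm z) ∈ S by simpa [BialgEquiv.symm_apply_apply] using H (e y)
    intro z
    induction z using MonoidAlgebra.induction_on with
    | of m => exact Submodule.subset_span ⟨m, rfl⟩
    | add p q hp hq => rw [map_add, map_add]; exact add_mem hp hq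
    | smul r p hp =>
      rw [map_smul, Algebra.smul_def, map_mul, Algebra.TensorProduct.algebraMap_apply]
      rw [show f (algebraMap L L r ⊗ₜ[K] (1 : A)) = algebraMap Ω (Ω ⊗[K] A) (τ r) by
        simp [f, Algebra.TensorProduct.algebraMap_apply], ← Algebra.smul_def]
      exact Submodule.smul_mem _ _ hp
  rw [eq_top_iff]
  rintro y -
  induction y using TensorProduct.induction_on with
  | zero => exact zero_mem _
  | add a b ha hb => exact add_mem ha hb
  | tmul w a =>
    rw [show (w ⊗ₜ[K] a : Ω ⊗[K] A) = w • f (1 ⊗ₜ a) by simp [f, TensorProduct.smul_tmul']]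
    exact Submodule.smul_mem _ _ (h1 _)

theorem mem_of_isGroupLike {S : Set (Ω ⊗[K] A)} (hS : ∀ s ∈ S, IsGroupLikeElem Ω s)
    (hspan : Submodule.span Ω S = ⊤) {y : Ω ⊗[K] A} (hy : IsGroupLikeElem Ω y) : y ∈ S := by
  by_contra hne
  have h := (linearIndepOn_isGroupLikeElem (R := Ω) (A := Ω ⊗[K] A)).mono
    (show insert y S ⊆ {a | IsGroupLikeElem Ω a} from Set.insert_subset hy hS)
  rw [linearIndepOn_id_insert hne] at h
  exact h.2 (hspan ▸ Submodule.mem_top)

end GroupLike

/-- An automorphism fixing a splitting field acts trivially on the characters. -/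
theorem rho_eq_one_of_split {E : Type u} [Field E] [Algebra K E] (F : Form K E) {L₂ : Type u} [Field L₂]
    [Algebra K L₂] {A₂ : Type u} [CommRing A₂] [HopfAlgebra K A₂] {N₂ : Type u} [CommGroup N₂]
    (e₂ : L₂ ⊗[K] A₂ ≃ₐc[L₂] MonoidAlgebra L₂ N₂) (φ : A₂ ≃ₐ[K] F.A)
    (hφ : ∀ (R : Type u) [CommRing R] [Algebra K R] (g h : F.A →ₐ[K] R),
      (cv g h).comp φ.toAlgHom = cv (g.comp φ.toAlgHom) (h.comp φ.toAlgHom) ∧
        (one' K F.A R).comp φ.toAlgHom = one' K A₂ R)
    {Ω : Type u} [Field Ω] [Algebra K Ω] (τ : E →ₐ[K] Ω) (τ₂ : L₂ →ₐ[K] Ω) (σ : Ω →ₐ[K] Ω)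
    (γ : E ≃ₐ[K] E) (hγ : σ.comp τ = τ.comp γ.toAlgHom) (hσ : σ.comp τ₂ = τ₂) (m : F.N) : F.ρ γ m = m := by
  let Y : Set (Ω ⊗[K] F.A) := Set.range fun l => Algebra.TensorProduct.map τ₂ φ.toAlgHom (chr e₂ l)
  let z : F.N → Ω ⊗[K] F.A := fun m => Algebra.TensorProduct.map τ (AlgHom.id K F.A) (chr F.e m)
  have hcomp : ∀ y, Algebra.TensorProduct.map τ₂ φ.toAlgHom y =
      Algebra.TensorProduct.map (AlgHom.id Ω Ω) φ.toAlgHom
        (Algebra.TensorProduct.map τ₂ (AlgHom.id K A₂) y) := fun y => by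
    induction y using TensorProduct.induction_on with
    | zero => simp
    | add a b ha hb => simp only [map_add, ha, hb]
    | tmul a b => simp
  have hspan : Submodule.span Ω Y = ⊤ := by
    let Φ := Algebra.TensorProduct.map (AlgHom.id Ω Ω) φ.toAlgHom
    have hs : Function.Surjective Φ := fun y => by
      induction y using TensorProduct.induction_on with
      | zero => exact ⟨0, map_zero _⟩
      | add a b ha hb =>
        obtain ⟨a, rfl⟩ := ha; obtain ⟨b, rfl⟩ := hb
        exact ⟨a + b, map_add _ _ _⟩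
      | tmul a b => exact ⟨a ⊗ₜ φ.symm b, by simp [Φ]⟩
    have h := congrArg (Submodule.map Φ.toLinearMap) (span_map_chr e₂ τ₂)
    rw [Submodule.map_span, Submodule.map_top, ← Set.range_comp] at h
    rw [← LinearMap.range_eq_top.2 (show Function.Surjective Φ.toLinearMap from hs), ← h]
    exact congrArg (fun f => Submodule.span Ω (Set.range f)) (funext fun l => hcomp _)
  have hY : ∀ y ∈ Y, IsGroupLikeElem Ω y := by
    rintro _ ⟨l, rfl⟩
    exact isGroupLike_map τ₂ φ.toAlgHom hφ (isGroupLike_chr e₂ l)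
  have hz : ∀ m, z m ∈ Y := fun m => mem_of_isGroupLike hY hspan
    (isGroupLike_map τ (AlgHom.id K F.A) (fun R _ _ g h => ⟨rfl, rfl⟩) (isGroupLike_chr F.e m))
  have hinj : Function.Injective (Algebra.TensorProduct.map τ (AlgHom.id K F.A)) :=
    Module.Flat.rTensor_preserves_injective_linearMap (M := F.A) τ.toLinearMap τ.injective
  obtain ⟨l, hl⟩ := hz m
  have hfix : Algebra.TensorProduct.map σ (AlgHom.id K F.A) (z m) = z m := by
    rw [← hl, ← AlgHom.comp_apply, ← Algebra.TensorProduct.map_comp, hσ, AlgHom.id_comp]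
  have e1 : Algebra.TensorProduct.map σ (AlgHom.id K F.A) (z m) = z (F.ρ γ m) := by
    show Algebra.TensorProduct.map σ (AlgHom.id K F.A)
      (Algebra.TensorProduct.map τ (AlgHom.id K F.A) (chr F.e m)) = _
    rw [← AlgHom.comp_apply, ← Algebra.TensorProduct.map_comp, hγ, AlgHom.id_comp]
    show _ = Algebra.TensorProduct.map τ (AlgHom.id K F.A) (chr F.e (F.ρ γ m))
    rw [← F.galS_chr γ m, ← AlgHom.comp_apply, ← Algebra.TensorProduct.map_comp, AlgHom.id_comp]
  exact chr_injective F.e (hinj (e1.symm.trans hfix))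

/-- A smooth form has no torsion at the characteristic. -/
theorem no_torsion_of_smooth {E : Type u} [Field E] [Algebra K E] (F : Form K E) [Algebra.Smooth K F.A]
    (p : ℕ) (hp : p.Prime) (h : (p : K) = 0) (m : F.N) (hm : m ^ p = 1) : m = 1 := by
  haveI : Fact p.Prime := ⟨hp⟩
  haveI : IsReduced (E ⊗[K] F.A) := Groth.Calg4.isReduced_of_smooth_field E (E ⊗[K] F.A)
  haveI : CharP K p := (CharP.charP_iff_prime_eq_zero hp).2 h
  haveI : CharP E p := charP_of_injective_algebraMap (algebraMap K E).injective p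
  haveI : Nontrivial (MonoidAlgebra E F.N) := inferInstance
  haveI : CharP (MonoidAlgebra E F.N) p := charP_of_injective_algebraMap
    (FaithfulSMul.algebraMap_injective E (MonoidAlgebra E F.N)) p
  haveI : IsReduced (MonoidAlgebra E F.N) := isReduced_of_injective
    (F.e : E ⊗[K] F.A ≃ₐ[E] MonoidAlgebra E F.N).symm
    (F.e : E ⊗[K] F.A ≃ₐ[E] MonoidAlgebra E F.N).symm.injective
  have h1 : (MonoidAlgebra.single m (1 : E) - 1) ^ p = 0 := by
    rw [sub_pow_char, MonoidAlgebra.single_pow, one_pow, one_pow, hm, ← MonoidAlgebra.one_def, sub_self]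
  have h2 := IsNilpotent.eq_zero ⟨p, h1⟩
  rw [sub_eq_zero, MonoidAlgebra.one_def] at h2
  exact MonoidAlgebra.single_left_injective (R := E) one_ne_zero h2

end Groth.Misc15.AdicH1
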