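import Groth.Agent.Misc15.AdicH1.Pts
import Groth.Agent.Misc15.AdicH1.Split

/-!
The decomposition of points over a completion, from splitting fields of multiples of the characters.
-/

set_option autoImplicit false
set_option linter.style.haveILetI false

universe u

open CategoryTheory MonoidalCategory CartesianMonoidalCategory MonObj AlgebraicGeometry TensorProduct
open Groth.AlgGrp2 Groth.TorusPts Groth.Misc15.RatTorus Groth.Misc15.MultH1

noncomputable section

namespace Groth.Misc15.AdicH1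

/-- The hypothesis: `e` times the characters are split by a field with cyclic Sylow Galois group. -/
def CycSplit {K E : Type u} [Field K] [Field E] [Algebra K E] (F : Form K E) (𝕜 : Type u) [Field 𝕜]
    [Algebra K 𝕜] (e : ℤ) : Prop :=
  ∃ (L₂ : Type u) (_ : Field L₂) (_ : Algebra 𝕜 L₂), FiniteDimensional 𝕜 L₂ ∧ IsGalois 𝕜 L₂ ∧
    (∀ (l : ℕ) [Fact l.Prime] (P : Sylow l (L₂ ≃ₐ[𝕜] L₂)), IsCyclic P) ∧
    ∀ (Ω : Type u) [Field Ω] [Algebra K Ω] [Algebra 𝕜 Ω] [IsScalarTower K 𝕜 Ω] [IsSepClosed Ω]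
      [Algebra.IsAlgebraic 𝕜 Ω] (τ : E →ₐ[K] Ω)
      (τ₂ : L₂ →ₐ[𝕜] Ω) (σ : Ω ≃ₐ[𝕜] Ω) (g : E ≃ₐ[K] E), (∀ x, σ (τ x) = τ (g x)) →
      (∀ x, σ (τ₂ x) = τ₂ x) → ∀ m : F.N, (F.ρ g m) ^ e = m ^ e

variable {K E : Type u} [Field K] [Field E] [Algebra K E] [FiniteDimensional K E] [IsGalois K E]

theorem exists_torsion_bound (F : Form K E) [Group.FG F.N] [Algebra.Smooth K F.A] :
    ∃ d : ℤ, (d : K) ≠ 0 ∧ ∀ (x : F.N) (k : ℤ), k ≠ 0 → x ^ k = 1 → x ^ d = 1 := by
  haveI hT : Finite (CommGroup.torsion F.N) := by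
    haveI : Group.FG F.N := inferInstance
    haveI : AddGroup.FG (Additive F.N) := inferInstance
    haveI : Module.Finite ℤ (Additive F.N) := Module.Finite.iff_addGroup_fg.2 inferInstance
    haveI : Finite (AddCommGroup.torsion (Additive F.N)) := by
      haveI : Module.Finite ℤ (AddCommGroup.torsion (Additive F.N)) :=
        Module.Finite.of_injective (AddCommGroup.torsion (Additive F.N)).subtype.toIntLinearMap
          Subtype.val_injective
      haveI : AddGroup.FG (AddCommGroup.torsion (Additive F.N)) := Module.Finite.iff_addGroup_fg.1 inferInstance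
      exact AddCommGroup.finite_of_fg_isAddTorsion _ fun x => AddSubmonoid.isOfFinAddOrder_coe.1 x.2
    exact Finite.of_injective (fun x => (⟨Additive.ofMul (x : F.N), isOfFinAddOrder_ofMul_iff.2 x.2⟩ :
      AddCommGroup.torsion (Additive F.N))) fun a b h => Subtype.ext (Additive.ofMul.injective (congrArg Subtype.val h))
  refine ⟨(Nat.card (CommGroup.torsion F.N) : ℤ), ?_, fun x k hk hx => ?_⟩
  · rw [Int.cast_natCast]
    intro h0
    obtain ⟨p, hp⟩ := CharP.exists K
    rcases CharP.char_is_prime_or_zero K p with hpp | rfl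
    · haveI := Fact.mk hpp
      obtain ⟨⟨x, hxt⟩, hx⟩ := exists_prime_orderOf_dvd_card' (G := CommGroup.torsion F.N) p
        ((CharP.cast_eq_zero_iff K p _).1 h0)
      rw [Subgroup.orderOf_mk] at hx
      have := no_torsion_of_smooth F p hpp (CharP.cast_eq_zero K p) x (hx ▸ pow_orderOf_eq_one x)
      rw [this, orderOf_one] at hx
      exact hpp.one_lt.ne hx
    · haveI := CharP.charP_to_charZero K
      exact Nat.card_pos.ne' (Nat.cast_eq_zero.1 h0)
  · have hfin : IsOfFinOrder x := isOfFinOrder_iff_zpow_eq_one.2 ⟨k, hk, hx⟩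
    rw [zpow_natCast]
    exact congrArg Subtype.val (pow_card_eq_one' (x := (⟨x, hfin⟩ : CommGroup.torsion F.N)))

variable {𝕜 : Type u} [NontriviallyNormedField 𝕜] [CompleteSpace 𝕜] [IsUltrametricDist 𝕜] [Algebra K 𝕜]

/-- Points of the quotient torus over the completion. -/
theorem exists_point_decomp' (F : Form K E) [Group.FG F.N] [Algebra.Smooth K F.A]
    (hdense : DenseRange (algebraMap K 𝕜)) {I₀ : Type*} [Fintype I₀] (ei : I₀ → ℤ) (hei : ∑ i, ei i = 1)
    (hsp : ∀ i, CycSplit F 𝕜 (ei i))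
    {J : Type u} [Fintype J] (P Q : Form K E) (eP : PermLat (E ≃ₐ[K] E) J ≃* P.N) (p : P.N →* F.N)
    (incl : Q.N →* P.N) (heP : ∀ g q, P.ρ g (eP q) = eP (permAct _ J g q))
    (hp : ∀ g m, p (P.ρ g m) = F.ρ g (p m)) (hincl : ∀ g m, incl (Q.ρ g m) = P.ρ g (incl m))
    (hinj : Function.Injective incl) (hexact : ∀ q, p q = 1 ↔ q ∈ Set.range incl)
    (t : CoactBr.sp K 𝕜 ⟶ Q.sch) :
    ∃ (x : CoactBr.sp K 𝕜 ⟶ P.sch) (s : CoactBr.sp K K ⟶ Q.sch),
      Q.W t = (P.W x).comp incl * Q.W (CoactBr.pt (Algebra.ofId K 𝕜) ≫ s) := by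
  classical
  obtain ⟨d, hd, htors⟩ := exists_torsion_bound F
  let Ω := SeparableClosure 𝕜
  letI : Algebra K Ω := ((algebraMap 𝕜 Ω).comp (algebraMap K 𝕜)).toAlgebra
  haveI : IsScalarTower K 𝕜 Ω := IsScalarTower.of_algebraMap_eq fun _ => rfl
  let τ : E →ₐ[K] Ω := IsSepClosed.lift
  let L : IntermediateField 𝕜 Ω := IntermediateField.adjoin 𝕜 (Set.range τ)
  have hmem : ∀ x, τ x ∈ L := fun x => IntermediateField.subset_adjoin 𝕜 _ ⟨x, rfl⟩
  let b := Module.finBasis K E
  have hLb : L = IntermediateField.adjoin 𝕜 (Set.range fun i => τ (b i)) := by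
    refine le_antisymm (IntermediateField.adjoin_le_iff.2 ?_) (IntermediateField.adjoin.mono 𝕜 _ _ (by
      rintro _ ⟨i, rfl⟩; exact ⟨_, rfl⟩))
    rintro _ ⟨x, rfl⟩
    rw [← b.sum_repr x, map_sum]
    refine sum_mem fun i _ => ?_
    rw [Algebra.smul_def, map_mul, AlgHom.commutes, IsScalarTower.algebraMap_apply K 𝕜 Ω]
    exact mul_mem (IntermediateField.algebraMap_mem _ _) (IntermediateField.subset_adjoin 𝕜 _ ⟨i, rfl⟩)
  haveI : FiniteDimensional 𝕜 L := by
    rw [hLb]
    exact IntermediateField.finiteDimensional_adjoin fun x _ => Algebra.IsIntegral.isIntegral x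
  haveI : Normal 𝕜 L := IntermediateField.normal_iff_forall_map_le'.2 fun σ => by
    rw [IntermediateField.adjoin_map]
    refine IntermediateField.adjoin_le_iff.2 ?_
    rintro _ ⟨_, ⟨x, rfl⟩, rfl⟩
    letI : Algebra E Ω := τ.toRingHom.toAlgebra
    haveI : IsScalarTower K E Ω := IsScalarTower.of_algebraMap_eq fun x => (τ.commutes x).symm
    have h1 : τ (((σ.restrictScalars K).restrictNormal E) x) = σ (τ x) :=
      (σ.restrictScalars K).restrictNormal_commutes E x
    show σ (τ x) ∈ L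
    rw [← h1]; exact hmem _
  haveI : IsGalois 𝕜 L := ⟨⟩
  letI : Algebra E L := (τ.toRingHom.codRestrict L.toSubfield.toSubring hmem).toAlgebra
  haveI : IsScalarTower K E L := IsScalarTower.of_algebraMap_eq fun x => Subtype.ext (τ.commutes x).symm
  let j : E →ₐ[K] L := IsScalarTower.toAlgHom K E L
  let G := L ≃ₐ[𝕜] L
  let r : G →* (E ≃ₐ[K] E) := (AlgEquiv.restrictNormalHom E).comp
    { toFun := fun g => g.restrictScalars K, map_one' := rfl, map_mul' := fun _ _ => rfl }
  have hj : ∀ (g : G) (x : E), g (j x) = j (r g x) := fun g x =>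
    ((g.restrictScalars K).restrictNormal_commutes E x).symm
  letI : NontriviallyNormedField L := spectralNorm.nontriviallyNormedField 𝕜 L
  letI : NormedAlgebra 𝕜 L := spectralNorm.normedAlgebra 𝕜 L
  refine exists_point_decomp F (MonoidHom.id G) Function.injective_id r j hdense
    (fun x hx => by
      have := (IsGalois.mem_bot_iff_fixed x).2 hx
      exact IntermediateField.mem_bot.1 this)
    hj P Q eP p incl heP hp hincl hinj hexact ei hei (fun i l _ U => ?_) d ?_ htors t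
  · obtain ⟨L₂, _, _, hfd, hgal, hcyc, hσ⟩ := hsp i
    haveI := hfd; haveI := hgal
    let τ₂ : L₂ →ₐ[𝕜] Ω := IsSepClosed.lift
    letI : Algebra L₂ Ω := τ₂.toRingHom.toAlgebra
    haveI : IsScalarTower 𝕜 L₂ Ω := IsScalarTower.of_algebraMap_eq fun x => (τ₂.commutes x).symm
    let ψ := (MonoidHom.toHomUnits (mulRep (repOf F.ρ) (ei i))).comp r
    let res1 : (Ω ≃ₐ[𝕜] Ω) →* G := AlgEquiv.restrictNormalHom L
    let res2 : (Ω ≃ₐ[𝕜] Ω) →* (L₂ ≃ₐ[𝕜] L₂) := AlgEquiv.restrictNormalHom L₂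
    let Φ : (Ω ≃ₐ[𝕜] Ω) →* ψ.range := ψ.rangeRestrict.comp res1
    have hker : res2.ker ≤ Φ.ker := fun σ hσ2 => by
      rw [MonoidHom.mem_ker] at hσ2 ⊢
      refine Subtype.ext (Units.ext (LinearMap.ext fun z => Subtype.ext ?_))
      obtain ⟨_, ⟨y, rfl⟩⟩ := z
      show repOf F.ρ (r (res1 σ)) (ei i • y) = ei i • y
      rw [map_smul]
      refine Additive.toMul.injective ?_
      rw [toMul_zsmul, toMul_zsmul, repOf_apply, toMul_ofMul]
      refine hσ Ω τ τ₂ σ (r (res1 σ)) (fun x => ?_) (fun x => ?_) y.toMul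
      · have h1 := AlgEquiv.restrictNormal_commutes σ L (j x)
        have h2 := congrArg Subtype.val (hj (res1 σ) x)
        exact h1.symm.trans h2
      · have h1 := AlgEquiv.restrictNormal_commutes σ L₂ x
        show σ (algebraMap L₂ Ω x) = algebraMap L₂ Ω x
        rw [← h1, show σ.restrictNormal L₂ = 1 from hσ2]
        rfl
    let f := res2.liftOfSurjective (AlgEquiv.restrictNormalHom_surjective Ω) ⟨Φ, hker⟩
    have hfs : Function.Surjective f := fun z => by
      obtain ⟨z, rfl⟩ := (ψ.rangeRestrict_surjective.comp (AlgEquiv.restrictNormalHom_surjective (F := 𝕜) Ω)) z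
      exact ⟨res2 z, MonoidHom.liftOfRightInverse_comp_apply _ _ _ _ z⟩
    obtain ⟨U', rfl⟩ := Sylow.mapSurjective_surjective hfs l U
    haveI := hcyc l U'
    exact isCyclic_of_surjective _ (MonoidHom.subgroupMap_surjective f (U' : Subgroup (L₂ ≃ₐ[𝕜] L₂)))
  · rw [← map_intCast (algebraMap K L), map_ne_zero]
    exact hd

end Groth.Misc15.AdicH1
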