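import Groth.Agent.Misc15.AdicH1.CycVanish

/-!
Hilbert 90 for finite groups of automorphisms of a field, the norm kernel condition for the units, the
descent from Sylow subgroups, and extension of equivariant homomorphisms into units.
-/

set_option autoImplicit false
set_option linter.style.haveILetI false

open Finset

noncomputable section

namespace Groth.Misc15.AdicH1

section H90

variable {L : Type*} [Field L]

/-- Hilbert 90 in Noether's form. -/
theorem exists_div_of_cocycle {H : Type*} [Group H] [Finite H] (α : H →* (L ≃+* L))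
    (hα : Function.Injective α) (f : H → Lˣ) (hf : ∀ g h, (f (g * h) : L) = f g * α g (f h)) :
    ∃ x : Lˣ, ∀ g, (f g : L) = α g x / x := by
  classical
  haveI := Fintype.ofFinite H
  have hinj : Function.Injective fun g : H => ((α g : L →+* L) : L →* L) := fun g h e =>
    hα (RingEquiv.ext fun x => DFunLike.congr_fun e x)
  obtain ⟨y, hy⟩ : ∃ y, ∑ g : H, (f g : L) * α g y ≠ 0 := by
    by_contra! hc
    have := Fintype.linearIndependent_iff.1 ((linearIndependent_monoidHom L L).comp _ hinj)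
      (fun g => (f g : L)) (funext fun y => by simpa using hc y) 1
    exact (f 1).ne_zero this
  set x := ∑ g : H, (f g : L) * α g y with hx
  refine ⟨(Units.mk0 x hy)⁻¹, fun g => ?_⟩
  have h1 : (f g : L) * α g x = x := by
    rw [hx]
    refine Eq.trans ?_ (Equiv.sum_comp (Equiv.mulLeft g) fun h => (f h : L) * α h y)
    rw [map_sum, Finset.mul_sum]
    refine Finset.sum_congr rfl fun h _ => ?_
    simp only [Equiv.coe_mulLeft, hf, map_mul]
    rw [show (α g * α h : L ≃+* L) y = α g (α h y) from rfl]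
    ring
  have hne : α g x ≠ 0 := (map_ne_zero_iff _ (α g).injective).2 hy
  rw [Units.val_inv_eq_inv_val, Units.val_mk0, map_inv₀]
  field_simp
  linear_combination h1

/-- Units as an additive module with an action of a group of automorphisms. -/
def unitsRep {G : Type*} [Group G] (α : G →* (L ≃+* L)) : Representation ℤ G (Additive Lˣ) where
  toFun g := (MonoidHom.toAdditive (Units.map (α g : L →* L))).toIntLinearMap
  map_one' := by
    refine LinearMap.ext fun x => ?_
    show Additive.ofMul (Units.map (α 1 : L →* L) x.toMul) = Additive.ofMul x.toMul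
    exact congrArg Additive.ofMul (Units.ext (by simp))
  map_mul' g h := by
    refine LinearMap.ext fun x => ?_
    show Additive.ofMul (Units.map (α (g * h) : L →* L) x.toMul) =
      Additive.ofMul (Units.map (α g : L →* L) (Units.map (α h : L →* L) x.toMul))
    exact congrArg Additive.ofMul (Units.ext (by simp [map_mul]))

theorem unitsRep_apply {G : Type*} [Group G] (α : G →* (L ≃+* L)) (g : G) (x : Additive Lˣ) :
    ((unitsRep α g x).toMul : L) = α g (x.toMul : L) := rfl

theorem allVanish_units {G : Type*} [Group G] [Finite G] (α : G →* (L ≃+* L)) (hα : Function.Injective α)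
    (p k : ℕ) [hp : Fact p.Prime] (g : G) (hg : orderOf g = p ^ k) : AllVanish (unitsRep α g) p k := by
  classical
  refine ⟨by rw [← map_pow, ← hg, pow_orderOf_eq_one, map_one], fun j hj m hm => ?_⟩
  set u := g ^ p ^ j with hu
  set n := p ^ (k - j)
  rw [← map_pow] at hm ⊢
  have hun : orderOf u = n := by
    rw [hu, orderOf_pow' g (by have := hp.out.pos; positivity), hg,
      Nat.gcd_eq_right (pow_dvd_pow p hj), Nat.pow_div hj hp.out.pos]
  have hidx : ∀ h : Subgroup.zpowers u, ∃ i < n, (h : G) = u ^ i := fun h => by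
    obtain ⟨i, hi, he⟩ := mem_zpowers_iff_mem_range_orderOf.1 h.2 |> Finset.mem_image.1
    exact ⟨i, hun ▸ Finset.mem_range.1 hi, he.symm⟩
  let S : ℕ → Additive Lˣ := fun i => nrm (unitsRep α u) i m
  have hSadd : ∀ a b, S (a + b) = S a + unitsRep α (u ^ a) (S b) := fun a b => by
    simp only [S, nrm_add, LinearMap.add_apply, Module.End.mul_apply, map_pow]
  have hper : ∀ a, S (a % n) = S a := fun a => by
    have h0 : ∀ q, S (n * q) = 0 := fun q => by
      induction q with
      | zero => simp [S, nrm_zero]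
      | succ q ih => rw [Nat.mul_succ, hSadd, ih, zero_add, show S n = 0 from hm, map_zero]
    conv_rhs => rw [← Nat.mod_add_div a n, hSadd, h0, map_zero, add_zero]
  choose ix hix hix' using hidx
  let f : Subgroup.zpowers u → Lˣ := fun h => (S (ix h)).toMul
  obtain ⟨x, hx⟩ := exists_div_of_cocycle (α.comp (Subgroup.zpowers u).subtype)
    (hα.comp Subtype.val_injective) f fun a b => by
      have e : ix (a * b) = (ix a + ix b) % n := by
        have h2 : u ^ ix (a * b) = u ^ (ix a + ix b) := by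
          rw [← hix', pow_add, ← hix', ← hix']; rfl
        rw [pow_inj_mod, hun, Nat.mod_eq_of_lt (hix _)] at h2
        exact h2
      simp only [f, e, hper, hSadd, toMul_add, Units.val_mul, unitsRep_apply, ← hix', MonoidHom.comp_apply,
        Subgroup.coe_subtype]
  refine ⟨Additive.ofMul x, ?_⟩
  have h1 := hx ⟨u, Subgroup.mem_zpowers u⟩
  have hn : 0 < n := Nat.pow_pos hp.out.pos
  have e : ix ⟨u, Subgroup.mem_zpowers u⟩ = 1 % n := by
    have h2 : u ^ ix ⟨u, Subgroup.mem_zpowers u⟩ = u ^ 1 := by rw [← hix', pow_one]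
    rw [pow_inj_mod, hun, Nat.mod_eq_of_lt (hix _)] at h2
    exact h2
  simp only [f, e, hper, S, nrm_one, Module.End.one_apply] at h1
  refine Additive.toMul.injective (Units.ext ?_)
  rw [toMul_sub, Units.val_div_eq_div_val, unitsRep_apply, h1]
  rfl

end H90

section Sylow

variable {G : Type*} [Group G] {A : Type*} [AddCommGroup A]

/-- If a cocycle is a coboundary on every Sylow subgroup, it is a coboundary. -/
theorem exists_of_sylow [Finite G] (ρ : Representation ℤ G A) (c : G → A)
    (hc : ∀ g h, c (g * h) = ρ g (c h) + c g)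
    (h : ∀ p : ℕ, p.Prime → ∀ P : Sylow p G, ∃ x, ∀ h : (P : Subgroup G), c h = ρ h x - x) :
    ∃ x, ∀ g, c g = ρ g x - x := by
  classical
  let I : AddSubgroup ℤ :=
    { carrier := {n | ∃ x, ∀ g, n • c g = ρ g x - x}
      zero_mem' := ⟨0, fun g => by simp⟩
      add_mem' := fun {a b} ⟨x, hx⟩ ⟨y, hy⟩ => ⟨x + y, fun g => by rw [add_smul, hx, hy, map_add]; abel⟩
      neg_mem' := fun {a} ⟨x, hx⟩ => ⟨-x, fun g => by rw [neg_smul, hx, map_neg]; abel⟩ }
  obtain ⟨d, hd⟩ := Int.subgroup_cyclic I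
  have hidx : ∀ p : ℕ, p.Prime → ∀ P : Sylow p G, ((P : Subgroup G).index : ℤ) ∈ I := by
    intro p hp P
    obtain ⟨x, hx⟩ := h p hp P
    let φ : G → A := fun t => c t - ρ t x
    have hφ : ∀ t (h : (P : Subgroup G)), φ (t * h) = φ t := fun t h => by
      simp only [φ, hc, hx, map_mul, Module.End.mul_apply, map_sub]
      abel
    let φ' : G ⧸ (P : Subgroup G) → A := Quotient.lift φ fun a b hab => by
      rw [← hφ a ⟨_, QuotientGroup.leftRel_apply.1 hab⟩, mul_inv_cancel_left]
    haveI := Fintype.ofFinite (G ⧸ (P : Subgroup G))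
    refine ⟨-∑ q, φ' q, fun g => ?_⟩
    have h1 : ∀ t : G, ρ g (φ t) = φ (g * t) - c g := fun t => by
      simp only [φ, hc, map_mul, Module.End.mul_apply, map_sub]
      abel
    have h2 : ρ g (∑ q, φ' q) = ∑ q, φ' q - ((P : Subgroup G).index : ℤ) • c g := by
      have hshift : ∀ q, ρ g (φ' q) = φ' (g • q) - c g := fun q => Quotient.inductionOn q h1
      rw [map_sum, Finset.sum_congr rfl fun q _ => hshift q, Finset.sum_sub_distrib, Finset.sum_const,
        Finset.card_univ, ← Nat.card_eq_fintype_card, natCast_zsmul]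
      congr 1
      exact Fintype.sum_equiv (MulAction.toPerm g) _ _ fun q => rfl
    rw [map_neg, h2]
    abel
  have hone : (1 : ℤ) ∈ I := by
    by_contra hne
    have hu : ¬ IsUnit d := fun hu => hne (hd ▸ AddSubgroup.mem_closure_singleton.2
      ⟨d, by rcases Int.isUnit_iff.1 hu with rfl | rfl <;> simp⟩)
    obtain ⟨p, hp, hpd⟩ := Nat.exists_prime_and_dvd (mt Int.isUnit_iff_natAbs_eq.2 hu)
    haveI : Fact p.Prime := ⟨hp⟩
    let P : Sylow p G := Classical.arbitrary _
    have := hidx p hp P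
    rw [hd, AddSubgroup.mem_closure_singleton] at this
    obtain ⟨m, hm⟩ := this
    refine P.not_dvd_index ?_
    rw [← Int.natCast_dvd_natCast, ← hm, smul_eq_mul]
    exact Dvd.dvd.mul_left (Int.natCast_dvd.2 hpd) _
  obtain ⟨x, hx⟩ := hone
  exact ⟨x, fun g => by rw [← hx, one_smul]⟩

end Sylow

section Ext

variable {L : Type*} [Field L] {G : Type*} [Group G]

/-- Equivariant homomorphisms into the units extend along injections with suitable lattice cokernel. -/
theorem exists_equivariant_ext [Finite G] (α : G →* (L ≃+* L)) (hα : Function.Injective α)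
    (hcyc : ∀ (p : ℕ) [Fact p.Prime] (P : Sylow p G), IsCyclic P) {Q S : Type*} [AddCommGroup Q]
    [AddCommGroup S] [Module.Free ℤ S] [Module.Finite ℤ S] (ρQ : Representation ℤ G Q)
    (ρS : Representation ℤ G S) (π : Q →ₗ[ℤ] S) (hπ : ∀ g q, π (ρQ g q) = ρS g (π q))
    (hsurj : Function.Surjective π)
    (hS : ∀ (g : G) (n : ℕ), g ^ n = 1 → 0 < n → ∀ s, nrm (ρS g) n s = 0 → ∃ y, ρS g y - y = s)
    (f : LinearMap.ker π →ₗ[ℤ] Additive Lˣ)
    (hf : ∀ g (q q' : LinearMap.ker π), (q' : Q) = ρQ g q → f q' = unitsRep α g (f q)) :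
    ∃ F : Q →ₗ[ℤ] Additive Lˣ, (∀ g q, F (ρQ g q) = unitsRep α g (F q)) ∧
      ∀ q : LinearMap.ker π, F q = f q := by
  classical
  set τ := unitsRep α with hτ
  obtain ⟨s0, hs0⟩ := Module.projective_lifting_property π LinearMap.id hsurj
  have hs0' : ∀ s, π (s0 s) = s := fun s => LinearMap.congr_fun hs0 s
  let pr : Q →ₗ[ℤ] LinearMap.ker π := ((LinearMap.id : Q →ₗ[ℤ] Q) - s0 ∘ₗ π).codRestrict _ fun q => by
    rw [LinearMap.mem_ker]; simp [hs0']
  let f0 : Q →ₗ[ℤ] Additive Lˣ := f ∘ₗ pr
  have hf0 : ∀ q : LinearMap.ker π, f0 q = f q := fun q => by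
    refine congrArg f (Subtype.ext ?_)
    show (q : Q) - s0 (π q) = q
    rw [LinearMap.mem_ker.1 q.2, map_zero, sub_zero]
  let Dd : G → (Q →ₗ[ℤ] Additive Lˣ) := fun g => τ g ∘ₗ f0 - f0 ∘ₗ ρQ g
  have hDker : ∀ g, ∀ q : LinearMap.ker π, Dd g q = 0 := fun g q => by
    have hq' : ρQ g q ∈ LinearMap.ker π := by rw [LinearMap.mem_ker, hπ, LinearMap.mem_ker.1 q.2, map_zero]
    show τ g (f0 q) - f0 (⟨_, hq'⟩ : LinearMap.ker π) = 0
    rw [hf0, hf0, hf g q ⟨_, hq'⟩ rfl, sub_self]
  have hD : ∀ g q, Dd g q = Dd g (s0 (π q)) := fun g q => by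
    have h := hDker g (pr q)
    rw [show (pr q : Q) = q - s0 (π q) from rfl, map_sub, sub_eq_zero] at h
    exact h
  let ρH : Representation ℤ G (S →ₗ[ℤ] Additive Lˣ) :=
    { toFun := fun g =>
        { toFun := fun b => τ g ∘ₗ b ∘ₗ ρS g⁻¹
          map_add' := fun b b' => LinearMap.ext fun s => by simp
          map_smul' := fun r b => LinearMap.ext fun s => by simp }
      map_one' := LinearMap.ext fun b => LinearMap.ext fun s => by simp
      map_mul' := fun g h => LinearMap.ext fun b => LinearMap.ext fun s => by simp }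
  let c : G → (S →ₗ[ℤ] Additive Lˣ) := fun g => -(Dd g ∘ₗ s0 ∘ₗ ρS g⁻¹)
  have hc : ∀ g h, c (g * h) = ρH g (c h) + c g := fun g h => LinearMap.ext fun s => by
    show -(Dd (g * h) (s0 (ρS (g * h)⁻¹ s))) =
      τ g (-(Dd h (s0 (ρS h⁻¹ (ρS g⁻¹ s))))) + -(Dd g (s0 (ρS g⁻¹ s)))
    rw [mul_inv_rev, map_mul, Module.End.mul_apply]
    set q := s0 (ρS h⁻¹ (ρS g⁻¹ s)) with hq
    have e1 : Dd (g * h) q = τ g (Dd h q) + Dd g (ρQ h q) := by
      simp only [Dd, map_mul, LinearMap.sub_apply, LinearMap.comp_apply, Module.End.mul_apply, map_sub]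
      abel
    rw [e1, hD g (ρQ h q), hπ, hq, hs0', Representation.self_inv_apply, map_neg]
    abel
  obtain ⟨b, hb⟩ := exists_of_sylow ρH c hc fun p hp P => by
    haveI : Fact p.Prime := ⟨hp⟩
    haveI := hcyc p P
    obtain ⟨⟨g, hgP⟩, hgen⟩ := IsCyclic.exists_generator (α := (P : Subgroup G))
    obtain ⟨k, hk⟩ := (IsPGroup.iff_orderOf.1 P.2) ⟨g, hgP⟩
    rw [Subgroup.orderOf_mk] at hk
    let σ := ρS g
    let a : S →ₗ[ℤ] Additive Lˣ := c g ∘ₗ σ
    have hσ : ∀ j ≤ k, ∀ s, nrm (σ ^ p ^ j) (p ^ (k - j)) s = 0 → ∃ y, (σ ^ p ^ j) y - y = s := by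
      intro j hj s hs
      rw [← map_pow] at hs ⊢
      exact hS _ _ (by rw [← pow_mul, ← pow_add, Nat.add_sub_of_le hj, ← hk, pow_orderOf_eq_one])
        (Nat.pow_pos hp.pos) s hs
    have hvσ : AllVanish σ p k :=
      ⟨by rw [← map_pow, ← hk, pow_orderOf_eq_one, map_one], hσ⟩
    have hpow : ∀ (i : ℕ) (s : S), tsum σ (τ g) a i s = c (g ^ i) (ρS (g ^ i) s) := by
      intro i
      induction i with
      | zero =>
        intro s
        have h0 : c 1 = 0 := by simpa using hc 1 1
        simp [tsum_zero, h0]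
      | succ i ih =>
        intro s
        rw [tsum_succ, ih, pow_succ' g i, hc]
        simp only [a, σ, LinearMap.add_apply, LinearMap.comp_apply, map_mul, map_pow, Module.End.mul_apply]
        congr 1
        show τ g _ = τ g (c (g ^ i) (ρS g⁻¹ (ρS g ((ρS g ^ i) s))))
        rw [Representation.inv_self_apply]
    obtain ⟨b, hb⟩ := exists_inner k hvσ (allVanish_units α hα p k g hk) a fun s => by
      have h0 : c 1 = 0 := by simpa using hc 1 1
      rw [hpow, ← hk, pow_orderOf_eq_one, h0, LinearMap.zero_apply]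
    refine ⟨b, fun h => ?_⟩
    obtain ⟨i, hi⟩ := (mem_powers_iff_mem_zpowers.2 (hgen h) : h ∈ Submonoid.powers _)
    have hh : (h : G) = g ^ i := by rw [← hi]; rfl
    refine LinearMap.ext fun s => ?_
    obtain ⟨t, rfl⟩ : ∃ t, s = ρS (g ^ i) t := ⟨ρS (g ^ i)⁻¹ s, (Representation.self_inv_apply _ _ _).symm⟩
    have ha : a = τ g ∘ₗ b - b ∘ₗ σ := LinearMap.ext fun x => (hb x).symm
    rw [hh, ← hpow, ha, tsum_coboundary]
    show _ = τ (g ^ i) (b (ρS (g ^ i)⁻¹ (ρS (g ^ i) t))) - b (ρS (g ^ i) t)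
    rw [Representation.inv_self_apply, map_pow, map_pow]
  refine ⟨f0 + b ∘ₗ π, fun g q => ?_, fun q => by
    show f0 q + b (π q) = f q
    rw [LinearMap.mem_ker.1 q.2, map_zero, add_zero, hf0]⟩
  have h := LinearMap.congr_fun (hb g) (ρS g (π q))
  have e : Dd g q = -(τ g (b (π q)) - b (ρS g (π q))) := by
    rw [hD, ← neg_eq_iff_eq_neg]
    simpa [c, ρH, Representation.inv_self_apply] using h
  simp only [Dd, LinearMap.sub_apply, LinearMap.comp_apply] at e
  simp only [LinearMap.add_apply, LinearMap.comp_apply, hπ, map_add]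
  rw [neg_sub, sub_eq_sub_iff_add_eq_add] at e
  rw [e]
  abel

end Ext

end Groth.Misc15.AdicH1
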