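import Groth.Agent.Misc15.AdicH1.Field
import Groth.Agent.Misc15.MultH1.Main
import Mathlib.NumberTheory.NumberField.Completion.FinitePlace

/-!
Surjectivity of the first cohomology of a smooth group of multiplicative type onto that of a completion.
-/

set_option autoImplicit false
set_option linter.style.haveILetI false
set_option backward.isDefEq.respectTransparency false

universe u

open CategoryTheory CategoryTheory.Limits MonoidalCategory CartesianMonoidalCategory MonObj AlgebraicGeometry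
  TensorProduct
open Groth.AlgGrp2 Groth.TorusPts Groth.Misc15.RatTorus Groth.Misc15.MultH1

noncomputable section

namespace Groth.Misc15.AdicH1

/-- a group as its own translation -/
def trSelf {S₀ : Scheme.{u}} (M : Over S₀) [GrpObj M] : Tr M M where
  h := 𝟙 S₀
  e Z :=
    { toFun := fun x => ((Over.mapId S₀).app Z).hom ≫ x
      invFun := fun y => ((Over.mapId S₀).app Z).inv ≫ y
      left_inv := fun x => by simp
      right_inv := fun y => by simp
      map_mul' := fun x y => MonObj.comp_mul _ _ _ }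
  nat {Z W} f x := by
    show ((Over.mapId S₀).app W).hom ≫ f ≫ x = (Over.map (𝟙 S₀)).map f ≫ ((Over.mapId S₀).app Z).hom ≫ x
    rw [← Category.assoc, ← Category.assoc]
    congr 1

theorem smooth_algebra {k A : Type u} [CommRing k] [CommRing A] [Algebra k A]
    [h : Smooth (Spec.map (CommRingCat.ofHom (algebraMap k A)))] : Algebra.Smooth k A :=
  RingHom.smooth_algebraMap.1 ((HasRingHomProperty.Spec_iff (P := @Smooth)).1 h)

variable {K : Type u} [Field K] {𝕜 : Type u} [NontriviallyNormedField 𝕜] [CompleteSpace 𝕜]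
  [IsUltrametricDist 𝕜] [Algebra K 𝕜]

theorem surjective_of_form (hdense : DenseRange (algebraMap K 𝕜))
    {M : Over (Spec (CommRingCat.of K))} [GrpObj M] [Smooth M.hom] {E : Type u} [Field E] [Algebra K E]
    [FiniteDimensional K E] [IsGalois K E] (F : Form K E) (j : F.sch ≅ M) [IsMonHom j.hom] [Group.FG F.N]
    {I₀ : Type*} [Fintype I₀] (ei : I₀ → ℤ) (hei : ∑ i, ei i = 1) (hsp : ∀ i, CycSplit F 𝕜 (ei i)) :
    Function.Surjective (NonAbH1.H1Sch.bcMap (str K 𝕜) M Scheme.fppfPrecoverage) := by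
  haveI : Smooth F.sch.hom := by
    rw [← Over.w j.hom]
    haveI : IsIso j.hom.left := inferInstanceAs (IsIso ((Over.forget _).map j.hom))
    infer_instance
  haveI : Algebra.Smooth K F.A := smooth_algebra (h := ‹Smooth F.sch.hom›)
  obtain ⟨J, _, P, Q, eP, p, incl, heP, hp, hincl, -, hinj, hexact, D, eR, eT, hR, hT, hW⟩ :=
    exists_resCover F j
  haveI := hR; haveI := hT
  intro c
  induction c using Quot.ind with
  | _ X =>
    let τ₀ := trSelf M
    let f : Spec (CommRingCat.of 𝕜) ⟶ Spec (CommRingCat.of K) := str K 𝕜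
    let τ := τ₀.bc f
    have hh : τ.h = str K 𝕜 := Category.comp_id _
    haveI : Finite (MaximalSpectrum 𝕜) := finite_maximalSpectrum_local _
    obtain ⟨t, ht⟩ := exists_point D τ hh X
    let e : CoactBr.sp K 𝕜 ≅ Over.mk τ.h := Over.isoMk (Iso.refl _) (by
      show 𝟙 _ ≫ τ.h = _
      rw [Category.id_comp, hh]; rfl)
    obtain ⟨x, s, hxs⟩ := exists_point_decomp' F hdense ei hei hsp P Q eP p incl heP hp hincl hinj hexact
      (e.hom ≫ t ≫ eT.hom)
    let e0 : Over.mk τ₀.h ≅ CoactBr.sp K K := Over.isoMk (Iso.refl _) (by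
      show 𝟙 _ ≫ Spec.map (CommRingCat.ofHom (RingHom.id K)) = 𝟙 _
      rw [Category.id_comp]
      exact Spec.map_id _)
    let s₀ : Over.mk τ₀.h ⟶ D.T := e0.hom ≫ s ≫ eT.inv
    obtain ⟨xR, hxR⟩ : ∃ z : Over.mk τ.h ⟶ D.R, z = e.inv ≫ x ≫ eR.inv := ⟨_, rfl⟩
    let sK : Over.mk τ.h ⟶ D.T := Over.homMk (U := Over.mk (f ≫ τ₀.h)) (V := Over.mk τ₀.h) f rfl ≫ s₀
    have hsK : e.hom ≫ sK = CoactBr.pt (Algebra.ofId K 𝕜) ≫ s ≫ eT.inv := by
      have h1 : e.hom ≫ Over.homMk (U := Over.mk (f ≫ τ₀.h)) (V := Over.mk τ₀.h) f rfl ≫ e0.hom =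
          CoactBr.pt (Algebra.ofId K 𝕜) := by
        refine Over.OverMorphism.ext ?_
        show 𝟙 (Spec (CommRingCat.of 𝕜)) ≫ f ≫ 𝟙 (Spec (CommRingCat.of K)) = _
        rw [Category.comp_id, Category.id_comp, CoactBr.pt_left]
        rfl
      rw [← h1]
      simp only [sK, s₀, Category.assoc]
    have heq : t = (xR ≫ D.π) * sK := by
      rw [← cancel_epi e.hom, ← cancel_mono eT.hom, MonObj.comp_mul, MonObj.mul_comp]
      refine Q.W_injective ?_
      rw [Category.assoc, hxs, Q.W_mul, hsK]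
      simp only [Category.assoc, Iso.inv_hom_id, Category.comp_id]
      congr 1
      have := hW 𝕜 (x ≫ eR.inv)
      simp only [Category.assoc, Iso.inv_hom_id, Category.comp_id] at this
      simp only [hxR, Category.assoc, Iso.hom_inv_id_assoc]
      exact this.symm
    refine ⟨(fibTorsor D.seq τ₀ s₀).cl, ?_⟩
    rw [← NonAbH1.TorsorSch.cl_bc,
      Emb.cl_eq (P := (fibTorsor D.seq τ₀ s₀).bc f) ((fibEmb D.seq τ₀ s₀).bc f)]
    refine Eq.trans ?_ ht.symm
    show (fibTorsor D.seq τ sK).cl = _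
    let E0 := fibEmb D.seq τ sK
    let E1 : Emb D.seq τ (fibAct D.seq τ sK) t :=
      { j := (cst τ (fib D.seq τ sK) ≫ xR) * E0.j
        equiv := fun Z g y => by
          rw [MonObj.comp_mul, MonObj.comp_mul, E0.equiv, ← Category.assoc, ← Category.assoc, map_cst, map_cst,
            ← _root_.mul_assoc, ← _root_.mul_assoc, D.seq.commR (cst τ Z ≫ xR) (τ.e Z g ≫ D.seq.i)]
        ov := by
          rw [MonObj.mul_comp, E0.ov, heq, MonObj.comp_mul, Category.assoc]
          rfl }
    exact Emb.cl_eq (P := fibTorsor D.seq τ sK) E1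

/-- The statement for the completion of a discretely valued field. -/
theorem surjective_adicCompletion (A : Type u) [CommRing A] [IsDomain A] [IsDiscreteValuationRing A]
    (v : IsDedekindDomain.HeightOneSpectrum A) {M : Over (Spec (CommRingCat.of (FractionRing A)))} [GrpObj M]
    [Smooth M.hom] {E : Type u} [Field E] [Algebra (FractionRing A) E] [FiniteDimensional (FractionRing A) E]
    [IsGalois (FractionRing A) E] (F : Form (FractionRing A) E) (j : F.sch ≅ M) [IsMonHom j.hom] [Group.FG F.N]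
    {I₀ : Type*} [Fintype I₀] (ei : I₀ → ℤ) (hei : ∑ i, ei i = 1)
    (hsp : ∀ i, CycSplit F (v.adicCompletion (FractionRing A)) (ei i)) :
    Function.Surjective (NonAbH1.H1Sch.bcMap (str (FractionRing A) (v.adicCompletion (FractionRing A))) M
      Scheme.fppfPrecoverage) := by
  letI : (Valued.v : Valuation (v.adicCompletion (FractionRing A)) (WithZero (Multiplicative ℤ))).RankOne :=
    Valuation.IsRankOneDiscrete.rankOne _ (show (1 : NNReal) < 2 by norm_num)
  letI : NontriviallyNormedField (v.adicCompletion (FractionRing A)) := Valued.toNontriviallyNormedField (L := v.adicCompletion (FractionRing A)) (Γ₀ := WithZero (Multiplicative ℤ))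
  exact surjective_of_form (v.denseRange_algebraMap (FractionRing A)) F j ei hei hsp

/-- An isomorphism of affine group schemes as an isomorphism of Hopf algebras on points. -/
theorem exists_algEquiv_of_iso {k : Type u} [Field k] {A₂ B : Type u} [CommRing A₂] [HopfAlgebra k A₂] [CommRing B]
    [HopfAlgebra k B] (i : CoactBr.sp k B ≅ CoactBr.sp k A₂) [IsMonHom i.hom] :
    ∃ φ : A₂ ≃ₐ[k] B, ∀ (R : Type u) [CommRing R] [Algebra k R] (g h : B →ₐ[k] R),
      (cv g h).comp φ.toAlgHom = cv (g.comp φ.toAlgHom) (h.comp φ.toAlgHom) ∧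
        (one' k B R).comp φ.toAlgHom = one' k A₂ R := by
  obtain ⟨a, ha⟩ := pt_surjective (R := k) (B := A₂) (K := B) i.hom
  obtain ⟨b, hb⟩ := pt_surjective (R := k) (B := B) (K := A₂) i.inv
  refine ⟨AlgEquiv.ofAlgHom a b (CoactBr.pt_injective ?_) (CoactBr.pt_injective ?_), fun R _ _ g h => ⟨?_, ?_⟩⟩
  · rw [CoactBr.pt_comp, ha, hb, Iso.hom_inv_id]
    exact (Over.OverMorphism.ext (Spec.map_id _)).symm
  · rw [CoactBr.pt_comp, ha, hb, Iso.inv_hom_id]
    exact (Over.OverMorphism.ext (Spec.map_id _)).symm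
  · apply CoactBr.pt_injective
    show CoactBr.pt ((cv g h).comp a) = CoactBr.pt (cv (g.comp a) (h.comp a))
    rw [CoactBr.pt_comp, ha, cv, cv, ← CoactBr.pt_mul_pt, ← CoactBr.pt_mul_pt, MonObj.mul_comp,
      CoactBr.pt_comp, CoactBr.pt_comp, ha]
  · apply CoactBr.pt_injective
    show CoactBr.pt ((one' k B R).comp a) = CoactBr.pt (one' k A₂ R)
    rw [CoactBr.pt_comp, ha, one', one', ← CoactBr.one_eq_pt, ← CoactBr.one_eq_pt, MonObj.one_comp]

/-- A splitting field of the group gives the hypothesis with multiplier one. -/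
theorem cycSplit_one {k : Type u} [Field k] {M : Over (Spec (CommRingCat.of k))} [GrpObj M] {E : Type u} [Field E]
    [Algebra k E] (F : Form k E) (j : F.sch ≅ M) [IsMonHom j.hom] (k' : Type u) [Field k'] [Algebra k k']
    (L : Type u) [Field L] [Algebra k' L] (hfd : FiniteDimensional k' L) (hgal : IsGalois k' L)
    (hcyc : ∀ (l : ℕ) [Fact l.Prime] (P : Sylow l (L ≃ₐ[k'] L)), IsCyclic P)
    {Λ : Type} [AddCommGroup Λ]
    (hsp : Nonempty (Grp.mk (Red.bc (Spec.map (CommRingCat.ofHom (algebraMap k' L)) ≫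
      Spec.map (CommRingCat.ofHom (algebraMap k k'))) M) ≅ Grp.mk (Red.DS (Spec (CommRingCat.of L)) Λ))) :
    CycSplit F k' 1 := by
  letI : Algebra k L := ((algebraMap k' L).comp (algebraMap k k')).toAlgebra
  haveI : IsScalarTower k k' L := IsScalarTower.of_algebraMap_eq fun _ => rfl
  have heq : str k L = Spec.map (CommRingCat.ofHom (algebraMap k' L)) ≫
      Spec.map (CommRingCat.ofHom (algebraMap k k')) := by
    rw [← Spec.map_comp]; rfl
  have hsp' : Red.IsSplitTorusWith Λ (Red.bc (str k L) M) := by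
    rw [heq]
    exact hsp
  obtain ⟨A₂, _, _, j₂, hj₂, ⟨e₂⟩⟩ := exists_hopf_split M L hsp'
  haveI := hj₂
  let N₂ := Multiplicative (ULift.{u} Λ)
  let g0 : N₂ ≃* Multiplicative Λ := AddEquiv.toMultiplicative AddEquiv.ulift
  let e₂' : L ⊗[k] A₂ ≃ₐc[L] MonoidAlgebra L N₂ :=
    e₂.trans (BialgEquiv.ofBijective (MonoidAlgebra.mapDomainBialgHom L g0.symm.toMonoidHom) (by
      refine Function.bijective_iff_has_inverse.2
        ⟨MonoidAlgebra.mapDomainBialgHom L g0.toMonoidHom, fun x => ?_, fun x => ?_⟩ <;>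
      induction x using MonoidAlgebra.induction_on with
      | of m => simp
      | add p q hp hq => simp only [map_add, hp, hq]
      | smul r p hp => simp only [map_smul, hp]))
  haveI : IsMonHom (j ≪≫ j₂.symm).hom := inferInstanceAs (IsMonHom (j.hom ≫ j₂.inv))
  obtain ⟨φ, hφ⟩ := exists_algEquiv_of_iso (k := k) (B := F.A) (A₂ := A₂) (j ≪≫ j₂.symm)
  refine ⟨L, inferInstance, inferInstance, hfd, hgal, @hcyc, fun Ω _ _ _ _ _ _ τ τ₂ σ g hg hσ m => ?_⟩
  rw [zpow_one, zpow_one]
  exact rho_eq_one_of_split F e₂' φ hφ τ (τ₂.restrictScalars k) (σ.restrictScalars k).toAlgHom g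
    (AlgHom.ext hg) (AlgHom.ext hσ) m

end Groth.Misc15.AdicH1
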