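import Groth.Agent.Misc15.AdicH1.Hom90

/-!
Extension of equivariant homomorphisms into units along kernels of maps onto permutation modules, and
the approximation of equivariant families by rational ones.
-/

set_option autoImplicit false
set_option linter.style.haveILetI false

open Finset

noncomputable section

namespace Groth.Misc15.AdicH1

section Perm

variable {L : Type*} [Field L] {G : Type*} [Group G] [Finite G] (α : G →* (L ≃+* L))
  {ι : Type*} [Fintype ι] [DecidableEq ι] {Q : Type*} [AddCommGroup Q]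

/-- Equivariant homomorphisms into units extend along kernels of maps onto permutation modules. -/
theorem exists_perm_ext (hα : Function.Injective α) (ρQ : Representation ℤ G Q) (a : G →* Equiv.Perm ι)
    (π : Q →ₗ[ℤ] (ι → ℤ)) (hπ : ∀ g q i, π (ρQ g q) i = π q ((a g).symm i))
    (hsurj : Function.Surjective π) (f : LinearMap.ker π →ₗ[ℤ] Additive Lˣ)
    (hf : ∀ g (q q' : LinearMap.ker π), (q' : Q) = ρQ g q → f q' = unitsRep α g (f q)) :
    ∃ F : Q →ₗ[ℤ] Additive Lˣ, (∀ g q, F (ρQ g q) = unitsRep α g (F q)) ∧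
      ∀ q : LinearMap.ker π, F q = f q := by
  classical
  letI : MulAction G ι := MulAction.compHom ι a
  set τ := unitsRep α with hτ
  have hsingle : ∀ (g : G) (q : Q) (x : ι), π q = Pi.single x 1 → π (ρQ g q) = Pi.single (a g x) 1 := by
    intro g q x hq
    funext i
    rw [hπ, hq, Pi.single_apply, Pi.single_apply]
    exact if_congr (Equiv.symm_apply_eq _) rfl rfl
  let rep : ι → ι := fun x => Quotient.out (Quotient.mk (MulAction.orbitRel G ι) x)
  have hrep : ∀ (g : G) x, rep (a g x) = rep x := fun g x =>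
    congrArg Quotient.out (Quotient.sound (MulAction.orbitRel_apply.2 ⟨g, rfl⟩))
  have hg : ∀ x, ∃ g : G, a g (rep x) = x := fun x => by
    have h : (MulAction.orbitRel G ι) x (rep x) :=
      Quotient.exact (Quotient.out_eq (Quotient.mk (MulAction.orbitRel G ι) x)).symm
    obtain ⟨g, hg⟩ := MulAction.orbitRel_apply.1 h
    exact ⟨g, hg⟩
  choose gx hgx using hg
  choose q0 hq0 using fun x : ι => hsurj (Pi.single x 1)
  let S : ι → Subgroup G := fun x => MulAction.stabilizer G x
  have hk : ∀ x (s : S x), ρQ s (q0 x) - q0 x ∈ LinearMap.ker π := fun x s => by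
    rw [LinearMap.mem_ker, map_sub, hsingle _ _ x (hq0 x), hq0, show a (s : G) x = x from s.2, sub_self]
  have hu : ∀ x, ∃ u : Additive Lˣ, ∀ s : S x, f ⟨_, hk x s⟩ = τ s u - u := fun x => by
    obtain ⟨u, hu⟩ := exists_div_of_cocycle (α.comp (S x).subtype) (hα.comp Subtype.val_injective)
      (fun s => (f ⟨_, hk x s⟩).toMul) fun s t => by
        have e : (⟨_, hk x (s * t)⟩ : LinearMap.ker π) =
            ⟨_, hk x s⟩ + ⟨ρQ s (ρQ t (q0 x) - q0 x), by
              rw [LinearMap.mem_ker]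
              funext i
              rw [hπ, LinearMap.mem_ker.1 (hk x t)]
              rfl⟩ := Subtype.ext (by
          show ρQ ((s : G) * t) (q0 x) - q0 x = ρQ s (q0 x) - q0 x + ρQ s (ρQ t (q0 x) - q0 x)
          rw [map_mul, Module.End.mul_apply, map_sub]; abel)
        rw [e, map_add, toMul_add, Units.val_mul,
          hf s ⟨_, hk x t⟩ ⟨ρQ s (ρQ t (q0 x) - q0 x), _⟩ rfl]
        rfl
    refine ⟨Additive.ofMul u, fun s => Additive.toMul.injective (Units.ext ?_)⟩
    rw [hu s, toMul_sub, Units.val_div_eq_div_val, unitsRep_apply]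
    rfl
  choose u hu using hu
  let sec : ι → Q := fun x => ρQ (gx x) (q0 (rep x))
  have hsec : ∀ x, π (sec x) = Pi.single x 1 := fun x => by rw [hsingle _ _ _ (hq0 _), hgx]
  let B := Pi.basisFun ℤ ι
  let s : (ι → ℤ) →ₗ[ℤ] Q := B.constr ℤ sec
  have hs : ∀ v, π (s v) = v := LinearMap.congr_fun (show π ∘ₗ s = LinearMap.id from B.ext fun i => by
    show π (B.constr ℤ sec (B i)) = B i
    rw [Module.Basis.constr_basis, hsec]
    exact (Pi.basisFun_apply ℤ ι i).symm)
  let pr : Q →ₗ[ℤ] LinearMap.ker π := ((LinearMap.id : Q →ₗ[ℤ] Q) - s ∘ₗ π).codRestrict _ fun q => by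
    rw [LinearMap.mem_ker]; simp [hs]
  let w : (ι → ℤ) →ₗ[ℤ] Additive Lˣ := B.constr ℤ fun x => τ (gx x) (u (rep x))
  let F : Q →ₗ[ℤ] Additive Lˣ := f ∘ₗ pr + w ∘ₗ π
  have hker : ∀ q : LinearMap.ker π, F q = f q := fun q => by
    show f (pr q) + w (π q) = f q
    rw [LinearMap.mem_ker.1 q.2, map_zero, add_zero]
    refine congrArg f (Subtype.ext ?_)
    show (q : Q) - s (π q) = q
    rw [LinearMap.mem_ker.1 q.2, map_zero, sub_zero]
  have hFsec : ∀ x, F (sec x) = τ (gx x) (u (rep x)) := fun x => by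
    show f (pr (sec x)) + w (π (sec x)) = _
    have e : s (π (sec x)) = sec x := by
      rw [hsec, ← Pi.basisFun_apply ℤ ι x]
      exact Module.Basis.constr_basis _ _ _ _
    rw [show pr (sec x) = 0 from Subtype.ext (by show sec x - s (π (sec x)) = 0; rw [e, sub_self]), map_zero,
      zero_add, hsec, ← Pi.basisFun_apply ℤ ι x]
    exact Module.Basis.constr_basis _ _ _ _
  refine ⟨F, fun g q => ?_, hker⟩
  have hgen : ∀ x, F (ρQ g (sec x)) = τ g (F (sec x)) := by
    intro x
    set g' := gx (a g x)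
    have hs' : g'⁻¹ * (g * gx x) ∈ S (rep x) := by
      show a (g'⁻¹ * (g * gx x)) (rep x) = rep x
      rw [map_mul, map_mul, map_inv, Equiv.Perm.mul_apply, Equiv.Perm.mul_apply, hgx, Equiv.Perm.inv_def,
        Equiv.symm_apply_eq, ← hrep g x, hgx]
    have hmem : ρQ g' (ρQ (g'⁻¹ * (g * gx x)) (q0 (rep x)) - q0 (rep x)) ∈ LinearMap.ker π := by
      rw [LinearMap.mem_ker]
      funext i
      rw [hπ, LinearMap.mem_ker.1 (hk _ ⟨_, hs'⟩)]
      rfl
    have e1 : ρQ g (sec x) = sec (a g x) + (⟨_, hmem⟩ : LinearMap.ker π) := by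
      show ρQ g (ρQ (gx x) _) = ρQ g' (q0 (rep (a g x))) + ρQ g' _
      rw [hrep, map_sub, add_sub_cancel, ← Module.End.mul_apply, ← map_mul, ← Module.End.mul_apply, ← map_mul,
        mul_inv_cancel_left]
    rw [e1, map_add, hker, hFsec, hFsec, hf g' ⟨_, hk _ ⟨_, hs'⟩⟩ ⟨_, hmem⟩ rfl, hu (rep x) ⟨_, hs'⟩, map_sub,
      hrep, add_sub_cancel, ← Module.End.mul_apply, ← map_mul, mul_inv_cancel_left, map_mul]
    rfl
  have hsv : ∀ v, F (ρQ g (s v)) = τ g (F (s v)) := LinearMap.congr_fun
    (show (F ∘ₗ ρQ g) ∘ₗ s = (τ g ∘ₗ F) ∘ₗ s from B.ext fun i => by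
      simp only [LinearMap.comp_apply, s, Module.Basis.constr_basis, hgen])
  have hmem : ρQ g (pr q) ∈ LinearMap.ker π := by
    rw [LinearMap.mem_ker]; funext i; rw [hπ, LinearMap.mem_ker.1 (pr q).2]; rfl
  rw [show q = (pr q : Q) + s (π q) from (sub_add_cancel q _).symm, map_add, map_add, map_add, map_add, hsv,
    show ρQ g (pr q) = (⟨_, hmem⟩ : LinearMap.ker π) from rfl, hker, hker, hf g (pr q) ⟨_, hmem⟩ rfl]

end Perm

section Dense

variable {K E 𝕜 L : Type*} [Field K] [Field E] [Algebra K E] [FiniteDimensional K E] [IsGalois K E]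
  [Field 𝕜] [Algebra K 𝕜] [Field L] [Algebra 𝕜 L] {G : Type*} [Group G] (α : G →* (L ≃ₐ[𝕜] L))
  (r : G →* (E ≃ₐ[K] E)) (j : E →+* L)

/-- Coordinates over the completion of an equivariant family along the Galois conjugates. -/
theorem exists_coeffs (hfix : ∀ x, (∀ g, α g x = x) → ∃ c, algebraMap 𝕜 L c = x)
    (hj : ∀ g e, α g (j e) = j (r g e)) {ι : Type*} [Fintype ι] (e : Module.Basis ι K E)
    (y : (E ≃ₐ[K] E) → L) (hy : ∀ g γ, y (r g * γ) = α g (y γ)) :
    ∃ c : ι → 𝕜, ∀ γ, y γ = ∑ l, j (γ (e l)) * algebraMap 𝕜 L (c l) := by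
  classical
  let A : ((E ≃ₐ[K] E) → L) →ₗ[L] (ι → L) :=
    Fintype.linearCombination L fun γ l => j (γ (e l))
  have hA : Function.Injective A := by
    rw [← LinearMap.ker_eq_bot, LinearMap.ker_eq_bot']
    intro x hx
    have hinj : Function.Injective fun γ : E ≃ₐ[K] E => ((j.comp (γ : E →+* E)) : E →* L) := fun γ γ' h =>
      AlgEquiv.ext fun z => j.injective (DFunLike.congr_fun h z)
    refine funext (Fintype.linearIndependent_iff.1 ((linearIndependent_monoidHom E L).comp _ hinj) x ?_)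
    funext z
    have h1 : ∀ l, ∑ γ, x γ * j (γ (e l)) = 0 := fun l => by
      simpa [A, Fintype.linearCombination_apply, Finset.sum_apply] using congrFun hx l
    simp only [Function.comp_apply, Finset.sum_apply, Pi.smul_apply, MonoidHom.coe_coe, RingHom.coe_comp,
      smul_eq_mul, RingHom.coe_coe, Pi.zero_apply]
    conv_lhs => arg 2; ext γ; rw [← e.sum_repr z]
    simp only [map_sum, Algebra.smul_def, map_mul, AlgEquiv.commutes, Finset.mul_sum]
    rw [Finset.sum_comm]
    refine Finset.sum_eq_zero fun l _ => ?_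
    rw [← mul_zero (j (algebraMap K E (e.repr z l))), ← h1 l, Finset.mul_sum]
    exact Finset.sum_congr rfl fun γ _ => by ring
  let B : (ι → L) →ₗ[L] ((E ≃ₐ[K] E) → L) := Fintype.linearCombination L fun l γ => j (γ (e l))
  have hcard : Module.finrank L (ι → L) = Module.finrank L ((E ≃ₐ[K] E) → L) := by
    rw [Module.finrank_pi, Module.finrank_pi, ← Nat.card_eq_fintype_card (α := E ≃ₐ[K] E),
      IsGalois.card_aut_eq_finrank, Module.finrank_eq_card_basis e]
  have hAbij : Function.Surjective A := (LinearMap.injective_iff_surjective_of_finrank_eq_finrank hcard.symm).1 hA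
  have hB : Function.Injective B := by
    rw [← LinearMap.ker_eq_bot, LinearMap.ker_eq_bot']
    intro c hc
    funext l
    obtain ⟨x, hx⟩ := hAbij (Pi.single l 1)
    have h1 : ∀ γ : E ≃ₐ[K] E, ∑ l', c l' * j (γ (e l')) = 0 := fun γ => by
      simpa [B, Fintype.linearCombination_apply, Finset.sum_apply] using congrFun hc γ
    have h2 : ∀ l', ∑ γ, x γ * j (γ (e l')) = (Pi.single l (1 : L) : ι → L) l' := fun l' => by
      simpa [A, Fintype.linearCombination_apply, Finset.sum_apply] using congrFun hx l'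
    have : ∑ l', c l' * (Pi.single l (1 : L) : ι → L) l' = 0 := by
      simp only [← h2, Finset.mul_sum]
      rw [Finset.sum_comm]
      refine Finset.sum_eq_zero fun γ _ => ?_
      rw [← mul_zero (x γ), ← h1 γ, Finset.mul_sum]
      exact Finset.sum_congr rfl fun l' _ => by ring
    simpa [Pi.single_apply] using this
  obtain ⟨c, hc⟩ := (LinearMap.injective_iff_surjective_of_finrank_eq_finrank hcard).1 hB y
  have hcy : ∀ γ, ∑ l, c l * j (γ (e l)) = y γ := fun γ => by
    simpa [B, Fintype.linearCombination_apply, Finset.sum_apply] using congrFun hc γ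
  have hfix' : ∀ g, (fun l => α g (c l)) = c := fun g => hB (funext fun γ => by
    simp only [B, Fintype.linearCombination_apply, Finset.sum_apply, Pi.smul_apply, smul_eq_mul]
    rw [hcy]
    have h := congrArg (α g) (hcy ((r g)⁻¹ * γ))
    rw [← hy, mul_inv_cancel_left, map_sum] at h
    rw [← h]
    refine Finset.sum_congr rfl fun l _ => ?_
    rw [map_mul, hj]
    congr 2
    show γ (e l) = r g ((r g).symm (γ (e l)))
    rw [AlgEquiv.apply_symm_apply])
  choose c' hc' using fun l => hfix (c l) fun g => congrFun (hfix' g) l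
  exact ⟨c', fun γ => by rw [← hcy]; exact Finset.sum_congr rfl fun l _ => by rw [hc', mul_comm]⟩

/-- Rational equivariant families are dense among the equivariant ones. -/
theorem exists_rat_approx [TopologicalSpace 𝕜] [TopologicalSpace L] [ContinuousMul L] [ContinuousAdd L]
    (hcont : Continuous (algebraMap 𝕜 L)) (hdense : DenseRange (algebraMap K 𝕜))
    (hcomm : ∀ x, algebraMap 𝕜 L (algebraMap K 𝕜 x) = j (algebraMap K E x))
    (hfix : ∀ x, (∀ g, α g x = x) → ∃ c, algebraMap 𝕜 L c = x) (hj : ∀ g e, α g (j e) = j (r g e))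
    {κ : Type*} [Fintype κ] (a : (E ≃ₐ[K] E) →* Equiv.Perm κ) (y : κ → L)
    (hy : ∀ g x, y (a (r g) x) = α g (y x)) {U : Set (κ → L)} (hU : U ∈ nhds y) :
    ∃ h : κ → E, (∀ γ x, h (a γ x) = γ (h x)) ∧ (fun x => j (h x)) ∈ U := by
  classical
  let e := Module.finBasis K E
  choose c hc using fun x => exists_coeffs α r j hfix hj e (fun γ => y (a γ x)) fun g γ => by
    rw [map_mul, Equiv.Perm.mul_apply, hy]
  obtain ⟨w0, hw0⟩ : ∃ w : E, ∑ γ : E ≃ₐ[K] E, γ w = 1 := by
    obtain ⟨w, hw⟩ := Algebra.trace_surjective K E 1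
    exact ⟨w, by rw [← trace_eq_sum_automorphisms (K := K) w, hw, map_one]⟩
  let H : (κ → Fin (Module.finrank K E) → 𝕜) → (κ → L) := fun c' x =>
    ∑ γ : E ≃ₐ[K] E, j (γ w0) * ∑ l, j (γ (e l)) * algebraMap 𝕜 L (c' ((a γ).symm x) l)
  have hH : Continuous H := continuous_pi fun x => continuous_finsetSum _ fun γ _ =>
    continuous_const.mul (continuous_finsetSum _ fun l _ => continuous_const.mul
      (hcont.comp ((continuous_apply l).comp (continuous_apply ((a γ).symm x)))))
  have hHc : H c = y := funext fun x => by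
    show ∑ γ : E ≃ₐ[K] E, j (γ w0) * ∑ l, j (γ (e l)) * algebraMap 𝕜 L (c ((a γ).symm x) l) = y x
    simp only [← hc, Equiv.apply_symm_apply]
    rw [← Finset.sum_mul, ← map_sum, hw0, map_one, one_mul]
  have hd : DenseRange (fun (q : κ → Fin (Module.finrank K E) → K) x l => algebraMap K 𝕜 (q x l)) :=
    DenseRange.piMap (fun _ : κ => DenseRange.piMap (fun _ : Fin (Module.finrank K E) => hdense))
  obtain ⟨O, hO, hOopen, hcO⟩ := mem_nhds_iff.1 (hH.continuousAt.preimage_mem_nhds (by rw [hHc]; exact hU :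
    U ∈ nhds (H c)))
  obtain ⟨_, hqO, q, rfl⟩ := Set.inter_nonempty.1 (hd.inter_open_nonempty O hOopen ⟨c, hcO⟩)
  let h : κ → E := fun x => ∑ γ : E ≃ₐ[K] E, γ w0 * ∑ l, γ (e l) * algebraMap K E (q ((a γ).symm x) l)
  refine ⟨h, fun δ x => ?_, ?_⟩
  · simp only [h, map_sum]
    refine Eq.trans (Equiv.sum_comp (Equiv.mulLeft δ) fun γ => γ w0 * ∑ l, γ (e l) *
      algebraMap K E (q ((a γ).symm (a δ x)) l)).symm ?_
    refine Finset.sum_congr rfl fun γ _ => ?_
    have e1 : (a (δ * γ)).symm (a δ x) = (a γ).symm x := (Equiv.symm_apply_eq _).2 (by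
      rw [map_mul, Equiv.Perm.mul_apply, Equiv.apply_symm_apply])
    rw [Equiv.coe_mulLeft]
    dsimp only
    rw [e1]
    simp only [AlgEquiv.mul_apply, map_mul, map_sum, AlgEquiv.commutes]
  · have e2 : (fun x => j (h x)) = H (fun x l => algebraMap K 𝕜 (q x l)) := funext fun x => by
      simp only [h, H, map_sum, map_mul, hcomm]
    rw [e2]
    exact hO hqO

end Dense

end Groth.Misc15.AdicH1
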