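import Groth.Agent.Misc15.AdicH1.Family
import Groth.Agent.Misc15.MultH1.Res

/-!
Points of forms over a completion as equivariant characters; the decomposition of points of the quotient torus.
-/

set_option autoImplicit false
set_option linter.style.haveILetI false

universe u

open CategoryTheory MonoidalCategory CartesianMonoidalCategory MonObj AlgebraicGeometry TensorProduct
open Groth.AlgGrp2 Groth.TorusPts Groth.Misc15.RatTorus Groth.Misc15.MultH1

noncomputable section

namespace Groth.Misc15.AdicH1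

section RepOf

/-- A multiplicative action as a representation. -/
def repOf {Γ : Type u} [Group Γ] {N : Type u} [CommGroup N] (ρ : Γ →* (N ≃* N)) :
    Representation ℤ Γ (Additive N) where
  toFun g := (MonoidHom.toAdditive (ρ g).toMonoidHom).toIntLinearMap
  map_one' := LinearMap.ext fun x => by
    show Additive.ofMul (ρ 1 x.toMul) = Additive.ofMul x.toMul
    rw [map_one]; rfl
  map_mul' g h := LinearMap.ext fun x => by
    show Additive.ofMul (ρ (g * h) x.toMul) = Additive.ofMul (ρ g (ρ h x.toMul))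
    rw [map_mul]; rfl

theorem repOf_apply {Γ : Type u} [Group Γ] {N : Type u} [CommGroup N] (ρ : Γ →* (N ≃* N)) (g : Γ)
    (x : Additive N) : repOf ρ g x = Additive.ofMul (ρ g x.toMul) := rfl

end RepOf

variable {K E : Type u} [Field K] [Field E] [Algebra K E] [FiniteDimensional K E] [IsGalois K E]
  {𝕜 L : Type u} [Field 𝕜] [Algebra K 𝕜] [Field L] [Algebra K L] [Algebra 𝕜 L] [IsScalarTower K 𝕜 L]
  (j : E →ₐ[K] L)

/-- the evaluations at the conjugates -/
def evg (σ : E ≃ₐ[K] E) : E ⊗[K] 𝕜 →ₐ[K] L :=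
  Algebra.TensorProduct.productMap (j.comp σ.toAlgHom) (IsScalarTower.toAlgHom K 𝕜 L)

omit [FiniteDimensional K E] [IsGalois K E] in
theorem evg_tmul (σ : E ≃ₐ[K] E) (a : E) (c : 𝕜) :
    evg j σ (a ⊗ₜ[K] c) = j (σ a) * algebraMap 𝕜 L c :=
  Algebra.TensorProduct.productMap_apply_tmul _ _ _ _

omit [FiniteDimensional K E] [IsGalois K E] in
theorem evg_galS (σ θ : E ≃ₐ[K] E) (z : E ⊗[K] 𝕜) : evg j σ (galS θ 𝕜 z) = evg j (σ * θ) z := by
  induction z using TensorProduct.induction_on with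
  | zero => simp
  | add a b ha hb => simp only [map_add, ha, hb]
  | tmul a c => rw [Algebra.TensorProduct.map_tmul, evg_tmul, evg_tmul]; rfl

theorem evg_ext {z z' : E ⊗[K] 𝕜} (h : ∀ σ, evg j σ z = evg j σ z') : z = z' := by
  classical
  suffices hh : ∀ z : E ⊗[K] 𝕜, (∀ σ, evg j σ z = 0) → z = 0 from
    sub_eq_zero.1 (hh _ fun σ => by rw [map_sub, h, sub_self])
  intro z hz
  let b := Module.finBasis K E
  obtain ⟨c, rfl⟩ := TensorProduct.eq_repr_basis_left b z
  have hc : ∀ i, c i = 0 := fun i => (algebraMap 𝕜 L).injective (by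
    have h1 : ∀ σ : E ≃ₐ[K] E, c.sum (fun l m => j (σ (b l)) * algebraMap 𝕜 L m) = 0 := fun σ => by
      rw [← hz σ, map_finsuppSum]
      simp only [evg_tmul]
    have h2 : ∀ l, ∑ σ : E ≃ₐ[K] E, j (σ (b.traceDual i)) * j (σ (b l)) = if l = i then (1 : L) else 0 := fun l => by
      simp only [← map_mul]
      rw [← map_sum, ← trace_eq_sum_automorphisms (K := K) (b.traceDual i * b l), b.trace_traceDual_mul]
      split_ifs <;> simp
    have h3 : ∑ σ : E ≃ₐ[K] E, j (σ (b.traceDual i)) * c.sum (fun l m => j (σ (b l)) * algebraMap 𝕜 L m) = 0 :=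
      Finset.sum_eq_zero fun σ _ => by rw [h1, mul_zero]
    rw [map_zero, ← h3]
    simp only [Finsupp.sum, Finset.mul_sum, ← mul_assoc]
    refine (Finset.sum_comm.trans ?_).symm
    rw [Finset.sum_congr rfl (g := fun l => if l = i then algebraMap 𝕜 L (c l) else 0) fun l _ => by
      refine (Finset.sum_congr rfl fun x _ => (mul_assoc _ _ _).symm).trans ?_; rw [← Finset.sum_mul, h2]; split_ifs <;> simp]
    rw [Finset.sum_ite_eq']
    split_ifs with hi
    · rfl
    · rw [Finsupp.notMem_support_iff.1 hi, map_zero])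
  rw [show c = 0 from Finsupp.ext hc, Finsupp.sum_zero_index]

theorem isUnit_of_evg {z : E ⊗[K] 𝕜} (h : ∀ σ, evg j σ z ≠ 0) : IsUnit z := by
  letI : Algebra 𝕜 (E ⊗[K] 𝕜) := Algebra.TensorProduct.rightAlgebra
  have hinj : Function.Injective (Algebra.lmul 𝕜 (E ⊗[K] 𝕜) z) := by
    refine fun a b hab => evg_ext j fun σ => mul_left_cancel₀ (h σ) ?_
    rw [← map_mul, ← map_mul]
    exact congrArg (evg j σ) hab
  haveI : Module.Finite 𝕜 (E ⊗[K] 𝕜) :=
    Module.Finite.equiv (Algebra.TensorProduct.commRight K 𝕜 E).toLinearEquiv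
  have hs : Function.Surjective (Algebra.lmul 𝕜 (E ⊗[K] 𝕜) z) :=
    (LinearMap.injective_iff_surjective (f := Algebra.lmul 𝕜 (E ⊗[K] 𝕜) z)).1 hinj
  obtain ⟨w, hw⟩ := hs 1
  exact IsUnit.of_mul_eq_one w hw

section Decomp

variable {K E : Type u} [Field K] [Field E] [Algebra K E] [FiniteDimensional K E] [IsGalois K E]
  {𝕜 L : Type u} [NontriviallyNormedField 𝕜] [CompleteSpace 𝕜] [Algebra K 𝕜]
  [NontriviallyNormedField L] [NormedAlgebra 𝕜 L] [FiniteDimensional 𝕜 L] [Algebra K L] [IsScalarTower K 𝕜 L]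
  {G : Type u} [Group G] [Finite G]

/-- Points of the quotient torus over the completion are images of points of the cover times rational ones. -/
theorem exists_point_decomp (F : Form K E) (α : G →* (L ≃ₐ[𝕜] L)) (hα : Function.Injective α)
    (r : G →* (E ≃ₐ[K] E)) (j : E →ₐ[K] L) (hdense : DenseRange (algebraMap K 𝕜))
    (hfix : ∀ x, (∀ g, α g x = x) → ∃ c, algebraMap 𝕜 L c = x) (hj : ∀ g e, α g (j e) = j (r g e))
    {J : Type u} [Fintype J] (P Q : Form K E) (eP : PermLat (E ≃ₐ[K] E) J ≃* P.N) (p : P.N →* F.N)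
    (incl : Q.N →* P.N) (heP : ∀ g q, P.ρ g (eP q) = eP (permAct _ J g q))
    (hp : ∀ g m, p (P.ρ g m) = F.ρ g (p m)) (hincl : ∀ g m, incl (Q.ρ g m) = P.ρ g (incl m))
    (hinj : Function.Injective incl) (hexact : ∀ q, p q = 1 ↔ q ∈ Set.range incl)
    {I₀ : Type*} [Fintype I₀] (ei : I₀ → ℤ) (hei : ∑ i, ei i = 1)
    (hcyc : ∀ i (l : ℕ) [Fact l.Prime]
      (U : Sylow l ((MonoidHom.toHomUnits (mulRep (repOf F.ρ) (ei i))).comp r).range), IsCyclic U)
    (d : ℤ) (hd : (d : L) ≠ 0) (htors : ∀ (x : F.N) (k : ℤ), k ≠ 0 → x ^ k = 1 → x ^ d = 1)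
    (t : CoactBr.sp K 𝕜 ⟶ Q.sch) :
    ∃ (x : CoactBr.sp K 𝕜 ⟶ P.sch) (s : CoactBr.sp K K ⟶ Q.sch),
      Q.W t = (P.W x).comp incl * Q.W (CoactBr.pt (Algebra.ofId K 𝕜) ≫ s) := by
  classical
  let Γ := E ≃ₐ[K] E
  -- additive cover
  let eA : (Γ × J → ℤ) ≃+ Additive P.N := (AddEquiv.additiveMultiplicative _).symm.trans eP.toAdditive
  let pA : (Γ × J → ℤ) →ₗ[ℤ] Additive F.N :=
    ((MonoidHom.toAdditive p).comp eA.toAddMonoidHom).toIntLinearMap
  have hpA : ∀ q, pA q = Additive.ofMul (p (eP (Multiplicative.ofAdd q))) := fun q => rfl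
  have hreg : ∀ (g : Γ) (q : Γ × J → ℤ),
      permAct _ J g (Multiplicative.ofAdd q) = Multiplicative.ofAdd (regRep Γ J g q) := fun g q => rfl
  have hpA' : ∀ g q, pA (regRep Γ J g q) = repOf F.ρ g (pA q) := fun g q => by
    rw [hpA, hpA, ← hreg, ← heP, hp]; rfl
  have hker : ∀ m, Multiplicative.toAdd (eP.symm (incl m)) ∈ LinearMap.ker pA := fun m => by
    rw [LinearMap.mem_ker, hpA, ofAdd_toAdd, MulEquiv.apply_symm_apply, (hexact _).2 ⟨m, rfl⟩]
    rfl
  let κ₀ : Additive Q.N →ₗ[ℤ] LinearMap.ker pA :=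
    (AddMonoidHom.toIntLinearMap (eA.symm.toAddMonoidHom.comp (MonoidHom.toAdditive incl))).codRestrict _
      fun m => hker m.toMul
  have hκ : ∀ m, (κ₀ m : Γ × J → ℤ) = Multiplicative.toAdd (eP.symm (incl m.toMul)) := fun m => rfl
  have hκbij : Function.Bijective κ₀ := by
    refine ⟨fun a b h => Additive.toMul.injective (hinj (eP.symm.injective
      (Multiplicative.toAdd.injective (congrArg Subtype.val h)))), fun q => ?_⟩
    have h1 : p (eP (Multiplicative.ofAdd (q : Γ × J → ℤ))) = 1 :=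
      congrArg Additive.toMul (LinearMap.mem_ker.1 q.2)
    obtain ⟨m, hm⟩ := (hexact _).1 h1
    refine ⟨Additive.ofMul m, Subtype.ext ?_⟩
    rw [hκ, toMul_ofMul, hm, MulEquiv.symm_apply_apply, toAdd_ofAdd]
  let κ := LinearEquiv.ofBijective κ₀ hκbij
  have hκeq : ∀ (g : Γ) (m : Q.N),
      (κ (Additive.ofMul (Q.ρ g m)) : Γ × J → ℤ) = regRep Γ J g (κ (Additive.ofMul m)) := fun g m => by
    show Multiplicative.toAdd (eP.symm (incl (Q.ρ g m))) = regRep Γ J g (Multiplicative.toAdd (eP.symm (incl m)))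
    rw [hincl]
    conv_lhs => rw [← eP.apply_symm_apply (incl m), heP, MulEquiv.symm_apply_apply]
    rfl
  -- the character of the point
  let lam : Q.N →* Lˣ := MonoidHom.toHomUnits
    ((evg (𝕜 := 𝕜) j 1).toRingHom.toMonoidHom.comp (Q.W t))
  let t0 : LinearMap.ker pA →ₗ[ℤ] Additive Lˣ :=
    (MonoidHom.toAdditive lam).toIntLinearMap ∘ₗ κ.symm.toLinearMap
  have ht0 : ∀ m, ((t0 (κ (Additive.ofMul m))).toMul : L) = evg j 1 (Q.W t m) := fun m => by
    show ((MonoidHom.toAdditive lam (κ.symm (κ (Additive.ofMul m)))).toMul : L) = _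
    rw [LinearEquiv.symm_apply_apply]; rfl
  have hev : ∀ g z, α g (evg j 1 z) = evg j 1 (galS (r g) 𝕜 z) := fun g z => by
    induction z using TensorProduct.induction_on with
    | zero => simp
    | add a b ha hb => simp only [map_add, ha, hb]
    | tmul a c =>
      rw [Algebra.TensorProduct.map_tmul, evg_tmul, evg_tmul, map_mul, AlgEquiv.commutes, AlgEquiv.one_apply,
        hj]
      rfl
  obtain ⟨v, y, hv, hy, hsplit⟩ := exists_decomp_family α hα r j.toRingHom hdense
    (fun x => by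
      show algebraMap 𝕜 L (algebraMap K 𝕜 x) = j (algebraMap K E x)
      rw [AlgHom.commutes, ← IsScalarTower.algebraMap_apply])
    hfix hj (repOf F.ρ) pA hpA' ei hei hcyc d hd
    (fun x k hk hx => Additive.toMul.injective (by
      have h1 : x.toMul ^ k = 1 := by rw [← toMul_zsmul, hx]; rfl
      rw [toMul_zsmul, htors _ k hk h1, toMul_zero])) t0 fun g q q' hqq => by
      obtain ⟨m, rfl⟩ := κ.surjective q
      have hq' : q' = κ (Additive.ofMul (Q.ρ (r g) m.toMul)) := Subtype.ext (by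
        rw [hκeq]; exact hqq)
      subst hq'
      refine units_ext ?_
      rw [ht0, unitsRep_apply, ringAut_apply, show t0 (κ m) = t0 (κ (Additive.ofMul m.toMul)) from rfl, ht0,
        hev, Q.W_equiv]
  -- the point of the cover
  let b := Module.finBasis K E
  have hcoef : ∀ l : J, ∃ z : E ⊗[K] 𝕜, ∀ g : Γ, evg j g z = ((v (Pi.single (g, l) 1)).toMul : L) := fun l => by
    obtain ⟨c, hc⟩ := exists_coeffs α r j.toRingHom hfix hj b
      (fun g => ((v (Pi.single (g, l) 1)).toMul : L)) fun g g' => by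
        rw [← regRep_single (r g) (g', l), hv, unitsRep_apply, ringAut_apply]
    refine ⟨∑ i, b i ⊗ₜ[K] c i, fun g => ?_⟩
    rw [map_sum, hc]
    exact Finset.sum_congr rfl fun i _ => evg_tmul j g (b i) (c i)
  choose z hz using hcoef
  let uz : J → (E ⊗[K] 𝕜)ˣ := fun l => (isUnit_of_evg j (z := z l) fun g => by
    rw [hz]; exact (v _).toMul.ne_zero).unit
  obtain ⟨x, hx⟩ := exists_coord P eP heP uz
  have hxv : ∀ q : Γ × J → ℤ, evg j 1 (P.W x (eP (Multiplicative.ofAdd q))) = ((v q).toMul : L) := by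
    let lam' : P.N →* Lˣ := MonoidHom.toHomUnits ((evg (𝕜 := 𝕜) j 1).toRingHom.toMonoidHom.comp (P.W x))
    have hB : (MonoidHom.toAdditive lam').toIntLinearMap ∘ₗ eA.toIntLinearEquiv.toLinearMap = v :=
      (Pi.basisFun ℤ (Γ × J)).ext fun x' => by
        refine units_ext ?_
        rw [Pi.basisFun_apply]
        show evg j 1 (P.W x (eP (bv x'))) = _
        have e1 : eP (bv x') = P.ρ x'.1 (eP (bv (1, x'.2))) := by rw [heP, permAct_bv, _root_.mul_one]
        rw [e1, ← P.W_equiv, evg_galS, _root_.one_mul, ← coord_val P eP x x'.2, hx, IsUnit.unit_spec, hz]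
    exact fun q => (congrArg (fun f => ((f q).toMul : L)) hB)
  -- the rational point
  let yv : Q.N → E := fun m => ((y (κ (Additive.ofMul m))).toMul : E)
  let χ : Q.N →* E ⊗[K] K :=
    { toFun := fun m => yv m ⊗ₜ[K] (1 : K)
      map_one' := by
        simp only [yv, ofMul_one, map_zero, toMul_zero, Units.val_one]
        rfl
      map_mul' := fun a c => by
        simp only [yv, ofMul_mul, map_add, toMul_add, Units.val_mul, Algebra.TensorProduct.tmul_mul_tmul,
          _root_.mul_one] }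
  obtain ⟨s, hs⟩ := Q.exists_W χ fun g m => by
    show galS g K (yv m ⊗ₜ[K] (1 : K)) = yv (Q.ρ g m) ⊗ₜ[K] (1 : K)
    rw [Algebra.TensorProduct.map_tmul, AlgHom.id_apply]
    simp only [yv]
    rw [hy g (κ (Additive.ofMul m)) (κ (Additive.ofMul (Q.ρ g m))) (hκeq g m), unitsRep_apply, ringAut_apply]
    rfl
  refine ⟨x, s, MonoidHom.ext fun m => evg_ext j fun g => ?_⟩
  have key : ∀ m, evg j 1 (Q.W t m) =
      evg j 1 (((P.W x).comp incl * Q.W (CoactBr.pt (Algebra.ofId K 𝕜) ≫ s)) m) := by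
    intro m
    rw [MonoidHom.mul_apply, map_mul, MonoidHom.comp_apply, Q.W_comp, hs, ← ht0, hsplit, toMul_add, Units.val_mul,
      ← hxv,
      show (κ (Additive.ofMul m) : Γ × J → ℤ) = Multiplicative.toAdd (eP.symm (incl m)) from rfl, ofAdd_toAdd, MulEquiv.apply_symm_apply, addUnitsMap_apply]
    congr 1
    show j (yv m) = evg j 1 (bmap E (Algebra.ofId K 𝕜) (yv m ⊗ₜ[K] (1 : K)))
    rw [Algebra.TensorProduct.map_tmul, evg_tmul, map_one, map_one, _root_.mul_one]
    rfl
  have h1 := key (Q.ρ g m)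
  rw [← Q.W_equiv, evg_galS, _root_.one_mul] at h1
  rw [h1, MonoidHom.mul_apply, MonoidHom.mul_apply, map_mul, map_mul, MonoidHom.comp_apply, MonoidHom.comp_apply,
    hincl, ← P.W_equiv, ← Q.W_equiv, evg_galS, evg_galS, _root_.one_mul]

end Decomp

end Groth.Misc15.AdicH1
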