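import Mathlib.Analysis.Normed.Unbundled.SpectralNorm
import Mathlib.NumberTheory.Cyclotomic.Gal
import Mathlib.NumberTheory.NumberField.Completion.FinitePlace
import Mathlib.Topology.Algebra.Valued.NormedValued

/-!
A cyclotomic extension of a complete field is cyclic when it is so residually, the order being prime to
the residue characteristic.
-/

set_option autoImplicit false
set_option linter.style.haveILetI false

universe u

open scoped NNReal

noncomputable section

namespace Groth.Misc15.AdicH1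

theorem isCyclic_cyclotomic_of_residue {A : Type u} [CommRing A] [IsLocalRing A] {𝕜 : Type u}
    [NontriviallyNormedField 𝕜] [CompleteSpace 𝕜] [IsUltrametricDist 𝕜] [Algebra A 𝕜]
    (hle : ∀ a, ‖algebraMap A 𝕜 a‖ ≤ 1) (hlt : ∀ a ∈ IsLocalRing.maximalIdeal A, ‖algebraMap A 𝕜 a‖ < 1)
    (d : ℕ) [NeZero (d : IsLocalRing.ResidueField A)] [NeZero (d : 𝕜)]
    (L : Type u) [Field L] [Algebra 𝕜 L] [IsCyclotomicExtension {d} 𝕜 L]
    (L₂ : Type u) [Field L₂] [Algebra (IsLocalRing.ResidueField A) L₂]
    [IsCyclotomicExtension {d} (IsLocalRing.ResidueField A) L₂]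
    (hcyc : IsCyclic (L₂ ≃ₐ[IsLocalRing.ResidueField A] L₂)) :
    IsCyclic (L ≃ₐ[𝕜] L) := by
  haveI : NeZero d := ⟨fun h => NeZero.ne (d : 𝕜) (by rw [h, Nat.cast_zero])⟩
  let κ := IsLocalRing.ResidueField A
  haveI : FiniteDimensional 𝕜 L := IsCyclotomicExtension.finiteDimensional {d} 𝕜 L
  haveI : IsGalois κ L₂ := IsCyclotomicExtension.isGalois {d} κ L₂
  have hζ := IsCyclotomicExtension.zeta_spec d 𝕜 L
  have hζ₂ := IsCyclotomicExtension.zeta_spec d κ L₂
  letI : NontriviallyNormedField L := spectralNorm.nontriviallyNormedField 𝕜 L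
  letI : NormedAlgebra 𝕜 L := spectralNorm.normedAlgebra 𝕜 L
  haveI : IsUltrametricDist L :=
    IsUltrametricDist.isUltrametricDist_of_isNonarchimedean_norm isNonarchimedean_spectralNorm
  let B : ValuationSubring L := (NormedField.valuation (K := L)).valuationSubring
  have hB : ∀ x : L, x ∈ B ↔ ‖x‖ ≤ 1 := fun x => by
    rw [Valuation.mem_valuationSubring_iff, ← NNReal.coe_le_coe]; rfl
  have hunit : ∀ x : B, IsUnit x → ‖(x : L)‖ = 1 := fun x hx => by
    obtain ⟨u, rfl⟩ := hx
    have h1 := (hB _).1 (u : B).2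
    have h2 := (hB _).1 ((u⁻¹ : Bˣ) : B).2
    have h3 : ‖((u : B) : L)‖ * ‖(((u⁻¹ : Bˣ) : B) : L)‖ = 1 := by
      rw [← norm_mul, ← MulMemClass.coe_mul, Units.mul_inv, OneMemClass.coe_one, norm_one]
    nlinarith [norm_nonneg ((u : B) : L), norm_nonneg (((u⁻¹ : Bˣ) : B) : L)]
  let f : A →+* B := ((algebraMap 𝕜 L).comp (algebraMap A 𝕜)).codRestrict B.toSubring fun a => by
    rw [ValuationSubring.mem_toSubring, hB, RingHom.comp_apply, norm_algebraMap']
    exact hle a
  haveI : IsLocalHom f := ⟨fun a ha => by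
    by_contra hna
    have h1 := hunit _ ha
    have h2 : ‖(f a : L)‖ < 1 := by
      show ‖algebraMap 𝕜 L (algebraMap A 𝕜 a)‖ < 1
      rw [norm_algebraMap']
      exact hlt a ((IsLocalRing.mem_maximalIdeal _).2 hna)
    exact h2.ne h1⟩
  let L' := IsLocalRing.ResidueField B
  letI : Algebra κ L' := (IsLocalRing.ResidueField.map f).toAlgebra
  haveI : NeZero (d : L') := ⟨by
    rw [← map_natCast (algebraMap κ L'), map_ne_zero]
    exact NeZero.ne _⟩
  have hζB : IsCyclotomicExtension.zeta d 𝕜 L ∈ B := by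
    rw [hB, ((pow_eq_one_iff_of_nonneg (norm_nonneg _) (NeZero.ne d)).1 (by
      rw [← norm_pow, hζ.pow_eq_one, norm_one]))]
  let zB : B := ⟨_, hζB⟩
  have hzB : IsPrimitiveRoot zB d := IsPrimitiveRoot.of_map_of_injective (f := B.subtype) hζ Subtype.val_injective
  let z : L' := IsLocalRing.residue B zB
  have hz : IsPrimitiveRoot z d := by
    rw [← Polynomial.isRoot_cyclotomic_iff, ← Polynomial.map_cyclotomic d (IsLocalRing.residue B)]
    exact (hzB.isRoot_cyclotomic (NeZero.pos d)).map
  haveI : Polynomial.IsSplittingField κ L₂ (Polynomial.X ^ d - 1) :=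
    IsCyclotomicExtension.isSplittingField_X_pow_sub_one d κ L₂
  let emb : L₂ →ₐ[κ] L' := Polynomial.IsSplittingField.lift L₂ (Polynomial.X ^ d - 1) (by
    simpa using Polynomial.X_pow_sub_one_splits hz)
  letI : Algebra L₂ L' := emb.toRingHom.toAlgebra
  haveI : IsScalarTower κ L₂ L' := IsScalarTower.of_algebraMap_eq fun x => (emb.commutes x).symm
  have hrange : (hζ.autToPow 𝕜).range ≤ (hζ₂.autToPow κ).range := by
    rintro _ ⟨σ, rfl⟩
    let t := ((hζ.autToPow 𝕜 σ : (ZMod d)ˣ) : ZMod d).val
    have hiso : ∀ x : L, ‖σ x‖ = ‖x‖ := fun x => (spectralNorm_eq_of_equiv σ x).symm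
    have hmem : ∀ x ∈ B, σ x ∈ B := fun x hx => (hB (σ x)).2 (le_of_eq_of_le (hiso x) ((hB x).1 hx))
    obtain ⟨σB, hσB⟩ : ∃ s : B →+* B, ∀ x, (s x : L) = σ (x : L) :=
      ⟨{ toFun := fun x => ⟨σ (x : L), hmem x.1 x.2⟩
         map_one' := Subtype.ext (map_one σ)
         map_mul' := fun x y => Subtype.ext (map_mul σ _ _)
         map_zero' := Subtype.ext (map_zero σ)
         map_add' := fun x y => Subtype.ext (map_add σ _ _) }, fun _ => rfl⟩
    haveI : IsLocalHom σB := ⟨fun a ha => by
      have h1 : ‖σ (a : L)‖ = 1 := by rw [← hσB]; exact hunit _ ha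
      rw [hiso] at h1
      refine isUnit_iff_exists_inv.2 ⟨⟨(a : L)⁻¹, (hB _).2 (by rw [norm_inv, h1, inv_one])⟩, Subtype.ext ?_⟩
      exact mul_inv_cancel₀ (fun h0 => by simp [h0] at h1)⟩
    let σr : L' →ₐ[κ] L' :=
      { IsLocalRing.ResidueField.map σB with
        commutes' := fun k => by
          obtain ⟨a, rfl⟩ := IsLocalRing.residue_surjective k
          show IsLocalRing.ResidueField.map σB (IsLocalRing.ResidueField.map f (IsLocalRing.residue A a)) =
            IsLocalRing.ResidueField.map f (IsLocalRing.residue A a)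
          rw [IsLocalRing.ResidueField.map_residue, IsLocalRing.ResidueField.map_residue]
          congr 1
          exact Subtype.ext ((hσB _).trans (σ.commutes _)) }
    have hσz : σr z = z ^ t := by
      show IsLocalRing.ResidueField.map σB (IsLocalRing.residue B zB) = z ^ t
      rw [IsLocalRing.ResidueField.map_residue, ← map_pow]
      congr 1
      refine Subtype.ext ((hσB _).trans ?_)
      show σ (IsCyclotomicExtension.zeta d 𝕜 L) = _
      rw [← hζ.autToPow_spec 𝕜 σ]
      rfl
    obtain ⟨g, hg⟩ : ∃ g : L₂ ≃ₐ[κ] L₂, ∀ x, emb (g x) = σr (emb x) :=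
      ⟨σr.restrictNormal' L₂, fun x => σr.restrictNormal_commutes L₂ x⟩
    let w := IsCyclotomicExtension.zeta d κ L₂
    obtain ⟨i, -, hi⟩ := hz.eq_pow_of_pow_eq_one (show emb w ^ d = 1 by
      rw [← map_pow, hζ₂.pow_eq_one, map_one])
    have hgw : g w = w ^ t := emb.injective (by
      show emb (g w) = emb (w ^ t)
      rw [hg, map_pow, ← hi, map_pow, hσz, ← pow_mul, ← pow_mul, mul_comm])
    refine ⟨g, Units.ext ?_⟩
    rw [← hζ₂.autToPow_spec κ g] at hgw
    have h1 := hζ₂.pow_inj (ZMod.val_lt _) (ZMod.val_lt _) hgw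
    exact ZMod.val_injective d h1
  haveI : IsCyclic (hζ₂.autToPow κ).range := isCyclic_of_surjective _ (MonoidHom.rangeRestrict_surjective _)
  haveI : IsCyclic (hζ.autToPow 𝕜).range := isCyclic_of_injective _ (Subgroup.inclusion_injective hrange)
  exact (MonoidHom.ofInjective (hζ.autToPow_injective 𝕜)).isCyclic.2 inferInstance

theorem isCyclic_cyclotomic_adicCompletion (A : Type u) [CommRing A] [IsDomain A] [IsDiscreteValuationRing A]
    (v : IsDedekindDomain.HeightOneSpectrum A) (d : ℕ) [NeZero (d : IsLocalRing.ResidueField A)]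
    (hcyc : IsCyclic (CyclotomicField d (IsLocalRing.ResidueField A) ≃ₐ[IsLocalRing.ResidueField A]
      CyclotomicField d (IsLocalRing.ResidueField A))) :
    IsCyclic (CyclotomicField d (v.adicCompletion (FractionRing A)) ≃ₐ[v.adicCompletion (FractionRing A)]
      CyclotomicField d (v.adicCompletion (FractionRing A))) := by
  let Kv := v.adicCompletion (FractionRing A)
  letI : (Valued.v : Valuation Kv (WithZero (Multiplicative ℤ))).RankOne :=
    Valuation.IsRankOneDiscrete.rankOne _ (show (1 : NNReal) < 2 by norm_num)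
  letI : NontriviallyNormedField Kv :=
    Valued.toNontriviallyNormedField (L := Kv) (Γ₀ := WithZero (Multiplicative ℤ))
  have hv : ∀ a : A, Valued.v (algebraMap A Kv a) = v.valuation (FractionRing A) (algebraMap A _ a) := fun a => by
    rw [IsScalarTower.algebraMap_apply A (FractionRing A) Kv]
    exact v.valuedAdicCompletion_eq_valuation' _
  have hm : v.asIdeal = IsLocalRing.maximalIdeal A := IsLocalRing.eq_maximalIdeal v.isMaximal
  haveI : NeZero (d : Kv) := ⟨fun h0 => by
    have hinj : Function.Injective (algebraMap A Kv) := by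
      rw [IsScalarTower.algebraMap_eq A (FractionRing A) Kv]
      exact (algebraMap (FractionRing A) Kv).injective.comp (IsFractionRing.injective A (FractionRing A))
    have h1 : (d : A) = 0 := hinj (by rw [map_natCast, map_zero]; exact h0)
    exact NeZero.ne (d : IsLocalRing.ResidueField A) (by
      rw [← map_natCast (IsLocalRing.residue A), h1, map_zero])⟩
  haveI : NeZero d := ⟨fun h => NeZero.ne (d : IsLocalRing.ResidueField A) (by rw [h, Nat.cast_zero])⟩
  haveI := CyclotomicField.isCyclotomicExtension d Kv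
  haveI := CyclotomicField.isCyclotomicExtension d (IsLocalRing.ResidueField A)
  refine isCyclic_cyclotomic_of_residue (A := A) (fun a => ?_) (fun a ha => ?_) d (CyclotomicField d Kv)
    (CyclotomicField d (IsLocalRing.ResidueField A)) hcyc
  · rw [Valued.toNormedField.norm_le_one_iff, hv]
    exact v.valuation_le_one a
  · rw [Valued.toNormedField.norm_lt_one_iff, hv, v.valuation_lt_one_iff_mem]
    rwa [hm]

end Groth.Misc15.AdicH1
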